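import Cfsg.Agent.Lib.TrialityBalance.NormalCore
import Cfsg.Agent.Lib.AutPO.Balance
import Cfsg.Agent.Lib.AutPOmega.InndiagEight

/-!
The automorphisms of `PΩ⁺₈`: triality, the image of the octonion automorphisms, and the field part.
-/

set_option autoImplicit false
set_option maxHeartbeats 800000

namespace Cfsg.Agent.TrialityBalance

open scoped Matrix MatrixGroups
open Matrix (adjugate det)
open Triality (omul oconj oone ap Rel ext8 N8_apply)
open QForm (plusForm)
open ClassicalSimple (GO simAut scalarGO omegaSub scalarSub)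
open AutPO (fieldA fixes_plus mapGO Dg Semi semiA)
open LocalBalance (fixK mul_conj)

universe u

variable {F : Type u} [Field F] [Fintype F]

local notation "I8" => (Fin 4 ⊕ Fin 4)
local notation "V8" => (Fin 4 ⊕ Fin 4 → F)
local notation "N8" => plusForm F 4
local notation "M2" => Matrix (Fin 2) (Fin 2) F

/-- The automorphism group. -/
abbrev Aut8 (F : Type u) [Field F] : Type u := MulAut (POmega F ⇑(plusForm F 4))

/-- The field automorphism. -/
noncomputable abbrev fA (σ : F ≃+* F) : Aut8 F := fieldA (fixes_plus (m := 4) σ)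

/-- The entrywise image. -/
noncomputable abbrev mapF (σ : F ≃+* F) : GO (plusForm F 4) →* GO (plusForm F 4) := mapGO (fixes_plus (m := 4) σ)

theorem simAut_eq {h k : GO N8} (c : F) (hc : ∀ v, ap h v = c • ap k v) : simAut N8 h = simAut N8 k := by
  have h0 : c ≠ 0 := fun e => by
    have := hc (ap h⁻¹ oone)
    rw [Triality.ap_inv_ap, e, zero_smul] at this
    exact oone_ne this
  exact Triality.simAut_eq_iff8.2 ⟨Units.mk0 c h0, Triality.ap_ext fun v => by
    rw [Triality.ap_mul, Triality.ap_scalar, hc, Units.val_mk0]⟩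

theorem exists_smul {h k : GO N8} (e : simAut N8 h = simAut N8 k) :
    ∃ c : F, c ≠ 0 ∧ ∀ v, ap h v = c • ap k v := by
  obtain ⟨c, rfl⟩ := Triality.simAut_eq_iff8.1 e
  exact ⟨c, c.ne_zero, fun v => by rw [Triality.ap_mul, Triality.ap_scalar]⟩

/-- An automorphism of the octonions as a similarity. -/
def toGO : Gm F →* GO (plusForm F 4) where
  toFun g := ⟨g.1, 1, fun v => by
    have := ((isSOct_gap g).map_tr_norm v).2
    rw [Units.val_one, one_mul]
    exact this⟩
  map_one' := rfl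
  map_mul' _ _ := rfl

theorem ap_toGO (g : Gm F) (v : V8) : ap (toGO g) v = gap g v := rfl

theorem rel_toGO (g : Gm F) : Rel (toGO g) (toGO g) (toGO g) := fun u v => gap_omul g u v

/-- The automorphism of `POmega` of an automorphism of the octonions. -/
noncomputable def theta : Gm F →* Aut8 F := (simAut (plusForm F 4)).comp toGO

theorem theta_apply (g : Gm F) : theta g = simAut N8 (toGO g) := rfl

theorem theta_injective : Function.Injective (theta (F := F)) := by
  refine (injective_iff_map_eq_one _).2 fun g hg => ?_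
  obtain ⟨c, -, hc⟩ := exists_smul (h := toGO g) (k := 1) (by rw [← theta_apply, hg, map_one])
  have h1 := hc oone
  rw [ap_toGO, gap_oone, Triality.ap_one] at h1
  have hc1 : c = 1 := by simpa [oone] using (congrFun h1 (Sum.inl 0)).symm
  refine gap_ext fun X Y => ?_
  rw [gap_one, ← ap_toGO, hc, hc1, one_smul, Triality.ap_one]

theorem toGO_mem_Dg (g : Gm F) : toGO g ∈ Dg N8 4 := AutPOmega.TG_le_Dg ⟨_, _, rel_toGO g⟩

/-- Class-preserving similarities lie in related triples. -/
theorem exists_triple {h : GO N8} (hh : h ∈ Dg N8 4) : ∃ h1 h2, Rel h h1 h2 := by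
  obtain ⟨k, hk, e⟩ : AutPOmega.clsGO N8 h ∈ AutPOmega.tgCls (F := F) :=
    AutPOmega.Dg_map_eq_tgCls (F := F) ▸ Subgroup.mem_map_of_mem _ hh
  obtain ⟨ω, hω, hωe⟩ := (AutPOmega.clsGO_eq_one_iff N8).1
    (show AutPOmega.clsGO N8 (k⁻¹ * h) = 1 by rw [map_mul, map_inv, e, inv_mul_cancel])
  obtain ⟨c, hc⟩ := Triality.simAut_eq_iff8.1 (show simAut N8 h = simAut N8 (k * ω) by
    rw [map_mul, hωe, ← map_mul, mul_inv_cancel_left])
  exact hc ▸ mul_mem (Triality.scalar_mem_TG c) (mul_mem hk (Triality.omegaSub_le_TG hω))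

theorem ap_mapF (σ : F ≃+* F) (g : GO N8) (x : V8) : ap (mapF σ g) (σ ∘ x) = σ ∘ ap g x :=
  AutPO.gmap_mulVec σ g.1 x

theorem omul_comp (σ : F ≃+* F) (u v : V8) : omul (σ ∘ u) (σ ∘ v) = σ ∘ omul u v :=
  ext8 fun i => by fin_cases i <;> simp [omul, map_add, map_sub, map_mul]

theorem comp_symm_comp (σ : F ≃+* F) (u : V8) : σ ∘ (σ.symm ∘ u) = u := funext fun _ => σ.apply_symm_apply _

theorem rel_mapF (σ : F ≃+* F) {g g1 g2 : GO N8} (r : Rel g g1 g2) : Rel (mapF σ g) (mapF σ g1) (mapF σ g2) := by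
  intro u v
  rw [← comp_symm_comp σ u, ← comp_symm_comp σ v, ap_mapF, ap_mapF, omul_comp, ap_mapF, r, omul_comp]

theorem mapF_mem_Dg (σ : F ≃+* F) {h : GO N8} (hh : h ∈ Dg N8 4) : mapF σ h ∈ Dg N8 4 := by
  obtain ⟨h1, h2, r⟩ := exists_triple hh
  exact AutPOmega.TG_le_Dg ⟨_, _, rel_mapF σ r⟩

theorem fA_mul (σ τ : F ≃+* F) : fA σ * fA τ = fA (σ * τ) :=
  AutPOmega.fieldA_mul _ _ _

theorem fA_one : fA (1 : F ≃+* F) = 1 := by
  have h := AutPO.fieldA_pow_eq_one (fixes_plus (m := 4) (1 : F ≃+* F)) (k := 1) (by simp)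
  rwa [pow_one] at h

theorem fA_simAut (σ : F ≃+* F) (h : GO N8) : fA σ * simAut N8 h = simAut N8 (mapF σ h) * fA σ :=
  AutPO.fieldA_mul_simAut _ h

theorem sigma_eq {σ τ : F ≃+* F} {h k : GO N8} (e : simAut N8 h * fA σ = simAut N8 k * fA τ) : σ = τ := by
  rw [AutPO.simAut_mul_fieldA, AutPO.simAut_mul_fieldA] at e
  exact AutPOmega.sigma_unique AutPOmega.nondeg_bil8 Triality.five8 (AutPOmega.probe_plus (by norm_num)) _ _ e

theorem eq_sim_field {g : GL I8 F} {σ : F ≃+* F} (hp : Semi N8 g σ) :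
    ∃ h : GO N8, semiA hp = simAut N8 h * fA σ :=
  AutPOmega.semi_eq_field (fixes_plus σ) hp

/-- Class-preserving similarities times field automorphisms. -/
def NF (F : Type u) [Field F] [Fintype F] : Subgroup (Aut8 F) where
  carrier := {β | ∃ h ∈ Dg (plusForm F 4) 4, ∃ σ : F ≃+* F, β = simAut (plusForm F 4) h * fA σ}
  mul_mem' := by
    rintro _ _ ⟨h, hh, σ, rfl⟩ ⟨k, hk, τ, rfl⟩
    refine ⟨h * mapF σ k, mul_mem hh (mapF_mem_Dg σ hk), σ * τ, ?_⟩
    rw [map_mul, ← fA_mul, mul_assoc, ← mul_assoc (fA σ), fA_simAut]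
    simp only [mul_assoc]
  one_mem' := ⟨1, one_mem _, 1, by rw [map_one, fA_one, one_mul]⟩
  inv_mem' := by
    rintro _ ⟨h, hh, σ, rfl⟩
    refine ⟨mapF σ⁻¹ h⁻¹, mapF_mem_Dg _ (inv_mem hh), σ⁻¹, ?_⟩
    rw [← fA_simAut, mul_inv_rev, map_inv]
    congr 1
    exact inv_eq_of_mul_eq_one_right (by rw [fA_mul, mul_inv_cancel, fA_one])

theorem mem_NF {β : Aut8 F} :
    β ∈ NF F ↔ ∃ h ∈ Dg (plusForm F 4) 4, ∃ σ : F ≃+* F, β = simAut (plusForm F 4) h * fA σ := Iff.rfl

theorem simAut_mem_NF {h : GO N8} (hh : h ∈ Dg N8 4) : simAut N8 h ∈ NF F :=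
  ⟨h, hh, 1, by rw [fA_one, mul_one]⟩

theorem fA_mem_NF (σ : F ≃+* F) : fA σ ∈ NF F := ⟨1, one_mem _, σ, by rw [map_one, one_mul]⟩

theorem conj_mem_NF (k : POmega F ⇑(N8 : QuadraticForm F V8)) : MulAut.conj k ∈ NF F := by
  obtain ⟨g, g1, g2, hg, -, e⟩ := Triality.inn_le_TG k
  exact e ▸ simAut_mem_NF (AutPO.omega_le_Dg hg)

theorem conjG_mem_or {C : GO N8} (hC : ∀ x, ap C x = oconj x) (h : GO N8) :
    h ∈ Dg N8 4 ∨ C * h ∈ Dg N8 4 := by
  have hC' : C ∉ Dg N8 4 := by
    intro hm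
    refine AutPO.reflG_notMem Triality.nondeg8 AutPOmega.four_mul_two (by norm_num) (oone : V8)
      Triality.N8_oone_ne ?_
    rw [show AutPO.reflG (oone : V8) Triality.N8_oone_ne = scalarGO N8 (-1) * C from Triality.ap_ext fun x => by
      rw [Triality.ap_reflG_oone, Triality.ap_mul, Triality.ap_scalar, hC, Units.val_neg, Units.val_one,
        neg_one_smul]]
    exact mul_mem (AutPO.scalar_le_Dg AutPOmega.four_mul_two (ClassicalSimple.scalarGO_mem _)) hm
  by_cases hh : h ∈ Dg N8 4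
  · exact Or.inl hh
  · exact Or.inr ((AutPO.mul_mem_Dg_iff Triality.nondeg8 AutPOmega.four_mul_two (by norm_num) C h).2
      (iff_of_false hC' hh))

theorem eq_smul_oone_of_central {k : V8} (h : ∀ w : V8, omul k w = omul w k) : k = k (.inl 0) • oone := by
  have key := fun i l => congrFun (h (Pi.single i 1)) l
  have a1 := key (.inl 1) (.inl 1)
  have b1 := key (.inr 1) (.inl 0)
  have b2 := key (.inr 2) (.inl 0)
  have b3 := key (.inr 3) (.inl 0)
  have c1 := key (.inl 1) (.inl 0)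
  have c2 := key (.inl 2) (.inl 0)
  have c3 := key (.inl 3) (.inl 0)
  simp [omul] at a1 b1 b2 b3 c1 c2 c3
  refine ext8 fun i => ?_
  fin_cases i <;> simp [oone] <;> grind

/-- A triality automorphism and the conjugation. -/
structure Tri (F : Type u) [Field F] [Fintype F] where
  mk' ::
  φ : Aut8 F
  C : GO (plusForm F 4)
  sq : φ * φ = 1
  rel : ∀ g g1 g2 : GO (plusForm F 4), Rel g g1 g2 →
    φ * simAut (plusForm F 4) g = simAut (plusForm F 4) g1 * φ
  apC : ∀ x, ap C x = oconj x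

theorem exists_tri : Nonempty (Tri F) := by
  obtain ⟨φ, hφ, hr⟩ := Triality.exists_triality (F := F)
  obtain ⟨C, hC⟩ := Triality.exists_conjGO (F := F)
  exact ⟨⟨φ, C, hφ, hr, hC⟩⟩

variable (T : Tri F)

/-- The standard triality of order three. -/
noncomputable def Tri.tau : Aut8 F := T.φ * simAut (plusForm F 4) T.C

theorem Tri.inv_phi : T.φ⁻¹ = T.φ := inv_eq_of_mul_eq_one_right T.sq

theorem Tri.C_C : simAut N8 T.C * simAut N8 T.C = 1 := by rw [← map_mul, Triality.conj_mul_self T.apC, map_one]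

theorem Tri.inv_C : (simAut N8 T.C)⁻¹ = simAut N8 T.C := inv_eq_of_mul_eq_one_right T.C_C

theorem Tri.braid : T.φ * simAut N8 T.C * T.φ = simAut N8 T.C * T.φ * simAut N8 T.C :=
  Triality.triality_braid T.sq T.rel T.apC

theorem Tri.tau_inv : T.tau⁻¹ = simAut N8 T.C * T.φ := by rw [Tri.tau, mul_inv_rev, T.inv_C, T.inv_phi]

theorem Tri.tau_cube : T.tau ^ 3 = 1 := by
  rw [pow_succ, pow_two, Tri.tau, show T.φ * simAut N8 T.C * (T.φ * simAut N8 T.C) * (T.φ * simAut N8 T.C) =
    (T.φ * simAut N8 T.C * T.φ) * (simAut N8 T.C * T.φ * simAut N8 T.C) by simp only [mul_assoc], ← T.braid]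
  rw [show T.φ * simAut N8 T.C * T.φ * (T.φ * simAut N8 T.C * T.φ) =
    T.φ * simAut N8 T.C * (T.φ * T.φ) * simAut N8 T.C * T.φ by simp only [mul_assoc], T.sq, mul_one,
    mul_assoc T.φ (simAut N8 T.C), T.C_C, mul_one, T.sq]

theorem Tri.tau_sim {h h1 h2 : GO N8} (r : Rel h h1 h2) :
    T.tau * simAut N8 h = simAut N8 (T.C * h2 * T.C) * T.tau := by
  rw [Tri.tau, ← mul_assoc _ T.φ, ← T.rel _ _ _ (r.conj T.apC), map_mul, map_mul, mul_assoc, mul_assoc,
    mul_assoc (simAut N8 T.C * simAut N8 h), T.C_C, mul_one]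

theorem Tri.tau_inv_sim {h h1 h2 : GO N8} (r : Rel h h1 h2) :
    T.tau⁻¹ * simAut N8 h = simAut N8 (T.C * h1 * T.C) * T.tau⁻¹ := by
  rw [T.tau_inv, mul_assoc, T.rel _ _ _ r, map_mul, map_mul]
  simp only [mul_assoc]
  rw [← mul_assoc (simAut N8 T.C) (simAut N8 T.C), T.C_C, one_mul]

theorem Tri.C_toGO (g : Gm F) : T.C * toGO g * T.C = toGO g := Triality.ap_ext fun x => by
  rw [Triality.ap_mul, Triality.ap_mul, T.apC, T.apC, ap_toGO, (isSOct_gap g).map_oconj, Triality.oconj_oconj]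
  rfl

theorem Tri.tau_theta (g : Gm F) : Commute T.tau (theta g) := by
  show T.tau * theta g = theta g * T.tau
  rw [theta_apply, T.tau_sim (rel_toGO g), T.C_toGO]

theorem Tri.C_field (σ : F ≃+* F) : Commute (fA σ) (simAut N8 T.C) := by
  show fA σ * _ = _ * fA σ
  rw [fA_simAut]
  congr 2
  refine Triality.ap_ext fun x => ?_
  rw [← comp_symm_comp σ x, ap_mapF, T.apC, T.apC]
  exact ext8 fun i => by fin_cases i <;> simp [oconj]

theorem Tri.tau_field (σ : F ≃+* F) : Commute T.tau (fA σ) :=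
  ((Triality.triality_field T.sq T.rel σ).mul_left (T.C_field σ).symm)

/-- A class-preserving similarity commuting with triality is an automorphism up to a scalar. -/
theorem Tri.eq_theta_of_commute {h : GO N8} (hh : h ∈ Dg N8 4) (hc : Commute T.tau (simAut N8 h)) :
    ∃ g : Gm F, simAut N8 h = theta g := by
  obtain ⟨h1, h2, r⟩ := exists_triple hh
  have e2 : simAut N8 (T.C * h2 * T.C) = simAut N8 h := mul_right_cancel ((T.tau_sim r).symm.trans hc.eq)
  have e1 : simAut N8 (T.C * h1 * T.C) = simAut N8 h := mul_right_cancel ((T.tau_inv_sim r).symm.trans hc.inv_left.eq)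
  obtain ⟨c, hc0, hc2⟩ := exists_smul e2
  obtain ⟨d, hd0, hd1⟩ := exists_smul e1
  have r1 : ∀ u, ap h1 (oconj u) = d • oconj (ap h u) := fun u => by
    have := hd1 u
    rw [Triality.ap_mul, Triality.ap_mul, T.apC, T.apC] at this
    rw [← Triality.oconj_oconj (ap h1 (oconj u)), this]
    exact ext8 fun i => by fin_cases i <;> simp [oconj]
  have r2 : ∀ u, ap h2 (oconj u) = c • oconj (ap h u) := fun u => by
    have := hc2 u
    rw [Triality.ap_mul, Triality.ap_mul, T.apC, T.apC] at this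
    rw [← Triality.oconj_oconj (ap h2 (oconj u)), this]
    exact ext8 fun i => by fin_cases i <;> simp [oconj]
  have key : ∀ u v, ap h (omul (oconj u) (oconj v)) = (d * c) • omul (oconj (ap h u)) (oconj (ap h v)) :=
    fun u v => by rw [r, r1, r2, Triality.omul_smul_left, Triality.omul_smul_right, smul_smul]
  set P := oconj (ap h oone)
  have hl : ∀ v, ap h (oconj v) = (d * c) • omul P (oconj (ap h v)) := fun v => by
    have := key oone v
    rwa [Triality.oconj_oone, Triality.oone_omul] at this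
  have hr : ∀ v, ap h (oconj v) = (d * c) • omul (oconj (ap h v)) P := fun v => by
    have := key v oone
    rwa [Triality.oconj_oone, Triality.omul_oone] at this
  have hcen : ∀ w, omul P w = omul w P := fun w => by
    have e := (hl (ap h⁻¹ (oconj w))).symm.trans (hr (ap h⁻¹ (oconj w)))
    rw [Triality.ap_inv_ap, Triality.oconj_oconj] at e
    exact smul_right_injective V8 (mul_ne_zero hd0 hc0) e
  set a := P (.inl 0)
  set m := d * c * a
  have hm : ∀ v, ap h (oconj v) = m • oconj (ap h v) := fun v => by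
    rw [hl, eq_smul_oone_of_central hcen, Triality.omul_smul_left, Triality.oone_omul, smul_smul]
  have hm0 : m ≠ 0 := fun e => oone_ne (show (oone : V8) = 0 by
    have := hm (oconj (ap h⁻¹ oone))
    rwa [Triality.oconj_oconj, Triality.ap_inv_ap, e, zero_smul] at this)
  have hmul : ∀ u v, ap h (omul u v) = (d * c * (m⁻¹ * m⁻¹)) • omul (ap h u) (ap h v) := fun u v => by
    have hh' : ∀ u, oconj (ap h (oconj u)) = m⁻¹ • ap h u := fun u => by
      have := hm (oconj u)
      rw [Triality.oconj_oconj] at this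
      rw [this, inv_smul_smul₀ hm0]
    have := key (oconj u) (oconj v)
    rw [Triality.oconj_oconj, Triality.oconj_oconj] at this
    rw [this, hh', hh', Triality.omul_smul_left, Triality.omul_smul_right, smul_smul, smul_smul]
    ring_nf
  set e := d * c * (m⁻¹ * m⁻¹)
  have he : e ≠ 0 := mul_ne_zero (mul_ne_zero hd0 hc0) (mul_ne_zero (inv_ne_zero hm0) (inv_ne_zero hm0))
  set k := scalarGO N8 (Units.mk0 e he) * h
  refine ⟨⟨k.1, fun u v => ?_⟩, (simAut_eq e⁻¹ fun v => ?_)⟩
  · show ap k (omul u v) = omul (ap k u) (ap k v)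
    simp only [k, Triality.ap_mul, Triality.ap_scalar, Units.val_mk0, hmul, Triality.omul_smul_left,
      Triality.omul_smul_right, smul_smul]
  · show ap h v = e⁻¹ • ap k v
    rw [Triality.ap_mul, Triality.ap_scalar, Units.val_mk0, inv_smul_smul₀ he]

/-- Elements of odd order are inner; all are in characteristic two. -/
theorem inner_of_pow {h : GO N8} (hh : h ∈ Dg N8 4) {n : ℕ} (hn : simAut N8 h ^ n = 1)
    (hodd : Odd n ∨ (2 : F) = 0) : ∃ k, MulAut.conj k = simAut N8 h := by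
  suffices hi : simAut N8 h ∈ Inn (POmega F ⇑(N8 : QuadraticForm F V8)) by
    obtain ⟨k, hk⟩ := hi; exact ⟨k, hk⟩
  have hker : (omegaSub (N8 : QuadraticForm F V8) ⊔ scalarSub N8).map (simAut N8) ≤
      Inn (POmega F ⇑(N8 : QuadraticForm F V8)) := by
    rw [Subgroup.map_sup, ← ClassicalSimple.inn_eq, sup_le_iff]
    refine ⟨le_rfl, ?_⟩
    rw [← ClassicalSimple.ker_simAut (N8 : QuadraticForm F V8) Triality.nondeg8 Triality.five8,
      (Subgroup.map_eq_bot_iff _).2 le_rfl]
    exact bot_le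
  rcases hodd with hodd | h2
  · have h4 : simAut N8 h ^ 4 ∈ Inn (POmega F ⇑(N8 : QuadraticForm F V8)) := by
      rw [← map_pow]
      exact hker (Subgroup.mem_map_of_mem _ (AutPO.pow_four_mem Triality.nondeg8 Triality.five8 h))
    obtain ⟨q, hq⟩ := hodd
    rcases Nat.even_or_odd q with ⟨s, hs⟩ | ⟨s, hs⟩
    · have e : simAut N8 h = ((simAut N8 h ^ 4) ^ s)⁻¹ := by
        rw [eq_inv_iff_mul_eq_one, ← pow_mul, ← pow_succ', ← hn]
        congr 1; omega
      rw [e]; exact inv_mem (pow_mem h4 s)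
    · have e : simAut N8 h = (simAut N8 h ^ 4) ^ (s + 1) := by
        rw [← pow_mul, show 4 * (s + 1) = n + 1 by omega, pow_succ, hn, one_mul]
      rw [e]; exact pow_mem h4 _
  · rw [AutPO.Dg_two _ 4 h2] at hh
    exact hker (Subgroup.mem_map_of_mem _ hh)

/-- An element of finite odd order in the octonion automorphisms gives an inner automorphism. -/
theorem theta_inner {g : Gm F} {n : ℕ} (hn : g ^ n = 1) (hodd : Odd n ∨ (2 : F) = 0) :
    ∃ k, MulAut.conj k = theta g :=
  inner_of_pow (toGO_mem_Dg g) (by rw [← theta_apply, ← map_pow, hn, map_one]) hodd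

end Cfsg.Agent.TrialityBalance
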