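import Mathlib

/-!
Common zeros of a quadratic and a cubic map, and Hilbert's theorem 90 for `GL₂` over a cubic extension.
-/

set_option autoImplicit false

namespace Cfsg.Agent.TrialityBalance

open scoped Matrix

section Zero

variable {K W U₂ U₃ : Type*} [Field K] [Fintype K] [AddCommGroup W] [Module K W] [FiniteDimensional K W]
  [AddCommGroup U₂] [Module K U₂] [FiniteDimensional K U₂]
  [AddCommGroup U₃] [Module K U₃] [FiniteDimensional K U₃]

theorem exists_common_zero (B : W →ₗ[K] W →ₗ[K] U₂) (M : W →ₗ[K] W →ₗ[K] W →ₗ[K] U₃)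
    (h : 2 * Module.finrank K U₂ + 3 * Module.finrank K U₃ < Module.finrank K W) :
    ∃ a, a ≠ 0 ∧ B a a = 0 ∧ M a a a = 0 := by
  classical
  let b := Module.finBasis K W
  let b₂ := Module.finBasis K U₂
  let b₃ := Module.finBasis K U₃
  let f : Fin (Module.finrank K U₂) ⊕ Fin (Module.finrank K U₃) → MvPolynomial (Fin (Module.finrank K W)) K :=
    Sum.elim
      (fun k => ∑ i, ∑ j, MvPolynomial.C (b₂.repr (B (b i) (b j)) k) * (MvPolynomial.X i * MvPolynomial.X j))
      (fun k => ∑ i, ∑ j, ∑ l, MvPolynomial.C (b₃.repr (M (b i) (b j) (b l)) k) *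
        (MvPolynomial.X i * (MvPolynomial.X j * MvPolynomial.X l)))
  have hX : ∀ i : Fin (Module.finrank K W), (MvPolynomial.X i : MvPolynomial _ K).totalDegree ≤ 1 := fun i =>
    (MvPolynomial.totalDegree_X i).le
  have hC : ∀ (c : K) (p : MvPolynomial (Fin (Module.finrank K W)) K),
      (MvPolynomial.C c * p).totalDegree ≤ p.totalDegree := fun c p =>
    (MvPolynomial.totalDegree_mul _ _).trans (by rw [MvPolynomial.totalDegree_C, zero_add])
  have hdeg : ∑ k, (f k).totalDegree < Fintype.card (Fin (Module.finrank K W)) := by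
    rw [Fintype.card_fin, Fintype.sum_sum_type]
    refine lt_of_le_of_lt (add_le_add (Finset.sum_le_card_nsmul _ _ 2 fun k _ => ?_)
      (Finset.sum_le_card_nsmul _ _ 3 fun k _ => ?_)) ?_
    · refine MvPolynomial.totalDegree_finsetSum_le fun i _ => ?_
      refine MvPolynomial.totalDegree_finsetSum_le fun j _ => ?_
      exact (hC _ _).trans ((MvPolynomial.totalDegree_mul _ _).trans (add_le_add (hX i) (hX j)))
    · refine MvPolynomial.totalDegree_finsetSum_le fun i _ => ?_
      refine MvPolynomial.totalDegree_finsetSum_le fun j _ => ?_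
      refine MvPolynomial.totalDegree_finsetSum_le fun l _ => ?_
      exact (hC _ _).trans ((MvPolynomial.totalDegree_mul _ _).trans (add_le_add (hX i)
        ((MvPolynomial.totalDegree_mul _ _).trans (add_le_add (hX j) (hX l)))))
    · rw [Finset.card_univ, Finset.card_univ, Fintype.card_fin, Fintype.card_fin, smul_eq_mul, smul_eq_mul]
      omega
  obtain ⟨p, hp⟩ := CharP.exists K
  haveI : Fact p.Prime := ⟨CharP.char_is_prime K p⟩
  have hdvd := char_dvd_card_solutions_of_fintype_sum_lt (K := K) p hdeg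
  set S := {x : Fin (Module.finrank K W) → K // ∀ k, MvPolynomial.eval x (f k) = 0}
  have h0 : ∀ k, MvPolynomial.eval (0 : Fin (Module.finrank K W) → K) (f k) = 0 := by
    rintro (k | k) <;> simp [f, map_sum]
  have hcard : 1 < Fintype.card S := lt_of_lt_of_le (Fact.out : p.Prime).one_lt
    (Nat.le_of_dvd (Fintype.card_pos_iff.2 ⟨⟨0, h0⟩⟩) hdvd)
  obtain ⟨⟨t, ht⟩, hne⟩ := Fintype.exists_ne_of_one_lt_card hcard ⟨0, h0⟩
  refine ⟨b.equivFun.symm t, fun e => hne (Subtype.ext ((LinearEquiv.map_eq_zero_iff _).1 e)), ?_, ?_⟩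
  · refine b₂.repr.map_eq_zero_iff.1 (Finsupp.ext fun k => ?_)
    have := ht (.inl k)
    simp only [f, Sum.elim_inl, map_sum, map_mul, MvPolynomial.eval_C, MvPolynomial.eval_X] at this
    rw [Module.Basis.equivFun_symm_apply]
    simp only [map_sum, map_smul, LinearMap.sum_apply, LinearMap.smul_apply, Finsupp.coe_finset_sum,
      Finset.sum_apply, Finsupp.smul_apply, smul_eq_mul, Finsupp.zero_apply, Finset.mul_sum]
    rw [← this, Finset.sum_comm]
    exact Finset.sum_congr rfl fun i _ => Finset.sum_congr rfl fun j _ => by ring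
  · refine b₃.repr.map_eq_zero_iff.1 (Finsupp.ext fun k => ?_)
    have := ht (.inr k)
    simp only [f, Sum.elim_inr, map_sum, map_mul, MvPolynomial.eval_C, MvPolynomial.eval_X] at this
    rw [Module.Basis.equivFun_symm_apply]
    simp only [map_sum, map_smul, LinearMap.sum_apply, LinearMap.smul_apply, Finsupp.coe_finset_sum,
      Finset.sum_apply, Finsupp.smul_apply, smul_eq_mul, Finsupp.zero_apply, Finset.mul_sum]
    rw [← this, Finset.sum_comm]
    refine Eq.trans (Finset.sum_congr rfl fun i _ => Finset.sum_comm) ?_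
    rw [Finset.sum_comm]
    exact Finset.sum_congr rfl fun i _ => Finset.sum_congr rfl fun j _ => Finset.sum_congr rfl fun l _ => by ring

end Zero

section Hilbert

variable {F : Type*} [Field F] {σ : F ≃+* F}

theorem exists_move (hσ : σ ≠ 1) : ∃ t, σ t ≠ t := by
  by_contra h
  push Not at h
  exact hσ (RingEquiv.ext h)

theorem eq_zero_of_twisted (hσ : σ ≠ 1) (hσ3 : σ ^ 3 = 1) {X Y Z : F}
    (h : ∀ t, X * t + Y * σ t + Z * σ (σ t) = 0) : X = 0 := by
  obtain ⟨t, ht⟩ := exists_move hσ
  have h3' : σ (σ (σ t)) = t := DFunLike.congr_fun hσ3 t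
  have key : ∀ s, X * (t - σ (σ t)) * s + Y * (σ t - σ (σ t)) * σ s = 0 := fun s => by
    have e1 := h (t * s)
    rw [map_mul, map_mul] at e1
    linear_combination e1 - σ (σ t) * h s
  have e1 := key 1
  have et := key t
  rw [map_one, mul_one, mul_one] at e1
  have h' : X * ((t - σ (σ t)) * (t - σ t)) = 0 := by linear_combination et - σ t * e1
  refine (mul_eq_zero.1 h').resolve_right (mul_ne_zero (sub_ne_zero.2 fun e => ht ?_) (sub_ne_zero.2 (Ne.symm ht)))
  calc σ t = σ (σ (σ t)) := by rw [← e]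
    _ = t := h3'

theorem exists_hilbert90 (hσ : σ ≠ 1) (hσ3 : σ ^ 3 = 1) (A : Matrix (Fin 2) (Fin 2) F)
    (hA : A * A.map σ * (A.map σ).map σ = 1) : ∃ m : Matrix (Fin 2) (Fin 2) F, m.det ≠ 0 ∧ A * m.map σ = m := by
  set g : (Fin 2 → F) → (Fin 2 → F) := fun v => A *ᵥ (σ ∘ v)
  have gadd : ∀ u v, g (u + v) = g u + g v := fun u v => by
    simp only [g, ← Matrix.mulVec_add]
    exact congrArg (A *ᵥ ·) (funext fun i => map_add σ (u i) (v i))
  have gsmul : ∀ (c : F) v, g (c • v) = σ c • g v := fun c v => by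
    simp only [g, ← Matrix.mulVec_smul]
    exact congrArg (A *ᵥ ·) (funext fun i => map_mul σ c (v i))
  have hmap : ∀ (M : Matrix (Fin 2) (Fin 2) F) (v : Fin 2 → F), σ ∘ (M *ᵥ v) = M.map σ *ᵥ (σ ∘ v) := fun M v =>
    funext fun i => RingHom.map_mulVec (σ : F →+* F) M v i
  have g3 : ∀ v, g (g (g v)) = v := fun v => by
    simp only [g]
    rw [hmap, hmap, hmap, Matrix.mulVec_mulVec, Matrix.mulVec_mulVec, hA, Matrix.one_mulVec]
    exact funext fun i => DFunLike.congr_fun hσ3 (v i)
  set P : (Fin 2 → F) → (Fin 2 → F) := fun v => v + g v + g (g v)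
  have gP : ∀ v, g (P v) = P v := fun v => by
    simp only [P]; rw [gadd, gadd, g3]; abel
  have span : ∀ c : Fin 2 → F, (∀ v, c ⬝ᵥ P v = 0) → c = 0 := fun c hc => by
    refine funext fun i => eq_zero_of_twisted hσ hσ3 (Y := c ⬝ᵥ g (Pi.single i 1))
      (Z := c ⬝ᵥ g (g (Pi.single i 1))) fun t => ?_
    have := hc (t • Pi.single i 1)
    simp only [P, gsmul, dotProduct_add, dotProduct_smul, smul_eq_mul, dotProduct_single_one] at this
    linear_combination this
  obtain ⟨v, hv⟩ : ∃ v, P v ≠ 0 := by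
    by_contra H
    push Not at H
    exact one_ne_zero (congrFun (span ![1, 0] fun v => by rw [H v, dotProduct_zero]) 0)
  obtain ⟨w, hw⟩ : ∃ w, P v 0 * P w 1 - P v 1 * P w 0 ≠ 0 := by
    by_contra H
    push Not at H
    refine hv (funext fun i => ?_)
    have := span ![-P v 1, P v 0] fun w => by
      simp [dotProduct, Fin.sum_univ_two]
      linear_combination H w
    fin_cases i
    · simpa using congrFun this 1
    · simpa using congrFun this 0
  set m : Matrix (Fin 2) (Fin 2) F := Matrix.of ![![P v 0, P w 0], ![P v 1, P w 1]]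
  refine ⟨m, fun e => hw ?_, ?_⟩
  · rw [Matrix.det_fin_two] at e
    simp [m] at e
    linear_combination e
  · ext i j
    rw [Matrix.mul_apply]
    have hv' := congrFun (gP v) i
    have hw' := congrFun (gP w) i
    simp only [g, Matrix.mulVec, dotProduct, Fin.sum_univ_two, Function.comp_apply] at hv' hw' ⊢
    fin_cases i <;> fin_cases j <;> simp [m] at hv' hw' ⊢ <;> assumption

end Hilbert

end Cfsg.Agent.TrialityBalance
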