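import Cfsg.Agent.Lib.TrialityBalance.Cosets

/-!
Commutation with the images of the octonion automorphisms, rigidity, and the standard triality.
-/

set_option autoImplicit false
set_option maxHeartbeats 800000

namespace Cfsg.Agent.TrialityBalance

open scoped Matrix MatrixGroups
open Matrix (adjugate det)
open Triality (omul oconj oone ap Rel ext8 N8_apply)
open QForm (plusForm)
open ClassicalSimple (GO simAut scalarGO omegaSub scalarSub)
open AutPO (fieldA fixes_plus mapGO Dg Semi semiA)
open LocalBalance (fixK restrictFix mul_conj)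

universe u

theorem word_rev {G : Type*} [Group G] {c f : G} (hc : c * c = 1) (hf : f * f = 1) :
    c * f * c * (f * c) * (c * f * c) = c * f ∧ c * f * c * (c * f * c) = 1 := by
  constructor
  · calc c * f * c * (f * c) * (c * f * c) = c * f * c * f * (c * c) * f * c := by group
      _ = c * f * c * (f * f) * c := by rw [hc, mul_one]; group
      _ = c * f * (c * c) := by rw [hf, mul_one]; group
      _ = c * f := by rw [hc, mul_one]
  · calc c * f * c * (c * f * c) = c * f * (c * c) * f * c := by group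
      _ = c * (f * f) * c := by rw [hc, mul_one]; group
      _ = 1 := by rw [hf, mul_one, hc]

section Extend

variable {F₀ F : Type*} [Field F₀] [Field F] (f : F₀ →+* F)

local notation "I8" => (Fin 4 ⊕ Fin 4)

theorem omul_ringHom (u v : I8 → F₀) : omul (f ∘ u) (f ∘ v) = f ∘ omul u v :=
  ext8 fun i => by fin_cases i <;> simp [omul, map_add, map_sub, map_mul]

/-- Extension of scalars. -/
def mapG : Gm F₀ →* Gm F where
  toFun g := ⟨Matrix.GeneralLinearGroup.map f g.1, fun x y => by
    set M : Matrix I8 I8 F := Units.coeHom _ (Matrix.GeneralLinearGroup.map f g.1)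
    let μ : (I8 → F) →ₗ[F] (I8 → F) →ₗ[F] (I8 → F) :=
      LinearMap.mk₂ F omul Triality.omul_add_left (fun c m n => Triality.omul_smul_left c m n)
        Triality.omul_add_right (fun c m n => Triality.omul_smul_right c m n)
    have hsingle : ∀ i, (Pi.single i 1 : I8 → F) = f ∘ (Pi.single i 1) := fun i =>
      funext fun j => by simp only [Function.comp_apply, Pi.single_apply]; split_ifs <;> simp
    have hM : ∀ v : I8 → F₀, M *ᵥ (f ∘ v) = f ∘ gap g v := fun v =>
      funext fun i => (RingHom.map_mulVec f g.1.val v i).symm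
    have e : μ.compr₂ (Matrix.toLin' M) = μ.compl₁₂ (Matrix.toLin' M) (Matrix.toLin' M) :=
      LinearMap.ext_basis (Pi.basisFun F I8) (Pi.basisFun F I8) fun i j => by
        simp only [LinearMap.compr₂_apply, LinearMap.compl₁₂_apply, Pi.basisFun_apply, μ, LinearMap.mk₂_apply,
          Matrix.toLin'_apply, hsingle, hM, omul_ringHom, gap_omul]
    simpa [μ] using LinearMap.congr_fun (LinearMap.congr_fun e x) y⟩
  map_one' := Subtype.ext (map_one _)
  map_mul' a b := Subtype.ext (map_mul _ _ _)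

theorem gap_mapG (g : Gm F₀) (v : I8 → F₀) : gap (mapG f g) (f ∘ v) = f ∘ gap g v :=
  funext fun i => (RingHom.map_mulVec f g.1.val v i).symm

theorem mapG_injective : Function.Injective (mapG f) := fun a b h => by
  refine gap_ext fun X Y => funext fun i => f.injective ?_
  exact congrFun ((gap_mapG f a (mk X Y)).symm.trans
    ((congrArg (fun g => gap g (f ∘ mk X Y)) h).trans (gap_mapG f b (mk X Y)))) i

theorem comp_mk (X Y : Matrix (Fin 2) (Fin 2) F₀) : f ∘ mk X Y = mk (X.map f) (Y.map f) :=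
  ext8 fun i => by fin_cases i <;> simp [mk]

theorem gap_ext_rational {g : Gm F} {k : Gm F₀}
    (h : ∀ X Y : Matrix (Fin 2) (Fin 2) F₀, gap g (f ∘ mk X Y) = f ∘ gap k (mk X Y)) : mapG f k = g := by
  refine Subtype.ext (Units.ext (Matrix.ext_of_mulVec_single fun i => ?_))
  have e : (Pi.single i 1 : I8 → F) = f ∘ mk (px (Pi.single i 1)) (py (Pi.single i 1)) := by
    rw [mk_px_py]
    exact funext fun j => by simp only [Function.comp_apply, Pi.single_apply]; split_ifs <;> simp
  show gap (mapG f k) (Pi.single i 1) = gap g (Pi.single i 1)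
  rw [e, h, gap_mapG]

theorem map_ee' : (ee : Matrix (Fin 2) (Fin 2) F₀).map f = ee := by
  ext i j; fin_cases i <;> fin_cases j <;> simp [ee]

theorem map_adj_ee : (adjugate (ee : Matrix (Fin 2) (Fin 2) F₀)).map f = adjugate ee := by
  rw [adj_ee, adj_ee]; ext i j; fin_cases i <;> fin_cases j <;> simp

theorem mapG_zP : mapG f zP = zP := gap_ext_rational f fun X Y => by
  rw [comp_mk, gap_zP, gap_zP, comp_mk, Matrix.map_mul, Matrix.map_mul, Matrix.map_mul, map_ee', map_adj_ee]

theorem mapG_tP : mapG f tP = tP := gap_ext_rational f fun X Y => by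
  rw [comp_mk, gap_tP, gap_tP, comp_mk, Matrix.map_mul, map_ee']

theorem mapG_lU (a : F₀) : mapG f (lG (uG a) (det_uG a)) = lG (uG (f a)) (det_uG (f a)) :=
  gap_ext_rational f fun X Y => by
    have h : (uG a : GL (Fin 2) F₀).val.map f = (uG (f a) : GL (Fin 2) F).val := by
      rw [uG_val, uG_val]; ext i j; fin_cases i <;> fin_cases j <;> simp
    have h' : (adjugate (uG a : GL (Fin 2) F₀).val).map f = adjugate (uG (f a) : GL (Fin 2) F).val := by
      rw [uG_val, uG_val]; ext i j; fin_cases i <;> fin_cases j <;> simp [Matrix.adjugate_fin_two]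
    rw [comp_mk, gap_lG, gap_lG, comp_mk, Matrix.map_mul, Matrix.map_mul, Matrix.map_mul, h, h']

theorem mapG_gam (h3 : (3 : F) ≠ 0) (h3₀ : (3 : F₀) ≠ 0) : mapG f (gam h3₀) = gam h3 :=
  gap_ext_rational f fun X Y => by
    rw [gap_gam, gap_gam]
    exact ext8 fun i => by fin_cases i <;> simp [gamLin, mk, dec, px, py, ee, jj, Matrix.mul_apply, Matrix.vecMul,
      dotProduct, Fin.sum_univ_two, map_ofNat, map_div₀]

theorem mapG_shG [Finite F₀] [Finite F] : mapG f shG = shG := gap_ext_rational f fun X Y => by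
  rw [gap_shG, gap_shG]
  exact ext8 fun i => by fin_cases i <;> simp [shLin]

end Extend

variable {F : Type u} [Field F] [Fintype F]

local notation "I8" => (Fin 4 ⊕ Fin 4)
local notation "V8" => (Fin 4 ⊕ Fin 4 → F)
local notation "N8" => plusForm F 4
local notation "M2" => Matrix (Fin 2) (Fin 2) F

theorem mapF_toGO (σ : F ≃+* F) (g : Gm F) : mapF σ (toGO g) = toGO (mapG (σ : F →+* F) g) := rfl

theorem fA_theta (σ : F ≃+* F) (g : Gm F) : fA σ * theta g = theta (mapG (σ : F →+* F) g) * fA σ := by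
  rw [theta_apply, fA_simAut, mapF_toGO, theta_apply]

theorem mapG_id (g : Gm F) : mapG (((1 : F ≃+* F) : F →+* F)) g = g :=
  Subtype.ext (Units.ext (Matrix.ext fun _ _ => rfl))

/-- The semilinear map of a pair. -/
def sAct (h : GO (plusForm F 4)) (σ : F ≃+* F) (v : V8) : V8 := ap h (σ ∘ v)

theorem sAct_sim (h : GO N8) (σ : F ≃+* F) :
    Function.Injective (sAct h σ) ∧ ∀ v, N8 v ≠ 0 → N8 (sAct h σ v) ≠ 0 := by
  refine ⟨fun u v e => ?_, fun v hv e => ?_⟩
  · have := congrArg (ap h⁻¹) e
    simp only [sAct, Triality.ap_ap_inv] at this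
    exact funext fun i => σ.injective (congrFun this i)
  · obtain ⟨c, hc0, hc⟩ := Triality.exists_mult h
    rw [sAct, hc, mul_eq_zero, or_iff_right hc0, show N8 (σ ∘ v) = σ (N8 v) from fixes_plus σ v,
      map_eq_zero] at e
    exact hv e

/-- Commuting with a rational automorphism fixing `1` forces exact commutation. -/
theorem exact_of_commute {h : GO N8} {σ : F ≃+* F} {k : Gm F} (hk : mapG (σ : F →+* F) k = k)
    (hc : Commute (simAut N8 h * fA σ) (theta k)) (hk3 : k ^ 3 = 1) (v : V8) :
    sAct h σ (gap k v) = gap k (sAct h σ v) := by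
  have e : simAut N8 (h * toGO k) = simAut N8 (toGO k * h) := by
    refine mul_right_cancel (b := fA σ) ?_
    have e0 := hc.eq
    rw [mul_assoc, fA_theta, hk, ← mul_assoc, ← mul_assoc] at e0
    rw [map_mul, map_mul, ← theta_apply]
    exact e0
  obtain ⟨c, hc0, hcv⟩ := exists_smul e
  have hv : ∀ v, sAct h σ (gap k v) = c • gap k (sAct h σ v) := fun v => by
    rw [sAct, show σ ∘ gap k v = gap (mapG (σ : F →+* F) k) (σ ∘ v) from (gap_mapG (σ : F →+* F) k v).symm, hk]
    have := hcv (σ ∘ v)
    rwa [Triality.ap_mul, Triality.ap_mul, ap_toGO, ap_toGO] at this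
  set w := sAct h σ oone
  have hw : w = c • gap k w := by rw [← hv, gap_oone]
  have hN : N8 (gap k w) = N8 w := ((isSOct_gap k).map_tr_norm w).2
  have hc2 : c * c = 1 := by
    have hNw : N8 w ≠ 0 := (sAct_sim h σ).2 oone (by rw [Triality.N8_oone]; exact one_ne_zero)
    have := congrArg N8 hw
    rw [QuadraticMap.map_smul, hN, smul_eq_mul] at this
    exact mul_right_cancel₀ hNw (by rw [one_mul]; exact this.symm)
  have hc3 : c * c * c = 1 := by
    have h2 : gap k w = c⁻¹ • w := by rw [eq_inv_smul_iff₀ hc0]; exact hw.symm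
    have h3 : gap (k ^ 3) w = (c⁻¹ * c⁻¹ * c⁻¹) • w := by
      rw [pow_succ, pow_two, gap_mul, gap_mul, h2, gap_smul, gap_smul, h2, gap_smul, h2, smul_smul, smul_smul]
    rw [hk3, gap_one] at h3
    have hw0 : w ≠ 0 := fun e0 => (sAct_sim h σ).2 oone (by rw [Triality.N8_oone]; exact one_ne_zero)
      (show N8 w = 0 by rw [e0, map_zero])
    have h1 : ((c⁻¹ * c⁻¹ * c⁻¹) - 1) • w = 0 := by rw [sub_smul, ← h3, one_smul, sub_self]
    have := sub_eq_zero.1 ((smul_eq_zero.1 h1).resolve_right hw0)
    rw [← mul_inv, ← mul_inv, inv_eq_one] at this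
    exact this
  rw [hv, show c = 1 by rwa [hc2, one_mul] at hc3, one_smul]

/-- A semisimilarity times field automorphism made of an octonion automorphism commutes exactly. -/
theorem theta_exact {g k : Gm F} {σ : F ≃+* F} (hc : Commute (theta g * fA σ) (theta k)) :
    g * mapG (σ : F →+* F) k = k * g := by
  have e0 := hc.eq
  rw [mul_assoc, fA_theta, ← mul_assoc, ← mul_assoc, ← map_mul, ← map_mul, mul_left_inj] at e0
  exact theta_injective e0

variable (h3 : (3 : F) ≠ 0)

include h3 in
/-- Rigidity: commutation with the rational generators. -/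
theorem rigid {g : Gm F} {σ : F ≃+* F} (ht : Commute (theta g * fA σ) (theta tP))
    (hz : Commute (theta g * fA σ) (theta zP))
    (hu : Commute (theta g * fA σ) (theta (lG (uG 1) (det_uG 1))))
    (hgu : Commute (theta g * fA σ) (theta (gam h3 * lG (uG 1) (det_uG 1) * (gam h3)⁻¹))) : g = 1 := by
  have et := theta_exact ht
  have ez := theta_exact hz
  have eu := theta_exact hu
  have egu := theta_exact hgu
  rw [mapG_tP] at et
  rw [mapG_zP] at ez
  rw [mapG_lU, map_one] at eu
  rw [map_mul, map_mul, map_inv, mapG_gam (σ : F →+* F) h3 h3, mapG_lU, map_one] at egu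
  have key : ∀ g : Gm F, g * tP = tP * g → g * zP = zP * g →
      g * lG (uG 1) (det_uG 1) = lG (uG 1) (det_uG 1) * g → ∀ X, gap g (mk X 0) = mk X 0 := fun g a b c =>
    fix_quat h3 (isSOct_gap g) (fun v => by rw [← gap_mul, a, gap_mul]) (fun v => by rw [← gap_mul, b, gap_mul])
      (fun v => by rw [← gap_mul, c, gap_mul]) rfl
  have h1 := key g et ez eu
  set d := (gam h3)⁻¹ * g * gam h3
  have hdz : d * zP = zP * d := by
    have := gam_zP h3
    calc d * zP = (gam h3)⁻¹ * (g * (gam h3 * zP * (gam h3)⁻¹)) * gam h3 := by simp only [d]; group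
      _ = (gam h3)⁻¹ * ((gam h3 * zP * (gam h3)⁻¹) * g) * gam h3 := by rw [this, ez]
      _ = zP * d := by simp only [d]; group
  have hdt : d * tP = tP * d := by
    have hc : Commute g (gam h3 * tP * (gam h3)⁻¹) := by
      rw [gam_tP h3, pairG_ePair]
      exact (Commute.pow_right (show Commute g zP from ez) 2).mul_right
        (Commute.pow_right (show Commute g tP from et) 2)
    calc d * tP = (gam h3)⁻¹ * (g * (gam h3 * tP * (gam h3)⁻¹)) * gam h3 := by simp only [d]; group
      _ = (gam h3)⁻¹ * ((gam h3 * tP * (gam h3)⁻¹) * g) * gam h3 := by rw [hc.eq]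
      _ = tP * d := by simp only [d]; group
  have hdu : d * lG (uG 1) (det_uG 1) = lG (uG 1) (det_uG 1) * d := by
    calc d * lG (uG 1) (det_uG 1) =
        (gam h3)⁻¹ * (g * (gam h3 * lG (uG 1) (det_uG 1) * (gam h3)⁻¹)) * gam h3 := by simp only [d]; group
      _ = (gam h3)⁻¹ * ((gam h3 * lG (uG 1) (det_uG 1) * (gam h3)⁻¹) * g) * gam h3 := by rw [egu]
      _ = _ := by simp only [d]; group
  have h2 := key d hdt hdz hdu
  refine gap_ext fun X Y => ?_
  rw [gap_one]
  refine eq_id_of_fix h3 (isSOct_gap g) h1 (fun X => ?_) _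
  have := congrArg (gap (gam h3)) (h2 X)
  rwa [← gap_mul, ← mul_assoc, ← mul_assoc, mul_inv_cancel, one_mul, gap_mul] at this

include h3 in
/-- The field part is fixed on the rational parameters. -/
theorem rigid_field {σ : F ≃+* F} {a : F} (ht : Commute (fA σ) (theta tP))
    (hu : ∀ b ∈ ({1, a} : Set F), Commute (fA σ) (theta (lG (uG b) (det_uG b)))) : σ a = a := by
  have key : ∀ k : Gm F, Commute (fA σ) (theta k) → mapG (σ : F →+* F) k = k := fun k hk => by
    have := theta_exact (g := 1) (σ := σ) (k := k) (by rw [map_one, one_mul]; exact hk)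
    simpa using this
  have h1 := key _ (hu a (by simp))
  rw [mapG_lU] at h1
  have := congrArg (fun g => gap g (mk (0 : M2) 1) (Sum.inr 3)) h1
  simp only [gap_lG] at this
  simp [mk, uG_val, Matrix.adjugate_fin_two] at this
  exact this

theorem uG_pow (a : F) : ∀ n : ℕ, (uG a) ^ n = uG ((n : F) * a)
  | 0 => Units.ext (by rw [pow_zero, uG_val, Nat.cast_zero, zero_mul]; ext i j; fin_cases i <;> fin_cases j <;> simp)
  | n + 1 => Units.ext (by
      rw [pow_succ, uG_pow a n, Units.val_mul, uG_val, uG_val, uG_val]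
      ext i j; fin_cases i <;> fin_cases j <;> simp
      ring)

theorem lU_pow (a : F) {r : ℕ} [CharP F r] : (lG (uG a) (det_uG a) : Gm F) ^ r = 1 := by
  rw [lG, ← map_pow, show (pL (uG a) (det_uG a)) ^ r = (1 : Pair F) from Subtype.ext (Prod.ext (by
    simp only [SubmonoidClass.coe_pow, Prod.pow_fst, pL, uG_pow, CharP.cast_eq_zero, zero_mul]
    exact Units.ext (by rw [uG_val]; ext i j; fin_cases i <;> fin_cases j <;> simp)) (by simp [pL])), map_one]

theorem theta_lU_inner (a : F) : ∃ k, MulAut.conj k = theta (lG (uG a) (det_uG a)) := by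
  obtain ⟨r, hr⟩ := CharP.exists F
  refine theta_inner (lU_pow a (r := r)) ?_
  rcases (CharP.char_is_prime F r).eq_two_or_odd' with rfl | h
  · exact Or.inr CharTwo.two_eq_zero
  · exact Or.inl h

theorem theta_conj_inner {g w : Gm F} (h : ∃ k, MulAut.conj k = theta g) :
    ∃ k, MulAut.conj k = theta (w * g * w⁻¹) := by
  obtain ⟨k, hk⟩ := h
  exact ⟨theta w k, by rw [map_mul, map_mul, map_inv, ← hk, mul_conj, mul_inv_cancel_right]⟩

theorem theta_cube_inner {g : Gm F} (h : g ^ 3 = 1) : ∃ k, MulAut.conj k = theta g :=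
  theta_inner h (Or.inl (by decide))

theorem conj_inj : Function.Injective (MulAut.conj : POmega F ⇑(N8 : QuadraticForm F V8) → Aut8 F) :=
  AutPO.conj_injective_of_center (AutPOmega.center_POmega AutPOmega.nondeg_bil8 Triality.five8)

/-- An automorphism fixing the fixed points commutes with inner automorphisms commuting with `x`. -/
theorem commute_of_fix {x a : Aut8 F} (hfix : ∀ k ∈ fixK x, a k = k) {y : Aut8 F}
    (hy : ∃ k, MulAut.conj k = y) (hc : Commute y x) : Commute a y := by
  obtain ⟨k, rfl⟩ := hy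
  have hk : k ∈ fixK x := (AutPO.commute_conj_iff conj_inj).1 hc
  show a * MulAut.conj k = MulAut.conj k * a
  rw [mul_conj, hfix k hk]

theorem restrict_mem {x a : Aut8 F} (hax : Commute a x) {k : fixK x}
    (hk : k ∈ Cfsg.pPrimeCore 3 ↥(fixK x)) : restrictFix hax k ∈ Cfsg.pPrimeCore 3 ↥(fixK x) := by
  haveI : Fact (Nat.Prime 3) := ⟨Nat.prime_three⟩
  exact LocalBalance.restrictFix_mem_core 3 hax hk

/-- The core of the fixed points, as a group of automorphisms. -/
noncomputable def coreAut (x : Aut8 F) : Subgroup (Aut8 F) :=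
  (Cfsg.pPrimeCore 3 ↥(fixK x)).map
    ((MulAut.conj : POmega F ⇑(plusForm F 4) →* Aut8 F).comp (fixK x).subtype)

theorem coprime_coreAut (x : Aut8 F) : (Nat.card ↥(coreAut x)).Coprime 3 := by
  rw [coreAut, Subgroup.card_map_of_injective (f := (MulAut.conj : POmega F ⇑(plusForm F 4) →* Aut8 F).comp
    (fixK x).subtype) (fun a b h => Subtype.ext (conj_inj h))]
  exact PCore.coprime_card_pPrimeCore

theorem mem_coreAut {x l : Aut8 F} (hl : l ∈ coreAut x) :
    Commute l x ∧ ∃ h ∈ Dg (plusForm F 4) 4, l = simAut (plusForm F 4) h := by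
  obtain ⟨k, -, rfl⟩ := hl
  refine ⟨LocalBalance.commute_conj k.2, ?_⟩
  obtain ⟨g, g1, g2, hg, -, e⟩ := Triality.inn_le_TG (k : POmega F ⇑(N8 : QuadraticForm F V8))
  exact ⟨g, AutPO.omega_le_Dg hg, e⟩

theorem conj_mem_coreAut {x a l : Aut8 F} (hax : Commute a x) (hl : l ∈ coreAut x) : a * l * a⁻¹ ∈ coreAut x := by
  obtain ⟨k, hk, rfl⟩ := hl
  refine ⟨restrictFix hax k, restrict_mem hax hk, ?_⟩
  show MulAut.conj (a (k : POmega F ⇑(N8 : QuadraticForm F V8))) = a * MulAut.conj (k : POmega F ⇑(N8 : QuadraticForm F V8)) * a⁻¹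
  rw [mul_conj, mul_inv_cancel_right]

theorem core_eq_bot_of_coreAut {x : Aut8 F} (h : coreAut x = ⊥) : Cfsg.pPrimeCore 3 ↥(fixK x) = ⊥ :=
  (Subgroup.map_eq_bot_iff_of_injective _ (f := (MulAut.conj : POmega F ⇑(plusForm F 4) →* Aut8 F).comp
    (fixK x).subtype) (fun a b h => Subtype.ext (conj_inj h))).1 h

variable (T : Tri F)

/-- What commutes with a triality coset element and has order prime to three lies in `NF`. -/
theorem Tri.mem_NF {x a : Aut8 F} (hx : T.tau⁻¹ * x ∈ NF F) (ha : Commute a x) (hco : (orderOf a).Coprime 3) :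
    a ∈ NF F := by
  haveI := T.NF_normal
  let π := QuotientGroup.mk' (NF F)
  have hn : ∀ n ∈ NF F, π n = 1 := fun n hn => (QuotientGroup.eq_one_iff n).2 hn
  have hc : Commute (π a) (π T.tau) := by
    have e : π x = π T.tau := by
      rw [show x = T.tau * (T.tau⁻¹ * x) by group, map_mul, hn _ hx, mul_one]
    exact e ▸ ha.map π
  have hτ : π T.tau ≠ 1 := fun h => T.tau_not_semi (T.isSemi_iff.2 (Or.inl ((QuotientGroup.eq_one_iff _).1 h)))
  have h3 : π T.tau ^ 3 = 1 := by rw [← map_pow, T.tau_cube, map_one]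
  suffices h : π a = 1 from (QuotientGroup.eq_one_iff a).1 h
  have hpow : π a ^ 3 = 1 → π a = 1 := fun h => by
    have h1 := Nat.eq_one_of_dvd_coprimes hco (orderOf_map_dvd π a) (orderOf_dvd_of_pow_eq_one h)
    exact orderOf_eq_one_iff.1 h1
  have hinv : ∀ c : Aut8 F, π c * π T.tau * π c = π T.tau⁻¹ → π c * π c = 1 → π a = π c → False := by
    intro c h1 h2 h
    refine hτ ?_
    rw [h] at hc
    have h4 : π T.tau = π T.tau⁻¹ := by
      calc π T.tau = π c * π c * π T.tau := by rw [h2, one_mul]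
        _ = π c * π T.tau * π c := by rw [mul_assoc (π c) (π T.tau) (π c), ← hc.eq, mul_assoc]
        _ = _ := h1
    have h5 : π T.tau * π T.tau = 1 := by
      nth_rewrite 2 [h4]; rw [map_inv, mul_inv_cancel]
    rw [pow_succ, pow_two, h5, one_mul] at h3
    exact h3
  obtain ⟨n, hn', rfl | rfl | rfl | rfl | rfl | rfl⟩ := T.forms a
  · exact hn _ hn'
  · refine (hinv (simAut N8 T.C) ?_ ?_ (by rw [map_mul, hn _ hn', mul_one])).elim
    · rw [← map_mul, ← map_mul, T.tau_inv, Tri.tau]
      simp only [mul_assoc]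
      rw [T.C_C, mul_one]
    · rw [← map_mul, T.C_C, map_one]
  · exact hpow (by rw [map_mul, hn _ hn', mul_one, h3])
  · exact hpow (by rw [map_mul, hn _ hn', mul_one, map_inv, inv_pow, h3, inv_one])
  · refine (hinv T.φ ?_ ?_ (by rw [map_mul, hn _ hn', mul_one])).elim
    · rw [← map_mul, ← map_mul, T.tau_inv, Tri.tau, ← mul_assoc, T.sq, one_mul]
    · rw [← map_mul, T.sq, map_one]
  · refine (hinv (simAut N8 T.C * T.φ * simAut N8 T.C) ?_ ?_ (by rw [map_mul, hn _ hn', mul_one])).elim
    · rw [← map_mul, ← map_mul, T.tau_inv]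
      exact congrArg π (word_rev T.C_C T.sq).1
    · rw [← map_mul, (word_rev T.C_C T.sq).2, map_one]

include h3 in
theorem Tri.core_tau : Cfsg.pPrimeCore 3 ↥(fixK T.tau) = ⊥ := by
  refine core_eq_bot_of_coreAut ?_
  haveI : ((coreAut T.tau).comap (theta (F := F))).Normal := ⟨fun g hg w => by
    rw [Subgroup.mem_comap, map_mul, map_mul, map_inv]
    exact conj_mem_coreAut (T.tau_theta w).symm hg⟩
  have hbot : (coreAut T.tau).comap (theta (F := F)) = ⊥ := normal_coprime_eq_bot h3 _
    (Nat.Coprime.coprime_dvd_left (Subgroup.card_comap_dvd_of_injective _ theta theta_injective) (coprime_coreAut _))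
  refine eq_bot_iff.2 fun l hl => Subgroup.mem_bot.2 ?_
  obtain ⟨hc, h, hh, rfl⟩ := mem_coreAut hl
  obtain ⟨g, hg⟩ := T.eq_theta_of_commute hh hc.symm
  have : g ∈ (coreAut T.tau).comap (theta (F := F)) := by rw [Subgroup.mem_comap, ← hg]; exact hl
  rw [hbot, Subgroup.mem_bot] at this
  rw [hg, this, map_one]

/-- An element of `NF` commuting with triality. -/
theorem Tri.NF_theta {a : Aut8 F} (ha : a ∈ NF F) (hc : Commute a T.tau) :
    ∃ (g : Gm F) (σ : F ≃+* F), a = theta g * fA σ := by
  obtain ⟨h, hh, σ, rfl⟩ := ha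
  have hs : Commute T.tau (simAut N8 h) := by
    have e := hc.symm.mul_right ((T.tau_field σ).inv_right)
    rwa [mul_inv_cancel_right] at e
  obtain ⟨g, hg⟩ := T.eq_theta_of_commute hh hs
  exact ⟨g, σ, by rw [hg]⟩

include h3 in
/-- The rigidity for automorphisms fixing the fixed points of a standard element. -/
theorem eq_one_of_commutes {g : Gm F} {σ : F ≃+* F}
    (h : ∀ k ∈ ({tP, zP, gam h3 * lG (uG 1) (det_uG 1) * (gam h3)⁻¹} ∪
      Set.range fun b => lG (uG b) (det_uG b) : Set (Gm F)), Commute (theta g * fA σ) (theta k)) :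
    theta g * fA σ = 1 := by
  have hg : g = 1 := rigid h3 (h _ (Or.inl (by simp))) (h _ (Or.inl (by simp)))
    (h _ (Or.inr ⟨1, rfl⟩)) (h _ (Or.inl (by simp)))
  subst hg
  simp only [map_one, one_mul] at h ⊢
  have hσ : σ = 1 := RingEquiv.ext fun a => rigid_field h3 (h _ (Or.inl (by simp)))
    fun b _ => h _ (Or.inr ⟨b, rfl⟩)
  rw [hσ, fA_one]

include h3 in
theorem Tri.fix_tau {a : Aut8 F} (ha : Commute a T.tau) (hfix : ∀ k ∈ fixK T.tau, a k = k)
    (hco : (orderOf a).Coprime 3) : a = 1 := by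
  obtain ⟨g, σ, rfl⟩ := T.NF_theta (T.mem_NF (by rw [inv_mul_cancel]; exact one_mem _) ha hco) ha
  refine eq_one_of_commutes h3 fun k hk => commute_of_fix hfix ?_ (T.tau_theta k).symm
  rcases hk with (rfl | rfl | rfl) | ⟨b, rfl⟩
  exacts [theta_cube_inner tP_cube, theta_cube_inner zP_cube, theta_conj_inner (theta_lU_inner 1), theta_lU_inner b]

end Cfsg.Agent.TrialityBalance
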