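import Cfsg.Agent.Lib.TrialityBalance.Aut

/-!
The six cosets of the inner-diagonal and field part in the automorphism group of `PΩ⁺₈`.
-/

set_option autoImplicit false
set_option maxHeartbeats 800000

namespace Cfsg.Agent.TrialityBalance

open scoped Matrix MatrixGroups
open Matrix (adjugate det)
open Triality (omul oconj oone ap Rel ext8 N8_apply)
open QForm (plusForm)
open ClassicalSimple (GO simAut scalarGO omegaSub scalarSub)
open AutPO (fieldA fixes_plus mapGO Dg Semi semiA)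

universe u

section Words

variable {G : Type*} [Group G] {c f : G}

theorem word_six (hc : c * c = 1) (M S : G) : c * f * M * S = c * f * c * (c * M * c * (c * S)) := by
  calc c * f * M * S = c * f * (c * c) * M * (c * c) * S := by rw [hc, mul_one, mul_one]
    _ = _ := by group

theorem word_four (hc : c * c = 1) {w : G} (h : w = c * f * c) (e : w * c = c * w) : f * c = c * f := by
  subst h
  calc f * c = (c * c) * f * c := by rw [hc, one_mul]
    _ = c * (c * f * c) := by group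
    _ = c * f * c * c := e.symm
    _ = c * f := by rw [mul_assoc _ c c, hc, mul_one]

theorem word_four' {H : Type*} [Group H] (π : G →* H) (hc : π c * π c = 1) (u v : G) (hu : u = f * c)
    (hv : v = c * f) (e : π (c * f * c * c) = π (c * (c * f * c))) : π u = π v := by
  subst hu hv
  simp only [map_mul] at e ⊢
  exact word_four hc rfl e

end Words

variable {F : Type u} [Field F] [Fintype F]

local notation "I8" => (Fin 4 ⊕ Fin 4)
local notation "V8" => (Fin 4 ⊕ Fin 4 → F)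
local notation "N8" => plusForm F 4
local notation "M2" => Matrix (Fin 2) (Fin 2) F

/-- Semisimilarities. -/
def IsSemi (β : Aut8 F) : Prop := ∃ (g : GO (plusForm F 4)) (σ : F ≃+* F), β = simAut (plusForm F 4) g * fA σ

theorem isSemi_of_semi {g : GL I8 F} {σ : F ≃+* F} (hp : Semi N8 g σ) : IsSemi (semiA hp) :=
  let ⟨h, e⟩ := eq_sim_field hp; ⟨h, σ, e⟩

theorem IsSemi.exists_semi {β : Aut8 F} (h : IsSemi β) :
    ∃ (g : GL I8 F) (σ : F ≃+* F) (hp : Semi (plusForm F 4) g σ), β = semiA hp := by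
  obtain ⟨g, σ, rfl⟩ := h
  exact ⟨_, σ, _, AutPO.simAut_mul_fieldA _ g⟩

variable (T : Tri F)

theorem Tri.isSemi_iff {β : Aut8 F} : IsSemi β ↔ β ∈ NF F ∨ simAut N8 T.C * β ∈ NF F := by
  constructor
  · rintro ⟨g, σ, rfl⟩
    rcases conjG_mem_or T.apC g with h | h
    · exact Or.inl ⟨g, h, σ, rfl⟩
    · exact Or.inr ⟨_, h, σ, by rw [map_mul, mul_assoc]⟩
  · rintro (⟨g, -, σ, rfl⟩ | ⟨g, -, σ, h⟩)
    · exact ⟨g, σ, rfl⟩
    · exact ⟨T.C * g, σ, by rw [map_mul, mul_assoc, ← h, ← mul_assoc, T.C_C, one_mul]⟩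

theorem Tri.phi_not_semi : ¬ IsSemi T.φ := fun h => by
  obtain ⟨g, σ, hp, e⟩ := h.exists_semi
  exact AutPOmega.triality_ne_semi T.rel hp e

theorem Tri.C_not_mem : simAut N8 T.C ∉ NF F := by
  rintro ⟨h, hh, σ, e⟩
  obtain rfl : (1 : F ≃+* F) = σ := sigma_eq (h := T.C) (k := h) (by rw [fA_one, mul_one, e])
  rw [fA_one, mul_one] at e
  obtain ⟨c, hc⟩ := Triality.simAut_eq_iff8.1 e
  refine AutPO.reflG_notMem Triality.nondeg8 AutPOmega.four_mul_two (by norm_num) (oone : V8) Triality.N8_oone_ne ?_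
  rw [show AutPO.reflG (oone : V8) Triality.N8_oone_ne = scalarGO N8 (-1) * T.C from Triality.ap_ext fun x => by
    rw [Triality.ap_reflG_oone, Triality.ap_mul, Triality.ap_scalar, T.apC, Units.val_neg, Units.val_one,
      neg_one_smul], hc]
  exact mul_mem (AutPO.scalar_le_Dg AutPOmega.four_mul_two (ClassicalSimple.scalarGO_mem _))
    (mul_mem (AutPO.scalar_le_Dg AutPOmega.four_mul_two (ClassicalSimple.scalarGO_mem _)) hh)

theorem Tri.conj_phi_mem {n : Aut8 F} (hn : n ∈ NF F) : T.φ * n * T.φ ∈ NF F := by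
  obtain ⟨h, hh, σ, rfl⟩ := hn
  obtain ⟨h1, h2, r⟩ := exists_triple hh
  refine ⟨h1, AutPOmega.TG_le_Dg (AutPOmega.TG_first r), σ, ?_⟩
  rw [← mul_assoc, T.rel _ _ _ r, mul_assoc (simAut N8 h1) T.φ, (Triality.triality_field T.sq T.rel σ).eq,
    mul_assoc, mul_assoc, T.sq, mul_one]

theorem Tri.conj_C_mem {n : Aut8 F} (hn : n ∈ NF F) : simAut N8 T.C * n * simAut N8 T.C ∈ NF F := by
  obtain ⟨h, hh, σ, rfl⟩ := hn
  obtain ⟨h1, h2, r⟩ := exists_triple hh
  refine ⟨T.C * h * T.C, AutPOmega.TG_le_Dg ⟨_, _, r.conj T.apC⟩, σ, ?_⟩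
  rw [map_mul, map_mul]
  simp only [mul_assoc]
  rw [(T.C_field σ).eq]

theorem Tri.tau_not_semi : ¬ IsSemi T.tau := by
  rintro ⟨g, σ, e⟩
  refine T.phi_not_semi ⟨g * T.C, σ, ?_⟩
  calc T.φ = T.tau * simAut N8 T.C := by rw [Tri.tau, mul_assoc, T.C_C, mul_one]
    _ = simAut N8 g * fA σ * simAut N8 T.C := by rw [e]
    _ = _ := by rw [mul_assoc, (T.C_field σ).eq, ← mul_assoc, ← map_mul]

/-- The six cosets. -/
theorem Tri.forms (β : Aut8 F) : ∃ n ∈ NF F, β = n ∨ β = simAut N8 T.C * n ∨ β = T.tau * n ∨ β = T.tau⁻¹ * n ∨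
    β = T.φ * n ∨ β = simAut N8 T.C * T.φ * simAut N8 T.C * n := by
  rcases AutPOmega.exists_decomp T.sq T.rel β with ⟨g, σ, hp, rfl⟩ | ⟨t, g, σ, hp, rfl⟩
  · rcases T.isSemi_iff.1 (isSemi_of_semi hp) with h | h
    · exact ⟨_, h, Or.inl rfl⟩
    · exact ⟨_, h, Or.inr (Or.inl (by rw [← mul_assoc, T.C_C, one_mul]))⟩
  set t' : GO N8 := ⟨t.1, ClassicalSimple.isometry_le_GO N8 t.2⟩
  have hS : semiA hp ∈ NF F ∨ simAut N8 T.C * semiA hp ∈ NF F := T.isSemi_iff.1 (isSemi_of_semi hp)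
  have e1 : T.φ * (T.φ * simAut N8 t' * T.φ) = simAut N8 t' * T.φ := by
    rw [← mul_assoc, ← mul_assoc, T.sq, one_mul]
  rcases conjG_mem_or T.apC t' with ht | ht
  · have hn := T.conj_phi_mem (simAut_mem_NF ht)
    rcases hS with hS | hS
    · exact ⟨_, mul_mem hn hS, Or.inr (Or.inr (Or.inr (Or.inr (Or.inl (by rw [← mul_assoc, e1])))))⟩
    · refine ⟨_, mul_mem (T.conj_C_mem hn) hS, Or.inr (Or.inr (Or.inl ?_))⟩
      rw [Tri.tau, ← e1]
      simp only [mul_assoc]
      rw [← mul_assoc (simAut N8 T.C) (simAut N8 T.C), T.C_C, one_mul,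
        ← mul_assoc (simAut N8 T.C) (simAut N8 T.C) (semiA hp), T.C_C, one_mul]
  · have ht' : simAut N8 t' = simAut N8 T.C * simAut N8 (T.C * t') := by
      rw [map_mul, ← mul_assoc, T.C_C, one_mul]
    have hn := T.conj_phi_mem (simAut_mem_NF ht)
    have e2 : simAut N8 t' * T.φ = simAut N8 T.C * T.φ * (T.φ * simAut N8 (T.C * t') * T.φ) := by
      conv_lhs => rw [ht']
      simp only [mul_assoc]
      rw [← mul_assoc T.φ T.φ, T.sq, one_mul]
    rcases hS with hS | hS
    · refine ⟨_, mul_mem hn hS, Or.inr (Or.inr (Or.inr (Or.inl ?_)))⟩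
      rw [T.tau_inv, e2]
      simp only [mul_assoc]
    · refine ⟨_, mul_mem (T.conj_C_mem hn) hS, Or.inr (Or.inr (Or.inr (Or.inr (Or.inr ?_))))⟩
      rw [e2]
      exact word_six T.C_C _ _

include T in
theorem Tri.NF_normal : (NF F).Normal := by
  refine ⟨fun n hn β => ?_⟩
  have hC : ∀ n ∈ NF F, simAut N8 T.C * n * (simAut N8 T.C)⁻¹ ∈ NF F := fun n hn => by
    rw [T.inv_C]; exact T.conj_C_mem hn
  have hφ : ∀ n ∈ NF F, T.φ * n * T.φ⁻¹ ∈ NF F := fun n hn => by
    rw [T.inv_phi]; exact T.conj_phi_mem hn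
  have comp : ∀ a b : Aut8 F, (∀ n ∈ NF F, a * n * a⁻¹ ∈ NF F) → (∀ n ∈ NF F, b * n * b⁻¹ ∈ NF F) →
      ∀ n ∈ NF F, a * b * n * (a * b)⁻¹ ∈ NF F := fun a b ha hb n hn => by
    rw [show a * b * n * (a * b)⁻¹ = a * (b * n * b⁻¹) * a⁻¹ by group]
    exact ha _ (hb n hn)
  have hw : ∀ w m : Aut8 F, m ∈ NF F → (∀ n ∈ NF F, w * n * w⁻¹ ∈ NF F) → w * m * n * (w * m)⁻¹ ∈ NF F :=
    fun w m hm hw => comp w m hw (fun n hn => mul_mem (mul_mem hm hn) (inv_mem hm)) n hn
  obtain ⟨m, hm, rfl | rfl | rfl | rfl | rfl | rfl⟩ := T.forms β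
  · exact mul_mem (mul_mem hm hn) (inv_mem hm)
  · exact hw _ m hm hC
  · exact hw _ m hm (comp _ _ hφ hC)
  · exact hw _ m hm (by rw [T.tau_inv]; exact comp _ _ hC hφ)
  · exact hw _ m hm hφ
  · exact hw _ m hm (comp _ _ (comp _ _ hC hφ) hC)

/-- What commutes with a similarity exchanging the families is a semisimilarity. -/
theorem Tri.semi_of_commute {x a : Aut8 F} (hx : simAut N8 T.C * x ∈ NF F) (ha : Commute a x) : IsSemi a := by
  haveI := T.NF_normal
  let π := QuotientGroup.mk' (NF F)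
  have hn : ∀ n ∈ NF F, π n = 1 := fun n hn => (QuotientGroup.eq_one_iff n).2 hn
  have hC2 : π (simAut N8 T.C) * π (simAut N8 T.C) = 1 := by rw [← map_mul, T.C_C, map_one]
  have hx' : π x = π (simAut N8 T.C) := by
    rw [show x = simAut N8 T.C * (simAut N8 T.C * x) by rw [← mul_assoc, T.C_C, one_mul], map_mul, hn _ hx,
      mul_one]
  have hcom : Commute (π a) (π (simAut N8 T.C)) := hx' ▸ ha.map π
  have hτ : π T.tau ≠ 1 := fun h => T.tau_not_semi (T.isSemi_iff.2 (Or.inl ((QuotientGroup.eq_one_iff _).1 h)))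
  have hbad : ∀ w : Aut8 F, π a = π w → π (w * simAut N8 T.C) = π (simAut N8 T.C * w) := fun w hw => by
    rw [map_mul, map_mul, ← hw]; exact hcom.eq
  have h3 : π T.tau ^ 3 = 1 := by rw [← map_pow, T.tau_cube, map_one]
  have hcontra : π T.tau = π T.tau⁻¹ → False := fun h => hτ (by
    have h2 : π T.tau * π T.tau = 1 := by
      nth_rewrite 2 [h]
      rw [map_inv, mul_inv_cancel]
    rw [pow_succ, pow_two, h2, one_mul] at h3
    exact h3)
  obtain ⟨n, hn', rfl | rfl | rfl | rfl | rfl | rfl⟩ := T.forms a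
  · exact T.isSemi_iff.2 (Or.inl hn')
  · exact T.isSemi_iff.2 (Or.inr (by rw [← mul_assoc, T.C_C, one_mul]; exact hn'))
  · exfalso
    have h := hbad T.tau (by rw [map_mul, hn _ hn', mul_one])
    refine hcontra ?_
    calc π T.tau = π (T.tau * simAut N8 T.C) * π (simAut N8 T.C) := by rw [map_mul, mul_assoc, hC2, mul_one]
      _ = π (simAut N8 T.C * T.tau * simAut N8 T.C) := by rw [h, ← map_mul]
      _ = π T.tau⁻¹ := by
        rw [T.tau_inv, Tri.tau]
        simp only [mul_assoc]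
        rw [T.C_C, mul_one]
  · exfalso
    have h := hbad T.tau⁻¹ (by rw [map_mul, hn _ hn', mul_one])
    refine hcontra ?_
    calc π T.tau = π (simAut N8 T.C * T.tau⁻¹ * simAut N8 T.C) := by
          rw [T.tau_inv, ← mul_assoc, T.C_C, one_mul, Tri.tau]
      _ = π (T.tau⁻¹ * simAut N8 T.C) * π (simAut N8 T.C) := by rw [map_mul, h]
      _ = π T.tau⁻¹ := by rw [map_mul, mul_assoc, hC2, mul_one]
  · exfalso
    have h := hbad T.φ (by rw [map_mul, hn _ hn', mul_one])
    exact hcontra (by rw [T.tau_inv]; exact h)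
  · exfalso
    have h := hbad (simAut N8 T.C * T.φ * simAut N8 T.C) (by rw [map_mul, hn _ hn', mul_one])
    refine hcontra ?_
    exact word_four' π hC2 T.tau T.tau⁻¹ rfl T.tau_inv h

/-- Left multiplication by `ee`. -/
theorem exists_lmul_ee : ∃ L R P M : GO (plusForm F 4), (∀ x, ap L x = omul (mk ee 0) x) ∧
    (∀ x, ap R x = omul x (mk ee 0)) ∧ (∀ x, ap P x = omul (mk ee 0) (omul x (mk ee 0))) ∧ Rel P L R ∧ Rel L P M ∧
    (∀ x, ap M x = omul (oconj (mk ee 0)) x) := by
  set b : V8 := mk ee 0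
  have hb : N8 b = 1 := by simp [b, N8_mk, det_ee]
  obtain ⟨L, hL⟩ := Triality.exists_go (Triality.lmul b) one_ne_zero fun x => by
    show N8 (omul b x) = _; rw [Triality.N8_omul, hb]
  obtain ⟨R, hR⟩ := Triality.exists_go (Triality.rmul b) one_ne_zero fun x => by
    show N8 (omul x b) = _; rw [Triality.N8_omul, hb, mul_one, one_mul]
  obtain ⟨M, hM⟩ := Triality.exists_go (Triality.lmul (oconj b)) one_ne_zero fun x => by
    show N8 (omul (oconj b) x) = _; rw [Triality.N8_omul, Triality.N8_oconj, hb]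
  refine ⟨L, R, L * R, M, hL, hR, fun x => by rw [Triality.ap_mul, hL, hR]; rfl, fun u v => ?_, fun u v => ?_, hM⟩
  · rw [Triality.ap_mul, hL, hR, hL, hR]
    exact (Triality.moufang_middle b u v).symm
  · rw [hL, Triality.ap_mul, hL, hR, hM]
    show omul b (omul u v) = omul (omul b (omul u b)) (omul (oconj b) v)
    rw [Triality.moufang_left, Triality.omul_oconj_cancel_left, hb, one_smul]

include T in
theorem Tri.semi_of_commute_witness {L R P : GO N8} (hL : ∀ x, ap L x = omul (mk ee 0) x)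
    (hR : ∀ x, ap R x = omul x (mk ee 0)) (hP : ∀ x, ap P x = omul (mk ee 0) (omul x (mk ee 0)))
    (rP : Rel P L R) {a : Aut8 F} (ha : Commute a (simAut N8 P)) : IsSemi a := by
  have hv : ap P (mk 0 1 : V8) = mk 0 1 := by
    rw [hP, omul_mk, omul_mk]
    simp [adj_mul, det_ee]
  have kill : ∀ (n : Aut8 F) (M : GO N8), n ∈ NF F → n * simAut N8 P = simAut N8 M * n →
      (∀ w, ∃ e : V8, (e = mk ee 0 ∨ e = oconj (mk ee 0)) ∧ (ap M w = omul e w ∨ ap M w = omul w e)) → False := by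
    rintro n M ⟨h, -, σ, rfl⟩ e hM
    rw [mul_assoc, fA_simAut, ← mul_assoc, ← mul_assoc, mul_left_inj, ← map_mul, ← map_mul] at e
    obtain ⟨c, hc0, hc⟩ := exists_smul e
    set v : V8 := mk 0 1
    have hσ : σ ∘ v = v := ext8 fun i => by fin_cases i <;> simp [v, mk]
    have hfix : ap (mapF σ P) v = v := by
      conv_lhs => rw [← hσ]
      rw [ap_mapF, hv, hσ]
    set w := ap h v
    have hw : ap M w = c⁻¹ • w := by
      have := hc v
      rw [Triality.ap_mul, hfix, Triality.ap_mul] at this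
      rw [eq_inv_smul_iff₀ hc0]; exact this.symm
    have hNw : N8 w ≠ 0 := by
      obtain ⟨d, hd⟩ := h.2
      show N8 (ap h v) ≠ 0
      rw [show ap h v = h.1.val *ᵥ v from rfl, hd, N8_mk]
      simp
    obtain ⟨e', he', hMw⟩ := hM w
    have key : e' = c⁻¹ • oone := by
      refine smul_right_injective V8 hNw ?_
      show N8 w • e' = N8 w • c⁻¹ • oone
      rcases hMw with h1 | h1 <;> rw [h1] at hw
      · rw [← Triality.omul_omul_oconj_cancel w e', hw, Triality.omul_smul_left, ← Triality.omul_oone w,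
          show omul (omul w oone) (oconj (omul w oone)) = N8 w • oone by
            rw [Triality.omul_oone]
            simpa [Triality.oone_omul] using Triality.omul_omul_oconj_cancel w oone, smul_comm]
        rw [Triality.omul_oone]
      · rw [← Triality.oconj_omul_cancel w e', hw, Triality.omul_smul_right,
          show omul (oconj w) w = N8 w • oone by
            simpa [Triality.omul_oone] using Triality.oconj_omul_cancel w oone, smul_comm]
    have h10 := congrFun key (Sum.inl 1)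
    rcases he' with rfl | rfl <;> simp [mk, ee, oone, oconj] at h10
  have hC : ∀ (X : GO N8) (e : V8), (∀ x, ap X x = omul e x) → ∀ w, ap (T.C * X * T.C) w = omul w (oconj e) :=
    fun X e hX w => by rw [Triality.ap_mul, Triality.ap_mul, T.apC, T.apC, hX, Triality.oconj_omul,
      Triality.oconj_oconj]
  have hC' : ∀ (X : GO N8) (e : V8), (∀ x, ap X x = omul x e) → ∀ w, ap (T.C * X * T.C) w = omul (oconj e) w :=
    fun X e hX w => by rw [Triality.ap_mul, Triality.ap_mul, T.apC, T.apC, hX, Triality.oconj_omul,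
      Triality.oconj_oconj]
  have move : ∀ (w n M : Aut8 F), Commute (w * n) (simAut N8 P) → w⁻¹ * simAut N8 P = M * w⁻¹ →
      n * simAut N8 P = M * n := fun w n M hc hM => by
    calc n * simAut N8 P = w⁻¹ * (w * n * simAut N8 P) := by group
      _ = w⁻¹ * simAut N8 P * (w * n) := by rw [hc.eq]; simp only [mul_assoc]
      _ = _ := by rw [hM]; group
  obtain ⟨n, hn, rfl | rfl | rfl | rfl | rfl | rfl⟩ := T.forms a
  · exact T.isSemi_iff.2 (Or.inl hn)
  · exact T.isSemi_iff.2 (Or.inr (by rw [← mul_assoc, T.C_C, one_mul]; exact hn))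
  · exact (kill n _ hn (move _ _ _ ha (T.tau_inv_sim rP)) fun w => ⟨_, Or.inr rfl, Or.inr (hC L _ hL w)⟩).elim
  · refine (kill n _ hn (move _ _ _ ha (by rw [inv_inv]; exact T.tau_sim rP)) fun w =>
      ⟨_, Or.inr rfl, Or.inl (hC' R _ hR w)⟩).elim
  · refine (kill n L hn (move _ _ _ ha (by rw [T.inv_phi]; exact T.rel _ _ _ rP)) fun w =>
      ⟨_, Or.inl rfl, Or.inl (hL w)⟩).elim
  · refine (kill n R hn (move _ _ _ ha ?_) fun w => ⟨_, Or.inl rfl, Or.inr (hR w)⟩).elim
    have e1 := T.rel _ _ _ (rP.conj T.apC)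
    have hCC : ∀ z, T.C * (T.C * z * T.C) * T.C = z := fun z => by
      rw [← mul_assoc, ← mul_assoc, Triality.conj_mul_self T.apC, one_mul, mul_assoc,
        Triality.conj_mul_self T.apC, mul_one]
    calc (simAut N8 T.C * T.φ * simAut N8 T.C)⁻¹ * simAut N8 P
        = simAut N8 T.C * (T.φ * simAut N8 (T.C * P * T.C)) * simAut N8 T.C := by
          rw [mul_inv_rev, mul_inv_rev, T.inv_C, T.inv_phi, map_mul, map_mul]
          simp only [mul_assoc]
          rw [T.C_C, mul_one]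
      _ = simAut N8 R * (simAut N8 T.C * T.φ * simAut N8 T.C)⁻¹ := by
          rw [e1, mul_inv_rev, mul_inv_rev, T.inv_C, T.inv_phi]
          conv_rhs => rw [← hCC R, map_mul, map_mul]
          simp only [mul_assoc]
          rw [← mul_assoc (simAut N8 T.C) (simAut N8 T.C), T.C_C, one_mul]

end Cfsg.Agent.TrialityBalance
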