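import Cfsg.Agent.Lib.TrialityBalance.Okubo

/-!
Local balance at triality composed with a field automorphism of order three.
-/

set_option autoImplicit false
set_option maxHeartbeats 800000

namespace Cfsg.Agent.TrialityBalance

open scoped Matrix MatrixGroups
open Matrix (adjugate det)
open Triality (omul oconj oone ap Rel ext8 N8_apply)
open QForm (plusForm)
open ClassicalSimple (GO simAut scalarGO omegaSub scalarSub)
open AutPO (fieldA fixes_plus mapGO Dg Semi semiA)
open LocalBalance (fixK restrictFix mul_conj)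

universe u

variable {F : Type u} [Field F] [Fintype F]

local notation "I8" => (Fin 4 ⊕ Fin 4)
local notation "V8" => (Fin 4 ⊕ Fin 4 → F)
local notation "N8" => plusForm F 4
local notation "M2" => Matrix (Fin 2) (Fin 2) F

/-- The fixed field. -/
abbrev fixFld (σ : F ≃+* F) : Subfield F := (σ : F →+* F).eqLocusField (RingHom.id F)

theorem fixFld_fix {σ : F ≃+* F} (c : fixFld σ) : σ (c : F) = c := c.2

theorem mapG_rational (σ : F ≃+* F) (k : Gm (fixFld σ)) :
    mapG (σ : F →+* F) (mapG (fixFld σ).subtype k) = mapG (fixFld σ).subtype k :=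
  Subtype.ext (Units.ext (Matrix.ext fun i j => fixFld_fix (k.1.val i j)))

theorem exists_mapG {σ : F ≃+* F} {k : Gm F} (hk : mapG (σ : F →+* F) k = k) :
    ∃ k₀ : Gm (fixFld σ), mapG (fixFld σ).subtype k₀ = k := by
  have h : ∀ (g : Gm F), mapG (σ : F →+* F) g = g → ∀ i j, g.1.val i j ∈ fixFld σ := fun g hg i j =>
    congrFun (congrFun (congrArg (fun g : Gm F => g.1.val) hg) i) j
  have hki : mapG (σ : F →+* F) k⁻¹ = k⁻¹ := by rw [map_inv, hk]
  set f := (fixFld σ).subtype
  set M : Matrix I8 I8 (fixFld σ) := Matrix.of fun i j => ⟨k.1.val i j, h k hk i j⟩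
  set M' : Matrix I8 I8 (fixFld σ) := Matrix.of fun i j => ⟨(k⁻¹ : Gm F).1.val i j, h _ hki i j⟩
  have eM : M.map f = k.1.val := Matrix.ext fun _ _ => rfl
  have eM' : M'.map f = (k⁻¹ : Gm F).1.val := Matrix.ext fun _ _ => rfl
  have h1 : M * M' = 1 := Matrix.map_injective f.injective (by
    show (M * M').map f = (1 : Matrix I8 I8 (fixFld σ)).map f
    rw [Matrix.map_mul, eM, eM', Matrix.map_one f f.map_zero f.map_one, ← Units.val_mul, ← Subgroup.coe_mul,
      mul_inv_cancel]
    rfl)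
  have h2 : M' * M = 1 := Matrix.map_injective f.injective (by
    show (M' * M).map f = (1 : Matrix I8 I8 (fixFld σ)).map f
    rw [Matrix.map_mul, eM, eM', Matrix.map_one f f.map_zero f.map_one, ← Units.val_mul, ← Subgroup.coe_mul,
      inv_mul_cancel]
    rfl)
  refine ⟨⟨⟨M, M', h1, h2⟩, fun x y => ?_⟩, Subtype.ext (Units.ext eM)⟩
  show M *ᵥ omul x y = omul (M *ᵥ x) (M *ᵥ y)
  have e : ∀ v : I8 → fixFld σ, f ∘ (M *ᵥ v) = gap k (f ∘ v) := fun v => by
    rw [gap, ← eM]
    exact funext fun i => RingHom.map_mulVec f M v i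
  refine funext fun i => f.injective (congrFun (show f ∘ (M *ᵥ omul x y) = f ∘ omul (M *ᵥ x) (M *ᵥ y) from ?_) i)
  rw [e, ← omul_ringHom f, gap_omul, ← e, ← e, omul_ringHom]

theorem det_twist {σ : F ≃+* F} (hσ : σ ≠ 1) : ∃ θ : F,
    (θ - σ θ) * (θ - σ θ) - (θ - σ θ) * (σ (σ θ) - σ θ) + (σ (σ θ) - σ θ) * (σ (σ θ) - σ θ) ≠ 0 := by
  by_contra H
  push Not at H
  obtain ⟨t, ht⟩ : ∃ t, σ t ≠ t := by
    by_contra H'
    push Not at H'
    exact hσ (RingEquiv.ext H')
  have hu : t - σ t ≠ 0 := sub_ne_zero.2 (Ne.symm ht)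
  obtain ⟨r, hb⟩ : ∃ r, σ (σ t) - σ t = r * (t - σ t) :=
    ⟨(σ (σ t) - σ t) / (t - σ t), (div_mul_cancel₀ _ hu).symm⟩
  have hr : 1 - r + r * r = 0 := by
    have h := H t
    rw [hb] at h
    have : (1 - r + r * r) * ((t - σ t) * (t - σ t)) = 0 := by linear_combination h
    exact (mul_eq_zero.1 this).resolve_right (mul_ne_zero hu hu)
  set u : F → F := fun θ => θ - σ θ
  set b : F → F := fun θ => σ (σ θ) - σ θ
  have ua : ∀ p q, u (p + q) = u p + u q := fun p q => by simp only [u, map_add]; ring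
  have ba : ∀ p q, b (p + q) = b p + b q := fun p q => by simp only [b, map_add]; ring
  have hor : ∀ θ, b θ = r * u θ ∨ b θ = (1 - r) * u θ := fun θ => by
    have : (b θ - r * u θ) * (b θ - (1 - r) * u θ) = 0 := by linear_combination H θ - u θ * u θ * hr
    exact (mul_eq_zero.1 this).imp sub_eq_zero.1 sub_eq_zero.1
  obtain ⟨s, hs0, hs1, hs⟩ : ∃ s, s ≠ 0 ∧ s ≠ 1 ∧ ∀ θ, b θ = s * u θ := by
    have hr0 : r ≠ 0 := fun e => one_ne_zero (show (1 : F) = 0 by simpa [e] using hr)
    have hr1 : r ≠ 1 := fun e => one_ne_zero (show (1 : F) = 0 by simpa [e] using hr)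
    by_cases h1 : ∀ θ, b θ = r * u θ
    · exact ⟨r, hr0, hr1, h1⟩
    · push Not at h1
      obtain ⟨p, hp⟩ := h1
      refine ⟨1 - r, sub_ne_zero.2 (Ne.symm hr1), fun e => hr0 (by linear_combination -e), fun q => ?_⟩
      have hp' := (hor p).resolve_left hp
      refine (hor q).elim (fun hq => ?_) id
      rcases hor (p + q) with h | h <;> rw [ba, ua] at h
      · exact absurd (by linear_combination h - hq) hp
      · linear_combination h - hp'
  have key : ∀ θ, (s - 1) * (σ t - σ (σ t)) * σ θ = s * (t - σ (σ t)) * θ := fun θ => by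
    have e1 := hs θ
    have e2 := hs (t * θ)
    simp only [b, u, map_mul] at e1 e2
    linear_combination e2 - σ (σ t) * e1
  have hA := key 1
  rw [map_one, mul_one, mul_one] at hA
  have := key t
  rw [← hA] at this
  have hne : σ t - σ (σ t) ≠ 0 := sub_ne_zero.2 fun e => ht (σ.injective e).symm
  exact ht (mul_left_cancel₀ (mul_ne_zero (sub_ne_zero.2 hs1) hne) this)

theorem exists_twist {σ : F ≃+* F} (hσ : σ ≠ 1) (hσ3 : σ ^ 3 = 1) :
    ∃ w : Gm F, Commute w zP ∧ mapG (σ : F →+* F) w = zP * w := by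
  obtain ⟨θ, hθ⟩ := det_twist hσ
  have h3' : ∀ a, σ (σ (σ a)) = a := fun a => DFunLike.congr_fun hσ3 a
  set c : M2 := θ • 1 + σ θ • (ee * ee) + σ (σ θ) • ee with hc
  have hd : c.det ≠ 0 := by
    convert hθ using 1
    simp [hc, ee, Matrix.det_fin_two, Matrix.mul_apply, Fin.sum_univ_two]
    ring
  have hcσ : c.map σ = ee * c := by
    ext i j
    fin_cases i <;> fin_cases j <;>
      simp [hc, ee, Matrix.mul_apply, Fin.sum_univ_two, h3'] <;> ring
  set cU : GL (Fin 2) F := Matrix.GeneralLinearGroup.mkOfDetNeZero c hd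
  have hU : Matrix.GeneralLinearGroup.map (σ : F →+* F) cU = eG * cU := Units.ext hcσ
  have hUi : (cU⁻¹).val.map σ = (cU⁻¹).val * adjugate ee := by
    have e := congrArg (fun g : GL (Fin 2) F => (g⁻¹).val) hU
    simp only [← map_inv, mul_inv_rev, Units.val_mul] at e
    rw [show adjugate (ee : M2) = (eG⁻¹ : GL (Fin 2) F).val by
      rw [← eG_val, adj_GL, eG_val, det_ee, one_smul]]
    exact e
  have hdσ : σ c.det = c.det := by
    have h : σ c.det = (c.map σ).det := RingHom.map_det (σ : F →+* F) c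
    rw [h, hcσ, Matrix.det_mul, det_ee, one_mul]
  set dU : GL (Fin 2) F := Matrix.GeneralLinearGroup.mkOfDetNeZero !![c.det, 0; 0, 1]
    (by simpa [Matrix.det_fin_two] using hd)
  have hdU : dU.val.map σ = dU.val := by
    show (!![c.det, 0; 0, 1] : M2).map σ = !![c.det, 0; 0, 1]
    ext i j
    fin_cases i <;> fin_cases j <;> simp [hdσ]
  set p : Pair F := ⟨(cU, dU), show c.det = (!![c.det, 0; 0, 1] : M2).det by simp [Matrix.det_fin_two]⟩
  refine ⟨pairG p, ?_, gap_ext_rational (σ : F →+* F) fun X Y => ?_⟩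
  · have hce : c * ee = ee * c := by
      simp only [hc, Matrix.add_mul, Matrix.mul_add, smul_mul_assoc, mul_smul_comm, one_mul, mul_one, mul_assoc]
    show pairG p * pairG (pL eG det_eG) = pairG (pL eG det_eG) * pairG p
    rw [← map_mul, ← map_mul]
    refine congrArg _ (Subtype.ext (Prod.ext (Units.ext ?_) ?_))
    · exact hce
    · show dU * 1 = 1 * dU
      rw [mul_one, one_mul]
  · rw [comp_mk, gap_mul, gap_pairG, gap_pairG, gap_zP, comp_mk, Matrix.map_mul, Matrix.map_mul, Matrix.map_mul,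
      Matrix.map_mul]
    show mk (ee * (c * X.map σ * (cU⁻¹).val) * adjugate ee) (dU.val * Y.map σ * (cU⁻¹).val * adjugate ee) =
      mk (c.map σ * X.map σ * (cU⁻¹).val.map σ) (dU.val.map σ * Y.map σ * (cU⁻¹).val.map σ)
    rw [hcσ, hdU, hUi]
    simp only [mul_assoc]

variable {σ : F ≃+* F}

theorem fA_commute_theta {k : Gm F} (hk : mapG (σ : F →+* F) k = k) : Commute (fA σ) (theta k) := by
  show _ * _ = _ * _
  rw [fA_theta, hk]

theorem commute_field_iff {k v : Gm F} :
    Commute (theta k) (theta v * fA σ) ↔ k * v = v * mapG (σ : F →+* F) k := by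
  rw [commute_iff_eq, mul_assoc (theta v), fA_theta, ← mul_assoc, ← mul_assoc, ← map_mul, ← map_mul, mul_left_inj,
    theta_injective.eq_iff]

variable (h3 : (3 : F) ≠ 0) (T : Tri F)

theorem Tri.commute_rational {k : Gm F} (hk : mapG (σ : F →+* F) k = k) :
    Commute (theta k) (T.tau * fA σ) :=
  (T.tau_theta k).symm.mul_right (fA_commute_theta hk).symm

include h3 in
/-- The part of the core centralising a conjugate of triality. -/
theorem Tri.line_eq_one (Y : Aut8 F) (v w : Gm F) (hw : v * mapG (σ : F →+* F) w = w)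
    (hY : Y⁻¹ * (T.tau * fA σ) * Y = T.tau * theta v * fA σ)
    (hD : ∀ h ∈ Dg N8 4, ∃ h' ∈ Dg N8 4, Y⁻¹ * simAut N8 h * Y = simAut N8 h')
    {l : Aut8 F} (hl : l ∈ coreAut (T.tau * fA σ)) (hc : Commute (Y⁻¹ * l * Y) T.tau) : l = 1 := by
  obtain ⟨hlx, h, hh, rfl⟩ := mem_coreAut hl
  obtain ⟨h', hh', e'⟩ := hD h hh
  rw [e'] at hc
  obtain ⟨k, hk⟩ := T.eq_theta_of_commute hh' hc.symm
  have hconjY : ∀ a b : Aut8 F, Y⁻¹ * a * Y * (Y⁻¹ * b * Y) = Y⁻¹ * (a * b) * Y := fun a b => by group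
  have hkv : k * v = v * mapG (σ : F →+* F) k := by
    refine commute_field_iff.1 ?_
    have hx' : Commute (theta k) (T.tau * theta v * fA σ) := by
      rw [← hY, ← hk, ← e']
      show _ * _ = _ * _
      rw [hconjY, hconjY, hlx.eq]
    have := (T.tau_theta k).symm.inv_right.mul_right hx'
    rwa [mul_assoc T.tau, inv_mul_cancel_left] at this
  have hσw : mapG (σ : F →+* F) w = v⁻¹ * w := eq_inv_mul_of_mul_eq hw
  have hk' : mapG (σ : F →+* F) (w⁻¹ * k * w) = w⁻¹ * k * w := by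
    rw [map_mul, map_mul, map_inv, hσw, show mapG (σ : F →+* F) k = v⁻¹ * k * v by rw [mul_assoc, hkv]; group]
    group
  set f := (fixFld σ).subtype
  set ψ : Gm (fixFld σ) →* Aut8 F :=
    (MulAut.conj Y).toMonoidHom.comp ((theta (F := F)).comp ((MulAut.conj w).toMonoidHom.comp (mapG f))) with hψ
  have hψ' : ∀ g, ψ g = Y * theta (w * mapG f g * w⁻¹) * Y⁻¹ := fun g => rfl
  have hinj : Function.Injective ψ := fun a b hab => by
    rw [hψ', hψ'] at hab
    exact mapG_injective f (by simpa using theta_injective (mul_left_cancel (mul_right_cancel hab)))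
  have hcomm : ∀ g, Commute (ψ g) (T.tau * fA σ) := fun g => by
    have h1 : Commute (theta (w * mapG f g * w⁻¹)) (T.tau * theta v * fA σ) := by
      rw [mul_assoc T.tau]
      refine (T.tau_theta _).symm.mul_right (commute_field_iff.2 ?_)
      rw [map_mul, map_mul, map_inv, hσw, mapG_rational]
      simp only [f]
      group
    have h2 := commute_conj Y h1
    rw [← hY] at h2
    rw [hψ']
    have e : Y * (Y⁻¹ * (T.tau * fA σ) * Y) * Y⁻¹ = T.tau * fA σ := by group
    rwa [e] at h2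
  haveI : ((coreAut (T.tau * fA σ)).comap ψ).Normal := ⟨fun g hg u => by
    rw [Subgroup.mem_comap, map_mul, map_mul, map_inv]
    exact conj_mem_coreAut (hcomm u) hg⟩
  have hbot : (coreAut (T.tau * fA σ)).comap ψ = ⊥ := normal_coprime_eq_bot
    (fun e => h3 (by simpa [map_ofNat] using congrArg f e)) _
    (Nat.Coprime.coprime_dvd_left (Subgroup.card_comap_dvd_of_injective _ ψ hinj) (coprime_coreAut _))
  obtain ⟨k₀, hk₀⟩ := exists_mapG hk'
  have hψk : ψ k₀ = simAut N8 h := by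
    rw [hψ', hk₀, show w * (w⁻¹ * k * w) * w⁻¹ = k by group, ← hk, ← e']
    group
  have hmem : k₀ ∈ (coreAut (T.tau * fA σ)).comap ψ := by rw [Subgroup.mem_comap, hψk]; exact hl
  rw [hbot, Subgroup.mem_bot] at hmem
  rw [← hψk, hmem, map_one]

include h3 in
theorem fixed_lines {v : V8} (hz : gap zP v = v) (hs : gap (shG * zP * shG⁻¹) v = v) : ∃ c : F, v = c • oone := by
  obtain ⟨p, q, hv⟩ := fix_zP h3 hz
  have h1 : gap zP (gap shG⁻¹ v) = gap shG⁻¹ v := by
    have := congrArg (gap shG⁻¹) hs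
    rwa [← gap_mul, ← mul_assoc, ← mul_assoc, inv_mul_cancel, one_mul, gap_mul] at this
  obtain ⟨p', q', hv'⟩ := fix_zP h3 h1
  have e := congrArg (gap shG) hv'
  rw [gap_inv_gap, hv, gap_shG] at e
  have a := congrFun e (.inl 1)
  have b := congrFun e (.inl 2)
  simp [shLin, mk, ee] at a b
  exact ⟨p, by rw [hv, a, b, zero_smul, add_zero, oone_eq, ← mk_smul, smul_zero]⟩

theorem theta_of_fix_lines {h h1 h2 : GO N8} (r : Rel h h1 h2) {c1 c2 : F} (e1 : ap h1 oone = c1 • oone)
    (e2 : ap h2 oone = c2 • oone) : ∃ g : Gm F, simAut N8 h = theta g := by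
  have hne : ∀ (k : GO N8) (c : F), ap k oone = c • oone → c ≠ 0 := fun k c e hc => by
    rw [hc, zero_smul] at e
    have h0 : (oone : V8) = ap k⁻¹ (ap k oone) := (Triality.ap_ap_inv k oone).symm
    rw [e] at h0
    exact oone_ne (h0.trans (Matrix.mulVec_zero _))
  have hc1 := hne _ _ e1
  have hc2 := hne _ _ e2
  have H1 : ∀ u, ap h u = c2 • ap h1 u := fun u => by
    have := r u oone
    rwa [Triality.omul_oone, e2, Triality.omul_smul_right, Triality.omul_oone] at this
  have H2 : ∀ v, ap h v = c1 • ap h2 v := fun v => by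
    have := r oone v
    rwa [Triality.oone_omul, e1, Triality.omul_smul_left, Triality.oone_omul] at this
  set e := c2⁻¹ * c1⁻¹
  have he : e ≠ 0 := mul_ne_zero (inv_ne_zero hc2) (inv_ne_zero hc1)
  have hmul : ∀ u v, ap h (omul u v) = e • omul (ap h u) (ap h v) := fun u v => by
    rw [r, H1 u, H2 v, Triality.omul_smul_left, Triality.omul_smul_right, smul_smul, smul_smul,
      show e * c2 * c1 = 1 by simp only [e]; field_simp, one_smul]
  set k := scalarGO N8 (Units.mk0 e he) * h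
  refine ⟨⟨k.1, fun u v => ?_⟩, simAut_eq e⁻¹ fun v => ?_⟩
  · show ap k (omul u v) = omul (ap k u) (ap k v)
    simp only [k, Triality.ap_mul, Triality.ap_scalar, Units.val_mk0, hmul, Triality.omul_smul_left,
      Triality.omul_smul_right, smul_smul]
  · show ap h v = e⁻¹ • ap k v
    rw [Triality.ap_mul, Triality.ap_scalar, Units.val_mk0, inv_smul_smul₀ he]

include h3 T in
/-- Commuting with two rational elements leaves the octonion automorphisms. -/
theorem Tri.exists_theta_of_commute {h : GO N8} (hh : h ∈ Dg N8 4) {ς : F ≃+* F}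
    (hz : Commute (simAut N8 h * fA ς) (theta zP))
    (hs : Commute (simAut N8 h * fA ς) (theta (shG * zP * shG⁻¹))) : ∃ g : Gm F, simAut N8 h = theta g := by
  obtain ⟨h1, h2, r⟩ := exists_triple hh
  have hzm : mapG (ς : F →+* F) zP = zP := mapG_zP _
  have hsm : mapG (ς : F →+* F) (shG * zP * shG⁻¹) = shG * zP * shG⁻¹ := by
    rw [map_mul, map_mul, map_inv, mapG_zP, mapG_shG]
  have hs3 : (shG * zP * shG⁻¹ : Gm F) ^ 3 = 1 := by rw [conj_pow, zP_cube, mul_one, mul_inv_cancel]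
  have line : ∀ k : GO N8, Commute (simAut N8 k * fA ς) (theta zP) →
      Commute (simAut N8 k * fA ς) (theta (shG * zP * shG⁻¹)) → ∃ c : F, ap k oone = c • oone := by
    intro k hk hk'
    have e : sAct k ς oone = ap k oone := by
      rw [sAct]
      exact congrArg (ap k) (ext8 fun i => by fin_cases i <;> simp [oone])
    have a := exact_of_commute hzm hk zP_cube oone
    have b := exact_of_commute hsm hk' hs3 oone
    rw [gap_oone, e] at a b
    exact fixed_lines h3 a.symm b.symm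
  have hconjC : ∀ (k : GO N8), (∃ c : F, ap (T.C * k * T.C) oone = c • oone) → ∃ c : F, ap k oone = c • oone := by
    rintro k ⟨c, hc⟩
    refine ⟨c, ?_⟩
    rw [Triality.ap_mul, Triality.ap_mul, T.apC, T.apC, Triality.oconj_oone] at hc
    rw [← Triality.oconj_oconj (ap k oone), hc]
    exact ext8 fun i => by fin_cases i <;> simp [oconj, oone]
  have move : ∀ (u : Gm F) (k : Aut8 F), Commute k (theta u) →
      Commute (T.tau * k * T.tau⁻¹) (theta u) ∧ Commute (T.tau⁻¹ * k * T.tau) (theta u) := fun u k hk =>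
    ⟨((T.tau_theta u).mul_left hk).mul_left (T.tau_theta u).inv_left,
      ((T.tau_theta u).inv_left.mul_left hk).mul_left (T.tau_theta u)⟩
  have a2 : T.tau * (simAut N8 h * fA ς) * T.tau⁻¹ = simAut N8 (T.C * h2 * T.C) * fA ς := by
    rw [← mul_assoc, T.tau_sim r, mul_assoc _ T.tau, (T.tau_field ς).eq, ← mul_assoc, mul_inv_cancel_right]
  have a1 : T.tau⁻¹ * (simAut N8 h * fA ς) * T.tau = simAut N8 (T.C * h1 * T.C) * fA ς := by
    rw [← mul_assoc, T.tau_inv_sim r, mul_assoc _ T.tau⁻¹, ((T.tau_field ς).inv_left).eq, ← mul_assoc,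
      inv_mul_cancel_right]
  obtain ⟨c1, e1⟩ := hconjC h1 (line _ (a1 ▸ (move _ _ hz).2) (a1 ▸ (move _ _ hs).2))
  obtain ⟨c2, e2⟩ := hconjC h2 (line _ (a2 ▸ (move _ _ hz).1) (a2 ▸ (move _ _ hs).1))
  exact theta_of_fix_lines r e1 e2

include h3 in
theorem Tri.core_field (hσ : σ ≠ 1) (hσ3 : σ ^ 3 = 1) :
    Cfsg.pPrimeCore 3 ↥(fixK (T.tau * fA σ)) = ⊥ := by
  refine core_eq_bot_of_coreAut ?_
  set x := T.tau * fA σ with hx
  obtain ⟨L, -, P, M, hL, -, -, -, rL, hM⟩ := exists_lmul_ee (F := F)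
  obtain ⟨w, hwz, hσw⟩ := exists_twist hσ hσ3
  set Y := simAut N8 L
  have hY : Y * T.tau * Y⁻¹ = T.tau * theta zP := T.tau_lmul hL hM rL
  have hez : gap zP (mk (ee : M2) 0) = mk ee 0 := by
    rw [gap_zP, mul_assoc, mul_adj, det_ee, one_smul, mul_one, zero_mul]
  have hYz : Commute (theta zP) Y := commute_lmul hez hL
  have hYf : Commute (fA σ) Y := by
    show fA σ * Y = Y * fA σ
    rw [fA_simAut, mapF_rational σ (b := mk ee 0) ?_ hL]
    exact ext8 fun i => by fin_cases i <;> simp [mk, ee]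
  have hY' : Y⁻¹ * T.tau * Y = T.tau * theta (zP ^ 2) := by
    have e : T.tau = Y⁻¹ * (T.tau * theta zP) * Y := by rw [← hY]; group
    rw [show Y⁻¹ * (T.tau * theta zP) * Y = Y⁻¹ * T.tau * (theta zP * Y) by group, hYz.eq, ← mul_assoc,
      eq_comm, ← eq_mul_inv_iff_mul_eq] at e
    rw [e, ← map_inv]
    congr 2
    rw [inv_eq_iff_mul_eq_one, ← pow_succ', zP_cube]
  have hDY : ∀ h : GO N8, h ∈ Dg N8 4 → ∃ h' ∈ Dg N8 4, Y⁻¹ * simAut N8 h * Y = simAut N8 h' := fun h hh =>
    ⟨L⁻¹ * h * L, mul_mem (mul_mem (inv_mem (AutPOmega.TG_le_Dg ⟨_, _, rL⟩)) hh) (AutPOmega.TG_le_Dg ⟨_, _, rL⟩),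
      by rw [map_mul, map_mul, map_inv]⟩
  have hDY' : ∀ h : GO N8, h ∈ Dg N8 4 → ∃ h' ∈ Dg N8 4, Y⁻¹⁻¹ * simAut N8 h * Y⁻¹ = simAut N8 h' := fun h hh =>
    ⟨L * h * L⁻¹, mul_mem (mul_mem (AutPOmega.TG_le_Dg ⟨_, _, rL⟩) hh) (inv_mem (AutPOmega.TG_le_Dg ⟨_, _, rL⟩)),
      by rw [map_mul, map_mul, map_inv, inv_inv]⟩
  have c0 : ∀ l ∈ coreAut x, Commute l T.tau → l = 1 := fun l hl hc =>
    T.line_eq_one h3 1 1 1 (by rw [map_one, one_mul]) (by rw [map_one, inv_one, one_mul, mul_one, mul_one])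
      (fun h hh => ⟨h, hh, by rw [inv_one, one_mul, mul_one]⟩) hl (by rwa [inv_one, one_mul, mul_one])
  have c1 : ∀ l ∈ coreAut x, Commute l (T.tau * theta zP) → l = 1 := fun l hl hc => by
    refine T.line_eq_one h3 Y (zP ^ 2) w (by rw [hσw, ← mul_assoc, ← pow_succ, zP_cube, one_mul]) ?_ hDY hl ?_
    · rw [show Y⁻¹ * (T.tau * fA σ) * Y = Y⁻¹ * T.tau * (fA σ * Y) by group, hYf.eq, ← mul_assoc, hY']
    · have := commute_conj Y⁻¹ hc
      rwa [inv_inv, show Y⁻¹ * (T.tau * theta zP) * Y = Y⁻¹ * T.tau * (theta zP * Y) by group, hYz.eq,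
        ← mul_assoc, hY', mul_assoc T.tau, ← map_mul, ← pow_succ, zP_cube, map_one, mul_one] at this
  have c2 : ∀ l ∈ coreAut x, Commute l (T.tau * theta (zP ^ 2)) → l = 1 := fun l hl hc => by
    refine T.line_eq_one h3 Y⁻¹ zP (w * w) ?_ ?_ hDY' hl ?_
    · rw [map_mul, hσw, show zP * (zP * w * (zP * w)) = zP * zP * (w * zP) * w by group, hwz.eq,
        show zP * zP * (zP * w) * w = zP * zP * zP * (w * w) by group, ← pow_two, ← pow_succ, zP_cube, one_mul]
    · rw [inv_inv, show Y * (T.tau * fA σ) * Y⁻¹ = Y * T.tau * Y⁻¹ * (Y * fA σ * Y⁻¹) by group, hY,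
        ← hYf.eq, mul_inv_cancel_right]
    · have := commute_conj Y hc
      have hz2 : Commute (theta (zP ^ 2)) Y := by rw [map_pow]; exact hYz.pow_left 2
      rwa [show Y * (T.tau * theta (zP ^ 2)) * Y⁻¹ = Y * T.tau * Y⁻¹ * (Y * theta (zP ^ 2) * Y⁻¹) by group, hY,
        ← hz2.eq, mul_inv_cancel_right, mul_assoc T.tau, ← map_mul, ← pow_succ', zP_cube, map_one, mul_one,
        ← inv_inv Y, inv_inv Y⁻¹] at this
  have hτx : Commute T.tau x := (Commute.refl T.tau).mul_right (T.tau_field σ)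
  have hzx : Commute (theta (zP : Gm F)) x := T.commute_rational (mapG_zP _)
  have hcentral : ∀ l ∈ coreAut x, Commute l (theta zP) := by
    refine cyclic_lines _ (coprime_coreAut x) T.tau_cube (b := theta zP) (by rw [← map_pow, zP_cube, map_one]) ?_
      (T.tau_theta zP) ?_ (fun l hl => conj_mem_coreAut hτx hl) (fun l hl => conj_mem_coreAut hzx hl)
      (fun l hl h => by rw [c0 l hl h]; exact Commute.one_left _)
      (fun l hl h => by rw [c1 l hl h]; exact Commute.one_left _)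
      (fun l hl h => by rw [c2 l hl (by rwa [map_pow])]; exact Commute.one_left _)
    · intro e
      rw [← map_one (theta (F := F))] at e
      have := congrArg (fun g => gap g (mk (0 : M2) 1) (Sum.inl 3)) (theta_injective e)
      simp only [gap_zP, gap_one] at this
      simp [mk, ee, Matrix.adjugate_fin_two] at this
    · intro hm
      refine T.tau_not_semi (T.isSemi_iff.2 (Or.inl (Subgroup.zpowers_le.2 ?_ hm)))
      exact simAut_mem_NF (toGO_mem_Dg zP)
  refine eq_bot_iff.2 fun l hl => Subgroup.mem_bot.2 ?_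
  obtain ⟨-, h, hh, rfl⟩ := mem_coreAut hl
  have hs : Commute (simAut N8 h) (theta (shG * zP * shG⁻¹)) := by
    set g := theta (shG : Gm F)
    have hg : Commute g x := T.commute_rational (mapG_shG _)
    have := commute_conj g (hcentral _ (conj_mem_coreAut hg.inv_left hl))
    rwa [inv_inv, show g * (g⁻¹ * simAut N8 h * g) * g⁻¹ = simAut N8 h by group, ← map_inv, ← map_mul,
      ← map_mul] at this
  obtain ⟨g, hg⟩ := T.exists_theta_of_commute h3 hh (ς := 1) (by rw [fA_one, mul_one]; exact hcentral _ hl)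
    (by rw [fA_one, mul_one]; exact hs)
  exact c0 _ hl (hg ▸ (T.tau_theta g).symm)

include h3 in
theorem Tri.fix_field (hσ : σ ≠ 1) (hσ3 : σ ^ 3 = 1) {a : Aut8 F} (ha : Commute a (T.tau * fA σ))
    (hfix : ∀ k ∈ fixK (T.tau * fA σ), a k = k) (hco : (orderOf a).Coprime 3) : a = 1 := by
  obtain ⟨h, hh, ς, rfl⟩ := T.mem_NF (x := T.tau * fA σ) (by rw [inv_mul_cancel_left]; exact fA_mem_NF σ) ha hco
  have cr : ∀ k : Gm F, (∃ j, MulAut.conj j = theta k) → mapG (σ : F →+* F) k = k →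
      Commute (simAut N8 h * fA ς) (theta k) := fun k hi hk => commute_of_fix hfix hi (T.commute_rational hk)
  have hz := cr _ (theta_cube_inner zP_cube) (mapG_zP _)
  have hs := cr (shG * zP * shG⁻¹) (theta_conj_inner (theta_cube_inner zP_cube))
    (by rw [map_mul, map_mul, map_inv, mapG_zP, mapG_shG])
  have ht := cr _ (theta_cube_inner tP_cube) (mapG_tP _)
  have hu : ∀ b : F, σ b = b → Commute (simAut N8 h * fA ς) (theta (lG (uG b) (det_uG b))) := fun b hb =>
    cr _ (theta_lU_inner b) ((mapG_lU (σ : F →+* F) b).trans (by congr 1; exact congrArg uG hb))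
  have hgu := cr (gam h3 * lG (uG 1) (det_uG 1) * (gam h3)⁻¹) (theta_conj_inner (theta_lU_inner 1))
    (by rw [map_mul, map_mul, map_inv, mapG_gam (σ : F →+* F) h3 h3, mapG_lU]; congr 4; exact map_one _)
  obtain ⟨g, hg⟩ := T.exists_theta_of_commute h3 hh hz hs
  rw [hg] at ht hz hu hgu hco ⊢
  obtain rfl : g = 1 := rigid h3 ht hz (hu 1 (map_one σ)) hgu
  simp only [map_one, one_mul] at ht hu hco ⊢
  set n := orderOf (fA ς) with hn
  have hςn : ς ^ n = 1 := by
    have e : ∀ i : ℕ, fA ς ^ i = fA (ς ^ i) := fun i => by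
      induction i with
      | zero => rw [pow_zero, pow_zero, fA_one]
      | succ i ih => rw [pow_succ, pow_succ, ih, fA_mul]
    refine sigma_eq (h := (1 : GO N8)) (k := 1) ?_
    rw [← e, hn, pow_orderOf_eq_one, fA_one, map_one, one_mul]
  have hς : ς = 1 := AutPO.eq_one_of_fix_field (orderOf_eq_prime hσ3 hσ)
    (fun t ht' => rigid_field h3 ht fun b hb => by
      rcases hb with rfl | rfl
      exacts [hu 1 (map_one σ), hu _ ht'])
    hςn hco
  rw [hς, fA_one]

end Cfsg.Agent.TrialityBalance
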