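import Cfsg.Agent.Lib.TrialityBalance.Point

/-!
The stabiliser of the base point in the three representations, its Levi part and its unipotent part.
-/

set_option autoImplicit false
set_option maxHeartbeats 1600000

namespace Cfsg.Agent.TrialityBalance

open scoped Matrix MatrixGroups
open Matrix (adjugate det)
open Triality (omul oconj oone ap Rel ext8 N8_apply)
open QForm (plusForm)
open ClassicalSimple (GO simAut scalarGO omegaSub scalarSub)
open AutPO (fieldA fixes_plus mapGO Dg Semi semiA)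
open LocalBalance (fixK restrictFix mul_conj)

universe u

variable {F : Type u} [Field F] [Fintype F]

local notation "I8" => (Fin 4 ⊕ Fin 4)
local notation "V8" => (Fin 4 ⊕ Fin 4 → F)
local notation "N8" => plusForm F 4
local notation "M2" => Matrix (Fin 2) (Fin 2) F

/-- The Levi map with parameters. -/
def levV (A : M2) (p q x0 x1 : F) : V8 →ₗ[F] V8 where
  toFun v := Sum.elim
    ![x0 * v (.inl 0), x1 * v (.inl 1), (A 0 0 * v (.inl 2) - A 0 1 * v (.inl 3)) * p,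
      (A 1 1 * v (.inl 3) - A 1 0 * v (.inl 2)) * p]
    ![A.det * p * q / x0 * v (.inr 0), A.det * p * q / x1 * v (.inr 1),
      (A 1 0 * v (.inr 3) + A 1 1 * v (.inr 2)) * q, (A 0 0 * v (.inr 3) + A 0 1 * v (.inr 2)) * q]
  map_add' u v := ext8 fun i => by fin_cases i <;> simp <;> (try constructor) <;> ring
  map_smul' c v := ext8 fun i => by fin_cases i <;> simp <;> (try constructor) <;> ring

theorem levV_apply (A : M2) (p q x0 x1 : F) (v : V8) : levV A p q x0 x1 v = Sum.elim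
    ![x0 * v (.inl 0), x1 * v (.inl 1), (A 0 0 * v (.inl 2) - A 0 1 * v (.inl 3)) * p,
      (A 1 1 * v (.inl 3) - A 1 0 * v (.inl 2)) * p]
    ![A.det * p * q / x0 * v (.inr 0), A.det * p * q / x1 * v (.inr 1),
      (A 1 0 * v (.inr 3) + A 1 1 * v (.inr 2)) * q, (A 0 0 * v (.inr 3) + A 0 1 * v (.inr 2)) * q] := rfl

/-- A Levi element. -/
structure IsLev (g : GO (plusForm F 4)) (A : M2) (p q x0 x1 : F) : Prop where
  hA : A.det ≠ 0
  hp : p ≠ 0
  hq : q ≠ 0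
  h0 : x0 ≠ 0
  h1 : x1 ≠ 0
  eq : ∀ v, ap g v = levV A p q x0 x1 v

theorem exists_isLev {A : M2} {p q x0 x1 : F} (hA : A.det ≠ 0) (hp : p ≠ 0) (hq : q ≠ 0) (h0 : x0 ≠ 0)
    (h1 : x1 ≠ 0) : ∃ g : GO N8, IsLev g A p q x0 x1 := by
  obtain ⟨g, hg⟩ := Triality.exists_go (levV A p q x0 x1) (c := A.det * p * q) (mul_ne_zero (mul_ne_zero hA hp) hq)
    fun v => by
      rw [N8_apply, N8_apply, levV_apply]
      simp [Matrix.det_fin_two]
      field_simp
      ring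
  exact ⟨g, hA, hp, hq, h0, h1, hg⟩

theorem IsLev.unique {g g' : GO N8} {A : M2} {p q x0 x1 : F} (h : IsLev g A p q x0 x1)
    (h' : IsLev g' A p q x0 x1) : g = g' := Triality.ap_ext fun v => by rw [h.eq, h'.eq]

theorem IsLev.mul {g g' : GO N8} {A B : M2} {p q x0 x1 p' q' y0 y1 : F} (h : IsLev g A p q x0 x1)
    (h' : IsLev g' B p' q' y0 y1) : IsLev (g * g') (A * B) (p * p') (q * q') (x0 * y0) (x1 * y1) := by
  refine ⟨by rw [Matrix.det_mul]; exact mul_ne_zero h.hA h'.hA, mul_ne_zero h.hp h'.hp, mul_ne_zero h.hq h'.hq,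
    mul_ne_zero h.h0 h'.h0, mul_ne_zero h.h1 h'.h1, fun v => ?_⟩
  rw [Triality.ap_mul, h.eq, h'.eq, levV_apply, levV_apply, levV_apply]
  exact ext8 fun i => by
    fin_cases i <;> simp [Matrix.det_fin_two, Matrix.mul_apply, Fin.sum_univ_two] <;> (try constructor) <;> ring

theorem IsLev.inv {g : GO N8} {A : M2} {p q x0 x1 : F} (h : IsLev g A p q x0 x1) :
    IsLev g⁻¹ A⁻¹ p⁻¹ q⁻¹ x0⁻¹ x1⁻¹ := by
  have hA' : A⁻¹.det ≠ 0 := by
    rw [Matrix.det_nonsing_inv, Ring.inverse_eq_inv']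
    exact inv_ne_zero h.hA
  obtain ⟨g', hg'⟩ := exists_isLev (A := A⁻¹) hA' (inv_ne_zero h.hp) (inv_ne_zero h.hq) (inv_ne_zero h.h0)
    (inv_ne_zero h.h1)
  have hm := h.mul hg'
  rw [Matrix.mul_nonsing_inv A (isUnit_iff_ne_zero.2 h.hA), mul_inv_cancel₀ h.hp, mul_inv_cancel₀ h.hq,
    mul_inv_cancel₀ h.h0, mul_inv_cancel₀ h.h1] at hm
  have : g * g' = 1 := Triality.ap_ext fun v => by
    rw [hm.eq, Triality.ap_one, levV_apply]
    exact ext8 fun i => by fin_cases i <;> simp [Matrix.det_fin_two]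
  rwa [inv_eq_of_mul_eq_one_right this]

theorem isLev_one : IsLev (1 : GO N8) 1 1 1 1 1 := by
  refine ⟨by simp, one_ne_zero, one_ne_zero, one_ne_zero, one_ne_zero, fun v => ?_⟩
  rw [Triality.ap_one, levV_apply]
  exact ext8 fun i => by fin_cases i <;> simp [Matrix.det_fin_two]

theorem IsLev.scale_left {g : GO N8} {A : M2} {p q x0 x1 : F} (h : IsLev g A p q x0 x1) :
    IsLev g (p • A) 1 (q / p) x0 x1 := by
  have hp := h.hp
  refine ⟨by rw [Matrix.det_smul, Fintype.card_fin]; exact mul_ne_zero (pow_ne_zero _ hp) h.hA, one_ne_zero,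
    div_ne_zero h.hq hp, h.h0, h.h1, fun v => ?_⟩
  rw [h.eq, levV_apply, levV_apply]
  exact ext8 fun i => by
    fin_cases i <;> simp [Matrix.det_fin_two] <;> (try constructor) <;> field_simp

theorem IsLev.rel {g g1 g2 : GO N8} {A : M2} {p q x0 x1 : F} (h : IsLev g A p q x0 x1)
    (h1' : IsLev g1 A (q / x1) (q / x0) 1 (q / p)) (h2' : IsLev g2 A p (x0 * x1 / (A.det * q)) x0 x1) :
    Rel g g1 g2 := fun u v => by
  have hd : A 0 0 * A 1 1 - A 0 1 * A 1 0 ≠ 0 := by rw [← Matrix.det_fin_two]; exact h.hA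
  have hp := h.hp
  have hq := h.hq
  have hx0 := h.h0
  have hx1 := h.h1
  rw [h.eq, h1'.eq, h2'.eq, levV_apply, levV_apply, levV_apply]
  have hD : A.det ≠ 0 := h.hA
  have hdd := Matrix.det_fin_two A
  generalize A.det = D at hD hdd ⊢
  refine ext8 fun i => ?_
  fin_cases i <;> simp [omul] <;> constructor <;> field_simp <;> subst hdd <;> ring

theorem IsLev.exists_rel {g : GO N8} {A : M2} {p q x0 x1 : F} (h : IsLev g A p q x0 x1) :
    ∃ g1 g2, Rel g g1 g2 ∧ IsLev g1 A (q / x1) (q / x0) 1 (q / p) ∧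
      IsLev g2 A p (x0 * x1 / (A.det * q)) x0 x1 := by
  obtain ⟨g1, e1⟩ := exists_isLev h.hA (div_ne_zero h.hq h.h1) (div_ne_zero h.hq h.h0) one_ne_zero
    (div_ne_zero h.hq h.hp)
  obtain ⟨g2, e2⟩ := exists_isLev h.hA h.hp (div_ne_zero (mul_ne_zero h.h0 h.h1) (mul_ne_zero h.hA h.hq)) h.h0 h.h1
  exact ⟨g1, g2, h.rel e1 e2, e1, e2⟩

theorem IsLev.conjC {C g : GO N8} (hC : ∀ x, ap C x = oconj x) {A : M2} {p q x0 x1 : F}
    (h : IsLev g A p q x0 x1) : IsLev (C * g * C) A p q (A.det * p * q / x0) x1 := by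
  refine ⟨h.hA, h.hp, h.hq, div_ne_zero (mul_ne_zero (mul_ne_zero h.hA h.hp) h.hq) h.h0, h.h1, fun v => ?_⟩
  rw [Triality.ap_mul, Triality.ap_mul, hC, h.eq, hC, levV_apply, levV_apply]
  have hd : A.det ≠ 0 := h.hA
  have hp := h.hp
  have hq := h.hq
  have hx0 := h.h0
  exact ext8 fun i => by
    fin_cases i <;> simp [oconj] <;> (try constructor) <;> field_simp <;> ring

theorem IsLev.mapF {g : GO N8} (σ : F ≃+* F) {A : M2} {p q x0 x1 : F} (h : IsLev g A p q x0 x1) :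
    IsLev (TrialityBalance.mapF σ g) (A.map σ) (σ p) (σ q) (σ x0) (σ x1) := by
  refine ⟨?_, by simpa using h.hp, by simpa using h.hq, by simpa using h.h0, by simpa using h.h1, fun v => ?_⟩
  · rw [show (A.map σ).det = σ A.det from (RingHom.map_det (σ : F →+* F) A).symm]
    simpa using h.hA
  rw [← comp_symm_comp σ v, ap_mapF, h.eq, levV_apply, levV_apply]
  exact ext8 fun i => by
    fin_cases i <;> simp [Matrix.det_fin_two, map_sub, map_add, map_mul, map_div₀]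

/-- The stabiliser of the base point in the three representations. -/
def InS (g : GO (plusForm F 4)) : Prop :=
  ∃ g1 g2, Rel g g1 g2 ∧ (∃ c : F, ap g aZ = c • aZ) ∧ (∃ c : F, ap g1 aZ = c • aZ) ∧ ∃ c : F, ap g2 aZ = c • aZ

theorem IsLev.aZ {g : GO N8} {A : M2} {p q x0 x1 : F} (h : IsLev g A p q x0 x1) : ap g (aZ : V8) = x1 • aZ := by
  rw [h.eq, levV_apply]
  exact ext8 fun i => by fin_cases i <;> simp

theorem IsLev.inS {g : GO N8} {A : M2} {p q x0 x1 : F} (h : IsLev g A p q x0 x1) : InS g := by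
  obtain ⟨g1, g2, r, e1, e2⟩ := h.exists_rel
  exact ⟨g1, g2, r, ⟨_, h.aZ⟩, ⟨_, e1.aZ⟩, ⟨_, e2.aZ⟩⟩

theorem eigen_mul {g g' : GO N8} {v : V8} (a : ∃ c : F, ap g v = c • v) (b : ∃ c : F, ap g' v = c • v) :
    ∃ c : F, ap (g * g') v = c • v := by
  obtain ⟨c, hc⟩ := a
  obtain ⟨d, hd⟩ := b
  exact ⟨d * c, by rw [Triality.ap_mul, hd, Triality.ap_smul, hc, smul_smul]⟩

theorem eigen_inv {g : GO N8} {v : V8} (a : ∃ c : F, ap g v = c • v) : ∃ c : F, ap g⁻¹ v = c • v := by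
  obtain ⟨c, hc⟩ := a
  refine ⟨c⁻¹, ?_⟩
  by_cases h0 : c = 0
  · rw [h0, zero_smul] at hc
    rw [ap_eq_zero hc, ap_zero, smul_zero]
  · rw [eq_inv_smul_iff₀ h0, ← Triality.ap_smul, ← hc, Triality.ap_ap_inv]

theorem InS.mul {g g' : GO N8} (a : InS g) (b : InS g') : InS (g * g') := by
  obtain ⟨g1, g2, r, e0, e1, e2⟩ := a
  obtain ⟨k1, k2, s, f0, f1, f2⟩ := b
  exact ⟨_, _, r.mul s, eigen_mul e0 f0, eigen_mul e1 f1, eigen_mul e2 f2⟩

theorem InS.inv {g : GO N8} (a : InS g) : InS g⁻¹ := by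
  obtain ⟨g1, g2, r, e0, e1, e2⟩ := a
  exact ⟨_, _, r.inv, eigen_inv e0, eigen_inv e1, eigen_inv e2⟩

theorem inS_one : InS (1 : GO N8) := isLev_one.inS

theorem aZ_comp (σ : F ≃+* F) : σ ∘ (aZ : V8) = aZ := ext8 fun i => by fin_cases i <;> simp

theorem InS.mapF {g : GO N8} (σ : F ≃+* F) (a : InS g) : InS (TrialityBalance.mapF σ g) := by
  obtain ⟨g1, g2, r, e0, e1, e2⟩ := a
  have key : ∀ k : GO N8, (∃ c : F, ap k aZ = c • aZ) → ∃ c : F, ap (TrialityBalance.mapF σ k) aZ = c • aZ := by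
    rintro k ⟨c, hc⟩
    refine ⟨σ c, ?_⟩
    conv_lhs => rw [← aZ_comp σ]
    rw [ap_mapF, hc, comp_smul, aZ_comp]
  exact ⟨_, _, rel_mapF σ r, key _ e0, key _ e1, key _ e2⟩

theorem InS.mem_Dg {g : GO N8} (a : InS g) : g ∈ Dg N8 4 := by
  obtain ⟨g1, g2, r, -⟩ := a
  exact AutPOmega.TG_le_Dg ⟨g1, g2, r⟩

/-- Transport by the inverse of triality. -/
theorem InS.rotate {C g g1 g2 : GO N8} (hC : ∀ x, ap C x = oconj x) (r : Rel g g1 g2)
    (e0 : ∃ c : F, ap g aZ = c • aZ) (e1 : ∃ c : F, ap g1 aZ = c • aZ) (e2 : ∃ c : F, ap g2 aZ = c • aZ) :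
    ∃ g', InS g' ∧ simAut N8 g' = simAut N8 (C * g1 * C) := by
  obtain ⟨c, rs⟩ := r.swap hC
  have hc : ∀ k : GO N8, (∃ d : F, ap k aZ = d • aZ) → ∃ d : F, ap (C * k * C) aZ = d • aZ := by
    rintro k ⟨d, hd⟩
    refine ⟨d, ?_⟩
    rw [Triality.ap_mul, Triality.ap_mul, hC, hC,
      show oconj (aZ : V8) = (-1 : F) • aZ from ext8 fun i => by fin_cases i <;> simp [oconj], Triality.ap_smul, hd,
      oconj_smul, oconj_smul, show oconj (aZ : V8) = (-1 : F) • aZ from ext8 fun i => by fin_cases i <;> simp [oconj]]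
    module
  refine ⟨C * (scalarGO N8 c * g1) * C, ⟨_, _, rs.conj hC, ?_, ?_, ?_⟩, ?_⟩
  · refine hc _ (eigen_mul ⟨c, Triality.ap_scalar c _⟩ e1)
  · exact hc _ (hc _ e2)
  · exact hc _ e0
  · rw [map_mul, map_mul, map_mul (simAut N8) (scalarGO N8 c), Triality.simAut_scalar, one_mul, ← map_mul, ← map_mul]

theorem InS.left_solid {g : GO N8} (a : InS g) {v : V8}
    (h : v (.inr 0) = 0 ∧ v (.inr 1) = 0 ∧ v (.inl 2) = 0 ∧ v (.inl 3) = 0) :
    ap g v (.inr 0) = 0 ∧ ap g v (.inr 1) = 0 ∧ ap g v (.inl 2) = 0 ∧ ap g v (.inl 3) = 0 := by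
  obtain ⟨g1, g2, r, -, ⟨c, e1⟩, -⟩ := a
  have hv : v = omul aZ (Sum.elim ![0, 0, -v (.inr 3), v (.inr 2)] ![v (.inl 1), -v (.inl 0), 0, 0]) :=
    ext8 fun i => by fin_cases i <;> simp [omul, h.1, h.2.1, h.2.2.1, h.2.2.2]
  rw [hv, r, e1, Triality.omul_smul_left]
  simp [omul]

theorem InS.right_solid {g : GO N8} (a : InS g) {v : V8}
    (h : v (.inl 0) = 0 ∧ v (.inr 1) = 0 ∧ v (.inl 2) = 0 ∧ v (.inl 3) = 0) :
    ap g v (.inl 0) = 0 ∧ ap g v (.inr 1) = 0 ∧ ap g v (.inl 2) = 0 ∧ ap g v (.inl 3) = 0 := by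
  obtain ⟨g1, g2, r, -, -, ⟨c, e2⟩⟩ := a
  have hv : v = omul (Sum.elim ![v (.inl 1), 0, v (.inr 3), -v (.inr 2)] ![0, -v (.inr 0), 0, 0]) aZ :=
    ext8 fun i => by fin_cases i <;> simp [omul, h.1, h.2.1, h.2.2.1, h.2.2.2]
  rw [hv, r, e2, Triality.omul_smul_right]
  simp [omul]

/-- The plane through the base point. -/
def InU (v : V8) : Prop :=
  v (.inl 0) = 0 ∧ v (.inr 0) = 0 ∧ v (.inr 1) = 0 ∧ v (.inl 2) = 0 ∧ v (.inl 3) = 0

theorem InU.decomp {v : V8} (h : InU v) :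
    v = v (.inl 1) • aZ + v (.inr 2) • Pi.single (.inr 2) 1 + v (.inr 3) • Pi.single (.inr 3) 1 :=
  ext8 fun i => by fin_cases i <;> simp [h.1, h.2.1, h.2.2.1, h.2.2.2.1, h.2.2.2.2]

theorem InS.plane {g : GO N8} (a : InS g) {v : V8} (h : InU v) : InU (ap g v) :=
  ⟨(a.right_solid ⟨h.1, h.2.2⟩).1, a.left_solid ⟨h.2.1, h.2.2⟩⟩

/-- The unipotent part of the stabiliser. -/
structure IsUnip (g : GO (plusForm F 4)) : Prop where
  inS : InS g
  norm : ∀ v, N8 (ap g v) = N8 v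
  fixA : ap g (aZ : V8) = aZ
  e2 : ∃ c : F, ap g (Pi.single (.inr 2) 1) = Pi.single (.inr 2) 1 + c • (aZ : V8)
  e3 : ∃ c : F, ap g (Pi.single (.inr 3) 1) = Pi.single (.inr 3) 1 + c • (aZ : V8)
  e0 : ∃ w : V8, InU w ∧ ap g (Pi.single (.inl 0) 1) = Pi.single (.inl 0) 1 + w

theorem IsUnip.on_plane {g : GO N8} (h : IsUnip g) {v : V8} (hv : InU v) : ∃ c : F, ap g v = v + c • aZ := by
  obtain ⟨c2, h2⟩ := h.e2
  obtain ⟨c3, h3⟩ := h.e3
  refine ⟨v (.inr 2) * c2 + v (.inr 3) * c3, ?_⟩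
  rw [hv.decomp]
  rw [ap_add, ap_add, Triality.ap_smul, Triality.ap_smul, Triality.ap_smul, h.fixA, h2, h3]
  simp
  module

theorem InU.add {u v : V8} (a : InU u) (b : InU v) : InU (u + v) := by
  obtain ⟨a1, a2, a3, a4, a5⟩ := a
  obtain ⟨b1, b2, b3, b4, b5⟩ := b
  simp [InU, *]

theorem InU.smul {v : V8} (c : F) (a : InU v) : InU (c • v) := by
  obtain ⟨a1, a2, a3, a4, a5⟩ := a
  simp [InU, *]

theorem inU_aZ : InU (aZ : V8) := by simp [InU]

theorem isUnip_one : IsUnip (1 : GO N8) :=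
  ⟨inS_one, fun v => by rw [Triality.ap_one], Triality.ap_one _, ⟨0, by rw [Triality.ap_one, zero_smul, add_zero]⟩,
    ⟨0, by rw [Triality.ap_one, zero_smul, add_zero]⟩, ⟨0, by simp [InU], by rw [Triality.ap_one, add_zero]⟩⟩

theorem IsUnip.mul {g k : GO N8} (a : IsUnip g) (b : IsUnip k) : IsUnip (g * k) := by
  refine ⟨a.inS.mul b.inS, fun v => by rw [Triality.ap_mul, a.norm, b.norm],
    by rw [Triality.ap_mul, b.fixA, a.fixA], ?_, ?_, ?_⟩
  · obtain ⟨c, hc⟩ := a.e2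
    obtain ⟨d, hd⟩ := b.e2
    exact ⟨c + d, by rw [Triality.ap_mul, hd, ap_add, Triality.ap_smul, a.fixA, hc, add_smul, add_assoc]⟩
  · obtain ⟨c, hc⟩ := a.e3
    obtain ⟨d, hd⟩ := b.e3
    exact ⟨c + d, by rw [Triality.ap_mul, hd, ap_add, Triality.ap_smul, a.fixA, hc, add_smul, add_assoc]⟩
  · obtain ⟨w, hw, hc⟩ := a.e0
    obtain ⟨w', hw', hd⟩ := b.e0
    exact ⟨w + ap g w', hw.add (a.inS.plane hw'), by rw [Triality.ap_mul, hd, ap_add, hc, add_assoc]⟩

theorem IsUnip.inv {g : GO N8} (a : IsUnip g) : IsUnip g⁻¹ := by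
  have hf : ap g⁻¹ (aZ : V8) = aZ := by
    conv_lhs => rw [← a.fixA, Triality.ap_ap_inv]
  have key : ∀ (e w : V8), ap g e = e + w → ap g⁻¹ e = e + -ap g⁻¹ w := fun e w he => by
    have := congrArg (ap g⁻¹) he
    rw [Triality.ap_ap_inv, ap_add] at this
    rw [← sub_eq_add_neg, eq_sub_iff_add_eq]
    exact this.symm
  refine ⟨a.inS.inv, fun v => by rw [← a.norm, Triality.ap_inv_ap], hf, ?_, ?_, ?_⟩
  · obtain ⟨c, hc⟩ := a.e2
    exact ⟨-c, by rw [key _ _ hc, Triality.ap_smul, hf, neg_smul]⟩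
  · obtain ⟨c, hc⟩ := a.e3
    exact ⟨-c, by rw [key _ _ hc, Triality.ap_smul, hf, neg_smul]⟩
  · obtain ⟨w, hw, hc⟩ := a.e0
    exact ⟨_, by rw [← neg_one_smul F]; exact (a.inS.inv.plane hw).smul _, key _ _ hc⟩

theorem IsUnip.conj {s g : GO N8} (hs : InS s) (a : IsUnip g) : IsUnip (s * g * s⁻¹) := by
  obtain ⟨μ, -, hμ⟩ := Triality.exists_mult s
  have hsa : ∃ c : F, ap s aZ = c • aZ := by
    obtain ⟨_, _, _, e, -⟩ := hs
    exact e
  obtain ⟨c, hc⟩ := hsa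
  have step : ∀ v : V8, InU v → ∃ d : F, ap (s * g * s⁻¹) v = v + d • aZ := fun v hv => by
    obtain ⟨d, hd⟩ := a.on_plane (hs.inv.plane hv)
    exact ⟨d * c, by rw [Triality.ap_mul, Triality.ap_mul, hd, ap_add, Triality.ap_inv_ap, Triality.ap_smul, hc,
      smul_smul]⟩
  refine ⟨(hs.mul a.inS).mul hs.inv, fun v => ?_, ?_, ?_, ?_, ?_⟩
  · rw [Triality.ap_mul, Triality.ap_mul, hμ, a.norm, ← hμ, Triality.ap_inv_ap]
  · obtain ⟨d, hd⟩ := eigen_inv (v := (aZ : V8)) ⟨c, hc⟩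
    rw [Triality.ap_mul, Triality.ap_mul, hd, Triality.ap_smul, a.fixA, ← hd, Triality.ap_inv_ap]
  · exact step _ (by simp [InU])
  · exact step _ (by simp [InU])
  · set v := ap s⁻¹ (Pi.single (.inl 0) 1)
    obtain ⟨h1, h2, h3, h4⟩ := hs.inv.left_solid (v := Pi.single (.inl 0) 1) (by simp)
    set u := v - v (.inl 0) • Pi.single (.inl 0) 1
    have hu : InU u := by simp [InU, u, v, h1, h2, h3, h4]
    obtain ⟨w, hw, hw'⟩ := a.e0
    obtain ⟨d, hd⟩ := a.on_plane hu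
    refine ⟨ap s (v (.inl 0) • w + d • aZ), hs.plane ((hw.smul _).add (inU_aZ.smul _)), ?_⟩
    have hv : ap g v = v + (v (.inl 0) • w + d • aZ) := by
      conv_lhs => rw [show v = v (.inl 0) • Pi.single (.inl 0) 1 + u by simp [u]]
      rw [ap_add, Triality.ap_smul, hw', hd]
      simp only [u]
      module
    rw [Triality.ap_mul, Triality.ap_mul, hv, ap_add, Triality.ap_inv_ap]

/-- The unipotent part consists of unipotent elements. -/
theorem IsUnip.pow_eq_one {r : ℕ} [Fact r.Prime] [CharP F r] {g : GO N8} (h : IsUnip g) : g ^ r ^ 3 = 1 := by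
  have hpol : ∀ u v, QuadraticMap.polar ⇑N8 (ap g u) (ap g v) = QuadraticMap.polar ⇑N8 u v := fun u v => by
    simp only [QuadraticMap.polar]
    rw [← ap_add, h.norm, h.norm, h.norm]
  have d1 : ∀ v : V8, (ap g v - v) (.inr 1) = 0 := fun v => by
    have := hpol aZ v
    rw [h.fixA] at this
    simp [Triality.polar_N8] at this
    simp [this]
  have d2 : ∀ v : V8, v (.inr 1) = 0 →
      (ap g v - v) (.inl 2) = 0 ∧ (ap g v - v) (.inl 3) = 0 := fun v hv => by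
    obtain ⟨c2, h2⟩ := h.e2
    obtain ⟨c3, h3⟩ := h.e3
    have e1 : ap g v (.inr 1) = 0 := by
      have := d1 v
      simp [hv] at this
      exact this
    have a2 := hpol (Pi.single (.inr 2) 1) v
    have a3 := hpol (Pi.single (.inr 3) 1) v
    rw [h2] at a2
    rw [h3] at a3
    simp [Triality.polar_N8, e1] at a2 a3
    simp [a2, a3]
  have d3 : ∀ v : V8, v (.inr 1) = 0 → v (.inl 2) = 0 → v (.inl 3) = 0 → InU (ap g v - v) := fun v a b c => by
    obtain ⟨w, hw, hl⟩ := h.e0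
    have e1 : ap g v (.inr 1) = 0 := by simpa [a] using d1 v
    obtain ⟨e2, e3⟩ := d2 v a
    simp [b, c] at e2 e3
    obtain ⟨r0, r1, r2, r3⟩ := h.inS.right_solid (v := Pi.single (.inr 0) 1) (by simp)
    have a0 := hpol (Pi.single (.inl 0) 1) v
    rw [hl] at a0
    simp [Triality.polar_N8, e1, e2, e3, hw.1, hw.2.1, hw.2.2.1, hw.2.2.2.1, hw.2.2.2.2] at a0
    have b0 := hpol (Pi.single (.inl 0) 1) (Pi.single (.inr 0) 1)
    rw [hl] at b0
    simp [Triality.polar_N8, r0, r1, r2, r3, hw.1, hw.2.1, hw.2.2.1, hw.2.2.2.1, hw.2.2.2.2] at b0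
    have c0 := hpol (Pi.single (.inr 0) 1) v
    simp [Triality.polar_N8, r0, r1, r2, r3, b0, e1, e2, e3] at c0
    simp [InU, a, b, c, e1, e2, e3, a0, c0]
  set D : Matrix I8 I8 F := g.1.val - 1
  have hD : ∀ v : V8, D *ᵥ v = ap g v - v := fun v => by
    simp only [D, Matrix.sub_mulVec, Matrix.one_mulVec]
    rfl
  have h5 : D ^ 5 = 0 := Matrix.ext_iff_mulVec.2 fun v => by
    rw [Matrix.zero_mulVec, show D ^ 5 = D * (D * (D * (D * D))) by noncomm_ring, ← Matrix.mulVec_mulVec,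
      ← Matrix.mulVec_mulVec, ← Matrix.mulVec_mulVec, ← Matrix.mulVec_mulVec, hD v]
    set v1 := ap g v - v
    rw [hD v1]
    set v2 := ap g v1 - v1
    rw [hD v2]
    set v3 := ap g v2 - v2
    rw [hD v3]
    obtain ⟨p2, p3⟩ := d2 v1 (d1 v)
    obtain ⟨c, hc⟩ := h.on_plane (d3 v2 (d1 v1) p2 p3)
    rw [hD, show ap g v3 = v3 + c • aZ from hc, add_sub_cancel_left, Triality.ap_smul, h.fixA, sub_self]
  haveI : CharP (Matrix I8 I8 F) r := Matrix.charP r
  have hp : (g.1.val : Matrix I8 I8 F) ^ r ^ 3 = 1 := by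
    have e : (g.1.val : Matrix I8 I8 F) = D + 1 := by simp [D]
    have h8 : 5 ≤ r ^ 3 := le_trans (by norm_num) (Nat.pow_le_pow_left (Fact.out : r.Prime).two_le 3)
    rw [e, add_pow_char_pow_of_commute _ _ (Commute.one_right D), one_pow]
    have hz : D ^ r ^ 3 = 0 := by
      rw [← Nat.add_sub_cancel' h8, pow_add, h5, zero_mul]
    rw [hz, zero_add]
  refine Subtype.ext (Units.ext ?_)
  rw [SubmonoidClass.coe_pow, Units.val_pow_eq_pow_val, hp]
  rfl

/-- An element of the stabiliser is a Levi element times a unipotent one. -/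
theorem InS.decompose {g : GO N8} (a : InS g) :
    ∃ (l : GO N8) (A : M2) (p q x0 x1 : F), IsLev l A p q x0 x1 ∧ IsUnip (l⁻¹ * g) := by
  obtain ⟨c, hc⟩ : ∃ c : F, ap g aZ = c • aZ := by
    obtain ⟨_, _, _, e, -⟩ := id a
    exact e
  obtain ⟨μ, hμ0, hμ⟩ := Triality.exists_mult g
  have hpol : ∀ u v, QuadraticMap.polar ⇑N8 (ap g u) (ap g v) = μ * QuadraticMap.polar ⇑N8 u v := fun u v => by
    simp only [QuadraticMap.polar]
    rw [← ap_add, hμ, hμ, hμ]
    ring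
  have hc0 : c ≠ 0 := fun e => by
    rw [e, zero_smul] at hc
    exact one_ne_zero (α := F) (by simpa using congrFun (ap_eq_zero hc) (.inl 1))
  set u2 := ap g (Pi.single (.inr 2) 1) with hu2
  set u3 := ap g (Pi.single (.inr 3) 1) with hu3
  have k2 : InU u2 := a.plane (by simp [InU])
  have k3 : InU u3 := a.plane (by simp [InU])
  obtain ⟨l0, l1, l2, l3⟩ := a.left_solid (v := Pi.single (.inl 0) 1) (by simp)
  set u0 := ap g (Pi.single (.inl 0) 1) with hu0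
  have hx0 : u0 (.inl 0) ≠ 0 := fun e => by
    obtain ⟨r0, r1, r2, r3⟩ := a.right_solid (v := Pi.single (.inr 0) 1) (by simp)
    have := hpol (Pi.single (.inl 0) 1) (Pi.single (.inr 0) 1)
    rw [← hu0] at this
    simp [Triality.polar_N8, r0, r1, r2, r3, l0, l1, l2, l3, e] at this
    exact hμ0 this.symm
  set A : M2 := !![u3 (.inr 3), u2 (.inr 3); u3 (.inr 2), u2 (.inr 2)] with hA
  have hdet : A.det ≠ 0 := fun e => by
    obtain ⟨w, hw, hAw⟩ := Matrix.exists_mulVec_eq_zero_iff.2 e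
    have a0 := congrFun hAw 0
    have a1 := congrFun hAw 1
    simp [A, Matrix.mulVec, dotProduct, Fin.sum_univ_two] at a0 a1
    set v : V8 := w 0 • Pi.single (.inr 3) 1 + w 1 • Pi.single (.inr 2) 1
    have hv : ap g v = (w 0 * u3 (.inl 1) + w 1 * u2 (.inl 1)) • aZ := by
      have hU : InU (ap g v) := a.plane (by simp [InU, v])
      rw [hU.decomp]
      simp only [v, ap_add, Triality.ap_smul, ← hu2, ← hu3, Pi.add_apply, Pi.smul_apply, smul_eq_mul]
      rw [show w 0 * u3 (.inr 2) + w 1 * u2 (.inr 2) = 0 by linear_combination a1,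
        show w 0 * u3 (.inr 3) + w 1 * u2 (.inr 3) = 0 by linear_combination a0, zero_smul, zero_smul, add_zero,
        add_zero]
    have : v = ((w 0 * u3 (.inl 1) + w 1 * u2 (.inl 1)) * c⁻¹) • aZ := by
      apply_fun ap g⁻¹ at hv
      rw [Triality.ap_ap_inv] at hv
      rw [hv, Triality.ap_smul, ← smul_smul]
      congr 1
      rw [eq_inv_smul_iff₀ hc0, ← Triality.ap_smul, ← hc, Triality.ap_ap_inv]
    refine hw (funext fun i => ?_)
    have b2 := congrFun this (.inr 2)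
    have b3 := congrFun this (.inr 3)
    simp [v] at b2 b3
    fin_cases i <;> assumption
  obtain ⟨l, hl⟩ := exists_isLev (A := A) (p := μ / A.det) (q := 1) (x0 := u0 (.inl 0)) (x1 := c) hdet
    (div_ne_zero hμ0 hdet) one_ne_zero hx0 hc0
  refine ⟨l, A, _, _, _, _, hl, hl.inS.inv.mul a, fun v => ?_, ?_, ?_, ?_, ?_⟩
  · have hlN : ∀ u, N8 (ap l u) = μ * N8 u := fun u => by
      rw [N8_apply, N8_apply, hl.eq, levV_apply]
      simp [Matrix.det_fin_two] at hdet ⊢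
      field_simp
      ring
    have := hlN (ap (l⁻¹ * g) v)
    rw [Triality.ap_mul, Triality.ap_inv_ap, hμ] at this
    exact (mul_left_cancel₀ hμ0 (by rw [Triality.ap_mul]; exact this)).symm
  · rw [Triality.ap_mul, hc, ← hl.aZ, Triality.ap_ap_inv]
  · refine ⟨u2 (.inl 1) / c, ?_⟩
    rw [Triality.ap_mul, ← hu2]
    refine (congrArg (ap l⁻¹) ?_).trans (Triality.ap_ap_inv l _)
    rw [ap_add, Triality.ap_smul, hl.aZ, smul_smul, div_mul_cancel₀ _ hc0, hl.eq, levV_apply, k2.decomp]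
    exact ext8 fun i => by fin_cases i <;> simp [A]
  · refine ⟨u3 (.inl 1) / c, ?_⟩
    rw [Triality.ap_mul, ← hu3]
    refine (congrArg (ap l⁻¹) ?_).trans (Triality.ap_ap_inv l _)
    rw [ap_add, Triality.ap_smul, hl.aZ, smul_smul, div_mul_cancel₀ _ hc0, hl.eq, levV_apply, k3.decomp]
    exact ext8 fun i => by fin_cases i <;> simp [A]
  · refine ⟨ap l⁻¹ (u0 - u0 (.inl 0) • Pi.single (.inl 0) 1), hl.inS.inv.plane (by simp [InU, l0, l1, l2, l3]), ?_⟩
    rw [Triality.ap_mul, ← hu0, ← Triality.ap_ap_inv l (Pi.single (.inl 0) 1), ← ap_add, Triality.ap_ap_inv]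
    congr 1
    rw [show ap l (Pi.single (.inl 0) 1) = u0 (.inl 0) • Pi.single (.inl 0) 1 from ?_, add_sub_cancel]
    rw [hl.eq, levV_apply]
    exact ext8 fun i => by fin_cases i <;> simp

end Cfsg.Agent.TrialityBalance
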