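import Cfsg.Agent.Lib.Triality.Octonion
import Cfsg.Prelude.Def_G2
import Cfsg.Agent.Lib.AutPO.PlusModel

/-!
The split octonions as a double of `M₂(F)`: the automorphisms `pairG`, `gam` and the quaternion subalgebra `mk · 0`.
-/

set_option autoImplicit false

namespace Cfsg.Agent.TrialityBalance

open scoped Matrix MatrixGroups
open Matrix (adjugate det)
open Triality (omul oconj oone N8_apply ext8)
open QForm (plusForm)

variable {F : Type*} [Field F]

local notation "I8" => (Fin 4 ⊕ Fin 4)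
local notation "V8" => (Fin 4 ⊕ Fin 4 → F)
local notation "N8" => plusForm F 4
local notation "M2" => Matrix (Fin 2) (Fin 2) F

/-- Coordinates of the double. -/
def mk (X Y : M2) : V8 :=
  Sum.elim ![X 0 0, X 0 1, Y 0 0, -Y 1 0] ![X 1 1, -X 1 0, -Y 1 1, -Y 0 1]

/-- The first component. -/
def px (v : V8) : M2 := !![v (.inl 0), v (.inl 1); -v (.inr 1), v (.inr 0)]

/-- The second component. -/
def py (v : V8) : M2 := !![v (.inl 2), -v (.inr 3); -v (.inl 3), -v (.inr 2)]

theorem mk_px_py (v : V8) : mk (px v) (py v) = v :=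
  ext8 fun i => by fin_cases i <;> simp [mk, px, py]

theorem px_mk (X Y : M2) : px (mk X Y) = X := by
  ext i j; fin_cases i <;> fin_cases j <;> simp [mk, px]

theorem py_mk (X Y : M2) : py (mk X Y) = Y := by
  ext i j; fin_cases i <;> fin_cases j <;> simp [mk, py]

theorem mk_add (X Y X' Y' : M2) : mk (X + X') (Y + Y') = mk X Y + mk X' Y' :=
  ext8 fun i => by fin_cases i <;> simp [mk] <;> (try constructor) <;> ring

theorem mk_smul (c : F) (X Y : M2) : mk (c • X) (c • Y) = c • mk X Y :=
  ext8 fun i => by fin_cases i <;> simp [mk]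

theorem mk_inj {X Y X' Y' : M2} (h : mk X Y = mk X' Y') : X = X' ∧ Y = Y' :=
  ⟨by simpa [px_mk] using congrArg px h, by simpa [py_mk] using congrArg py h⟩

theorem oone_eq : (oone : V8) = mk 1 0 := ext8 fun i => by fin_cases i <;> simp [mk, oone]

/-- The product in the double. -/
theorem omul_mk (X Y X' Y' : M2) :
    omul (mk X Y) (mk X' Y') = mk (X * X' + adjugate Y' * Y) (Y' * X + Y * adjugate X') := by
  refine ext8 fun i => ?_
  fin_cases i <;>
    simp [mk, omul, Matrix.mul_apply, Matrix.vecMul, dotProduct, Fin.sum_univ_two, Matrix.adjugate_fin_two] <;>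
      constructor <;> ring

theorem oconj_mk (X Y : M2) : oconj (mk X Y) = mk (adjugate X) (-Y) :=
  ext8 fun i => by fin_cases i <;> simp [mk, oconj, Matrix.adjugate_fin_two]

theorem N8_mk (X Y : M2) : N8 (mk X Y) = det X - det Y := by
  rw [N8_apply]
  simp [mk, Matrix.det_fin_two]
  ring

/-- An element of order three of `SL₂`. -/
def ee : M2 := !![0, -1; 1, -1]

/-- The involution inverting `ee`. -/
def jj : M2 := !![1, -1; 0, -1]

theorem det_ee : det (ee : M2) = 1 := by simp [ee, Matrix.det_fin_two]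

theorem det_jj : det (jj : M2) = -1 := by simp [jj, Matrix.det_fin_two]

theorem adj_ee : adjugate (ee : M2) = !![-1, 1; -1, 0] := by simp [ee, Matrix.adjugate_fin_two]

theorem ee_sq : (ee : M2) * ee = -1 - ee := by
  ext i j; fin_cases i <;> fin_cases j <;> simp [ee]

theorem ee_cube : (ee : M2) * ee * ee = 1 := by
  ext i j; fin_cases i <;> fin_cases j <;> simp [ee]

theorem jj_ee : (jj : M2) * ee = ee * ee * jj := by
  ext i j; fin_cases i <;> fin_cases j <;> simp [ee, jj]

theorem jj_jj : (jj : M2) * jj = 1 := by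
  ext i j; fin_cases i <;> fin_cases j <;> simp [jj]

/-- The automorphisms of the octonions. -/
abbrev Gm (F : Type*) [Field F] : Subgroup (GL (Fin 4 ⊕ Fin 4) F) :=
  Cfsg.Lie.mulAut F omul

/-- The action. -/
def gap (g : Gm F) (v : V8) : V8 := (g.1 : Matrix I8 I8 F) *ᵥ v

theorem gap_omul (g : Gm F) (x y : V8) : gap g (omul x y) = omul (gap g x) (gap g y) := g.2 x y

theorem gap_mul (g h : Gm F) (v : V8) : gap (g * h) v = gap g (gap h v) :=
  (Matrix.mulVec_mulVec v _ _).symm

theorem gap_one (v : V8) : gap (1 : Gm F) v = v := Matrix.one_mulVec v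

theorem gap_add (g : Gm F) (u v : V8) : gap g (u + v) = gap g u + gap g v := Matrix.mulVec_add _ _ _

theorem gap_smul (g : Gm F) (c : F) (v : V8) : gap g (c • v) = c • gap g v := Matrix.mulVec_smul _ _ _

theorem gap_inv_gap (g : Gm F) (v : V8) : gap g (gap g⁻¹ v) = v := by rw [← gap_mul, mul_inv_cancel, gap_one]

theorem gap_gap_inv (g : Gm F) (v : V8) : gap g⁻¹ (gap g v) = v := by rw [← gap_mul, inv_mul_cancel, gap_one]

theorem gap_ext {g h : Gm F} (e : ∀ X Y : M2, gap g (mk X Y) = gap h (mk X Y)) : g = h :=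
  Subtype.ext (Units.ext (Matrix.ext_iff_mulVec.2 fun v => by
    have := e (px v) (py v); rwa [mk_px_py] at this))

theorem gap_oone (g : Gm F) : gap g oone = oone := by
  have h : ∀ v, omul (gap g oone) v = v := fun v => by
    have := gap_omul g oone (gap g⁻¹ v)
    rw [Triality.oone_omul, gap_inv_gap] at this
    exact this.symm
  have := h oone
  rwa [Triality.omul_oone] at this

theorem mul_adj (X : M2) : X * adjugate X = det X • 1 := Matrix.mul_adjugate X

theorem adj_mul (X : M2) : adjugate X * X = det X • 1 := Matrix.adjugate_mul X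

/-- Pairs of invertible matrices with equal determinants. -/
def Pair (F : Type*) [Field F] : Subgroup (GL (Fin 2) F × GL (Fin 2) F) where
  carrier := {p | (p.1 : Matrix (Fin 2) (Fin 2) F).det = (p.2 : Matrix (Fin 2) (Fin 2) F).det}
  mul_mem' {a b} ha hb := by
    show ((a.1 * b.1 : GL (Fin 2) F) : Matrix (Fin 2) (Fin 2) F).det =
      ((a.2 * b.2 : GL (Fin 2) F) : Matrix (Fin 2) (Fin 2) F).det
    rw [Units.val_mul, Units.val_mul, Matrix.det_mul, Matrix.det_mul, ha, hb]
  one_mem' := rfl
  inv_mem' {a} ha := by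
    have h1 : ∀ c : GL (Fin 2) F, (c⁻¹ : GL (Fin 2) F).val.det = c.val.det⁻¹ := fun c =>
      eq_inv_of_mul_eq_one_left (by rw [← Matrix.det_mul, ← Units.val_mul, inv_mul_cancel, Units.val_one,
        Matrix.det_one])
    show (a.1⁻¹ : GL (Fin 2) F).val.det = (a.2⁻¹ : GL (Fin 2) F).val.det
    rw [h1, h1, ha]

/-- The linear map of a pair. -/
def pairLin (c d : GL (Fin 2) F) : V8 →ₗ[F] V8 where
  toFun v := mk (c.val * px v * (c⁻¹).val) (d.val * py v * (c⁻¹).val)
  map_add' u v := by
    rw [← mk_add, ← Matrix.add_mul, ← Matrix.mul_add, ← Matrix.add_mul, ← Matrix.mul_add,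
      show px (u + v) = px u + px v by ext i j; fin_cases i <;> fin_cases j <;> simp [px] <;> ring,
      show py (u + v) = py u + py v by ext i j; fin_cases i <;> fin_cases j <;> simp [py] <;> ring]
  map_smul' r v := by
    rw [RingHom.id_apply, ← mk_smul, ← Matrix.smul_mul, ← Matrix.mul_smul, ← Matrix.smul_mul, ← Matrix.mul_smul,
      show px (r • v) = r • px v by ext i j; fin_cases i <;> fin_cases j <;> simp [px],
      show py (r • v) = r • py v by ext i j; fin_cases i <;> fin_cases j <;> simp [py]]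

theorem pairLin_mk (c d : GL (Fin 2) F) (X Y : M2) :
    pairLin c d (mk X Y) = mk (c.val * X * (c⁻¹).val) (d.val * Y * (c⁻¹).val) := by
  show mk _ _ = _
  rw [px_mk, py_mk]

theorem pairLin_comp (p q : GL (Fin 2) F × GL (Fin 2) F) (v : V8) :
    pairLin p.1 p.2 (pairLin q.1 q.2 v) = pairLin (p.1 * q.1) (p.2 * q.2) v := by
  rw [← mk_px_py v, pairLin_mk, pairLin_mk, pairLin_mk, mul_inv_rev, Units.val_mul, Units.val_mul, Units.val_mul]
  simp only [mul_assoc]

theorem pairLin_one (v : V8) : pairLin (1 : GL (Fin 2) F) 1 v = v := by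
  rw [← mk_px_py v, pairLin_mk]
  simp

theorem adj_units (c : GL (Fin 2) F) : adjugate (c⁻¹).val = c.val.det⁻¹ • c.val := by
  have hd : c.val.det ≠ 0 := ((Matrix.isUnit_iff_isUnit_det _).1 c.isUnit).ne_zero
  have h1 : (c⁻¹).val.det = c.val.det⁻¹ := eq_inv_of_mul_eq_one_left (by
    rw [← Matrix.det_mul, ← Units.val_mul, inv_mul_cancel, Units.val_one, Matrix.det_one])
  calc adjugate (c⁻¹).val = c.val * ((c⁻¹).val * adjugate (c⁻¹).val) := by
        rw [← mul_assoc, ← Units.val_mul, mul_inv_cancel, Units.val_one, one_mul]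
    _ = _ := by rw [mul_adj, h1, mul_smul_comm, mul_one]

theorem adj_GL (c : GL (Fin 2) F) : adjugate c.val = c.val.det • (c⁻¹).val := by
  calc adjugate c.val = adjugate c.val * (c.val * (c⁻¹).val) := by
        rw [← Units.val_mul, mul_inv_cancel, Units.val_one, mul_one]
    _ = _ := by rw [← mul_assoc, adj_mul, smul_mul_assoc, one_mul]

theorem pairLin_omul (p : Pair F) (x y : V8) :
    pairLin p.1.1 p.1.2 (omul x y) = omul (pairLin p.1.1 p.1.2 x) (pairLin p.1.1 p.1.2 y) := by
  obtain ⟨⟨c, d⟩, hp⟩ := p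
  rw [← mk_px_py x, ← mk_px_py y, omul_mk, pairLin_mk, pairLin_mk, pairLin_mk, omul_mk]
  set X := px x; set Y := py x; set X' := px y; set Y' := py y
  have hd : c.val.det ≠ 0 := ((Matrix.isUnit_iff_isUnit_det _).1 c.isUnit).ne_zero
  have e1 : c.val * X * (c⁻¹).val * (c.val * X' * (c⁻¹).val) = c.val * (X * X') * (c⁻¹).val := by
    simp only [mul_assoc]; rw [← mul_assoc (c⁻¹).val, ← Units.val_mul, inv_mul_cancel, Units.val_one, one_mul]
  have e2 : adjugate (d.val * Y' * (c⁻¹).val) * (d.val * Y * (c⁻¹).val) =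
      c.val * (adjugate Y' * Y) * (c⁻¹).val := by
    rw [Matrix.adjugate_mul_distrib, Matrix.adjugate_mul_distrib, adj_units, adj_GL d,
      show d.val.det = c.val.det from hp.symm]
    simp only [smul_mul_assoc, mul_smul_comm, smul_smul, mul_assoc]
    first | rw [inv_mul_cancel₀ hd] | rw [mul_inv_cancel₀ hd]
    rw [one_smul, ← mul_assoc (d⁻¹).val, ← Units.val_mul, inv_mul_cancel, Units.val_one,
      one_mul]
  have e3 : d.val * Y' * (c⁻¹).val * (c.val * X * (c⁻¹).val) = d.val * (Y' * X) * (c⁻¹).val := by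
    simp only [mul_assoc]; rw [← mul_assoc (c⁻¹).val, ← Units.val_mul, inv_mul_cancel, Units.val_one, one_mul]
  have e4 : d.val * Y * (c⁻¹).val * adjugate (c.val * X' * (c⁻¹).val) =
      d.val * (Y * adjugate X') * (c⁻¹).val := by
    rw [Matrix.adjugate_mul_distrib, Matrix.adjugate_mul_distrib, adj_units, adj_GL]
    simp only [smul_mul_assoc, mul_smul_comm, smul_smul, mul_assoc]
    first | rw [inv_mul_cancel₀ hd] | rw [mul_inv_cancel₀ hd]
    rw [one_smul, ← mul_assoc (c⁻¹).val, ← Units.val_mul, inv_mul_cancel, Units.val_one, one_mul]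
  rw [e1, e2, e3, e4, ← Matrix.add_mul, ← Matrix.mul_add, ← Matrix.add_mul, ← Matrix.mul_add]

/-- The linear equivalence of a pair. -/
def pairE (p : Pair F) : V8 ≃ₗ[F] V8 where
  toLinearMap := pairLin p.1.1 p.1.2
  invFun := pairLin p.1.1⁻¹ p.1.2⁻¹
  left_inv v := by
    show pairLin p.1.1⁻¹ p.1.2⁻¹ (pairLin p.1.1 p.1.2 v) = v
    rw [pairLin_comp (p.1.1⁻¹, p.1.2⁻¹) p.1, inv_mul_cancel, inv_mul_cancel]
    exact pairLin_one v
  right_inv v := by
    show pairLin p.1.1 p.1.2 (pairLin p.1.1⁻¹ p.1.2⁻¹ v) = v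
    rw [pairLin_comp p.1 (p.1.1⁻¹, p.1.2⁻¹), mul_inv_cancel, mul_inv_cancel]
    exact pairLin_one v

theorem pairE_apply (p : Pair F) (v : V8) : pairE p v = pairLin p.1.1 p.1.2 v := rfl

theorem toGL_pairE (p : Pair F) (v : V8) :
    (AutPO.toGL (pairE p) : Matrix I8 I8 F) *ᵥ v = pairLin p.1.1 p.1.2 v :=
  (AutPO.toGL_mulVec _ v).trans (pairE_apply p v)

theorem pairE_mem (p : Pair F) : AutPO.toGL (pairE p) ∈ Gm F := fun x y => by
  simp only [Units.coeHom_apply, toGL_pairE]
  exact pairLin_omul p x y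

/-- The automorphism of a pair. -/
def pairG : Pair F →* Gm F :=
  MonoidHom.mk' (fun p => ⟨AutPO.toGL (pairE p), pairE_mem p⟩) fun p q => by
    refine Subtype.ext (Units.ext (Matrix.ext_iff_mulVec.2 fun v => ?_))
    rw [Subgroup.coe_mul, Units.val_mul, ← Matrix.mulVec_mulVec, toGL_pairE, toGL_pairE, toGL_pairE]
    exact (pairLin_comp p.1 q.1 v).symm

theorem gap_pairG (p : Pair F) (X Y : M2) :
    gap (pairG p) (mk X Y) = mk (p.1.1.val * X * (p.1.1⁻¹).val) (p.1.2.val * Y * (p.1.1⁻¹).val) := by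
  exact (toGL_pairE p _).trans (pairLin_mk _ _ X Y)

variable (h3 : (3 : F) ≠ 0)

/-- The components along `F[ee]` and `F[ee] jj`. -/
def dec (X : M2) : M2 × M2 :=
  let r := (2 * (X 0 0 - X 1 1) - (X 1 0 - X 0 1)) / 3
  let q := (2 * (X 1 0 - X 0 1) - (X 0 0 - X 1 1)) / 3
  ((X 0 0 - r) • (1 : M2) + q • ee, r • (1 : M2) + (X 1 0 - q) • ee)

include h3 in
theorem dec_sum (X : M2) : (dec X).1 + (dec X).2 * jj = X := by
  ext i j
  fin_cases i <;> fin_cases j <;>
    simp [dec, ee, jj, Matrix.mul_apply, Fin.sum_univ_two] <;> field_simp <;> ring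

/-- The linear map exchanging `jj` and the second unit. -/
def gamLin : V8 →ₗ[F] V8 where
  toFun v := mk ((dec (px v)).1 + (dec (py v)).1 * jj) ((dec (px v)).2 - (dec (py v)).2 * jj)
  map_add' u v := by
    refine ext8 fun i => ?_
    fin_cases i <;>
      simp [mk, dec, px, py, ee, jj, Matrix.mul_apply, Fin.sum_univ_two] <;> constructor <;> ring
  map_smul' r v := by
    refine ext8 fun i => ?_
    fin_cases i <;>
      simp [mk, dec, px, py, ee, jj, Matrix.mul_apply, Fin.sum_univ_two] <;> constructor <;> ring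

include h3 in
theorem gamLin_gamLin (v : V8) : gamLin (gamLin v) = v := by
  refine ext8 fun i => ?_
  fin_cases i <;>
    simp [gamLin, mk, dec, px, py, ee, jj, Matrix.mul_apply, Fin.sum_univ_two] <;> constructor <;> field_simp <;> ring

include h3 in
set_option maxHeartbeats 3200000 in
theorem gamLin_omul (x y : V8) : gamLin (omul x y) = omul (gamLin x) (gamLin y) := by
  refine ext8 fun i => ?_
  fin_cases i <;>
    simp [gamLin, omul, mk, dec, px, py, ee, jj, Matrix.mul_apply, Fin.sum_univ_two] <;>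
      constructor <;> field_simp <;> ring

/-- The automorphism exchanging `jj` and the second unit. -/
def gam : Gm F :=
  ⟨AutPO.toGL { toLinearMap := gamLin, invFun := gamLin, left_inv := gamLin_gamLin h3,
                right_inv := gamLin_gamLin h3 },
    fun x y => by
      simp only [Units.coeHom_apply, AutPO.toGL_mulVec]
      exact gamLin_omul h3 x y⟩

theorem gap_gam (v : V8) : gap (gam h3) v = gamLin v := AutPO.toGL_mulVec _ v

theorem gam_mul_self : gam h3 * gam h3 = (1 : Gm F) :=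
  gap_ext fun X Y => by rw [gap_mul, gap_gam, gap_gam, gamLin_gamLin h3, gap_one]

end Cfsg.Agent.TrialityBalance
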