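import Cfsg.Agent.Lib.TrialityBalance.Rigid
import Cfsg.Agent.Lib.Coprime.Generation
import Cfsg.Agent.Lib.PSL2.Basic

/-!
The automorphism group of the split octonions has no nontrivial normal subgroup of order prime to three.
-/

set_option autoImplicit false

namespace Cfsg.Agent.TrialityBalance

open scoped Matrix MatrixGroups
open Matrix (adjugate det)
open Triality (omul oconj oone N8_apply ext8)
open QForm (plusForm)

variable {F : Type*} [Field F]

local notation "I8" => (Fin 4 ⊕ Fin 4)
local notation "V8" => (Fin 4 ⊕ Fin 4 → F)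
local notation "N8" => plusForm F 4
local notation "M2" => Matrix (Fin 2) (Fin 2) F

/-- The copy of `SL₂`. -/
def slHom : Matrix.SpecialLinearGroup (Fin 2) F →* Gm F :=
  pairG.comp ((MonoidHom.prod Matrix.SpecialLinearGroup.toGL 1).codRestrict (Pair F) fun c => by
    show ((Matrix.SpecialLinearGroup.toGL c : GL (Fin 2) F) : M2).det = ((1 : GL (Fin 2) F) : M2).det
    rw [Units.val_one, Matrix.det_one]
    exact c.2)

theorem slHom_eq (c : GL (Fin 2) F) (hc : c.val.det = 1) : slHom ⟨c.val, hc⟩ = lG c hc := by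
  show pairG _ = pairG _
  congr 1
  exact Subtype.ext (Prod.ext (Units.ext rfl) rfl)

theorem gap_slHom (c : Matrix.SpecialLinearGroup (Fin 2) F) (X Y : M2) :
    gap (slHom c) (mk X Y) = mk (c.1 * X * adjugate c.1) (Y * adjugate c.1) := by
  rw [show slHom c = lG (Matrix.SpecialLinearGroup.toGL c) c.2 from
    slHom_eq (Matrix.SpecialLinearGroup.toGL c) c.2]
  exact gap_lG (Matrix.SpecialLinearGroup.toGL c) c.2 X Y

theorem slHom_injective : Function.Injective (slHom (F := F)) := by
  refine (injective_iff_map_eq_one _).2 fun c hc => Subtype.ext ?_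
  have h := congrArg (fun g => gap g (mk (0 : M2) 1)) hc
  simp only [gap_slHom, gap_one, mul_zero, zero_mul, one_mul] at h
  have := congrArg adjugate (mk_inj h).2
  rw [adj_adj, Matrix.adjugate_one] at this
  exact this

variable [Finite F] (h3 : (3 : F) ≠ 0)

include h3 in
/-- A normal subgroup of `SL₂` of order prime to three consists of scalars. -/
theorem sl_normal_scalar (N : Subgroup (Matrix.SpecialLinearGroup (Fin 2) F)) [N.Normal]
    (hco : (Nat.card N).Coprime 3) {c : Matrix.SpecialLinearGroup (Fin 2) F} (hc : c ∈ N) :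
    ∃ a : F, c.1 = a • 1 ∧ a * a = 1 := by
  classical
  let := Fintype.ofFinite F
  suffices h : c ∈ Subgroup.center (Matrix.SpecialLinearGroup (Fin 2) F) by
    obtain ⟨a, ha, hca⟩ := Matrix.SpecialLinearGroup.mem_center_iff.1 h
    refine ⟨a, ?_, ?_⟩
    · rw [← hca]
      simp [Matrix.scalar_apply, Matrix.smul_one_eq_diagonal]
    · rw [← pow_two]; simpa using ha
  have hq3 : Fintype.card F ≠ 3 := fun e => h3 (by
    have := Nat.cast_card_eq_zero F
    rwa [e, Nat.cast_ofNat] at this)
  set E : Matrix.SpecialLinearGroup (Fin 2) F := ⟨ee, det_ee⟩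
  have hE : orderOf E = 3 := by
    haveI : Fact (Nat.Prime 3) := ⟨Nat.prime_three⟩
    refine orderOf_eq_prime (Subtype.ext ?_) fun e => ?_
    · rw [Matrix.SpecialLinearGroup.coe_pow, pow_succ, pow_two]; exact ee_cube
    · have := congrArg (fun A : Matrix.SpecialLinearGroup (Fin 2) F => A.1 1 0) e
      simp [E, ee] at this
  by_cases hq : 4 ≤ Fintype.card F
  · haveI := PSL2.psl_isSimpleGroup (F := F) hq
    let π := QuotientGroup.mk' (Subgroup.center (Matrix.SpecialLinearGroup (Fin 2) F))
    have hn : (N.map π).Normal := Subgroup.Normal.map inferInstance π (QuotientGroup.mk'_surjective _)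
    rcases hn.eq_bot_or_eq_top with h | h
    · have := (Subgroup.map_eq_bot_iff _).1 h hc
      rwa [QuotientGroup.ker_mk'] at this
    · exfalso
      have hdvd : Nat.card (N.map π) ∣ Nat.card N := Subgroup.card_map_dvd _ π
      rw [h, Subgroup.card_top] at hdvd
      haveI : Fact (Nat.Prime 3) := ⟨Nat.prime_three⟩
      have h3' : orderOf (π E) = 3 := orderOf_eq_prime (by rw [← map_pow, ← hE, pow_orderOf_eq_one, map_one])
        fun e => by
          rw [← MonoidHom.mem_ker, QuotientGroup.ker_mk', Matrix.SpecialLinearGroup.mem_center_iff] at e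
          obtain ⟨a, -, he⟩ := e
          have := congrFun (congrFun he 1) 0
          simp [E, ee] at this
      exact (Nat.prime_three.coprime_iff_not_dvd.1 hco.symm) ((h3' ▸ orderOf_dvd_natCard (π E)).trans hdvd)
  · have h2 : Fintype.card F = 2 := by have := Fintype.one_lt_card (α := F); omega
    have hcard := PSL2.card_SL' (F := F)
    rw [h2] at hcard
    have hN : Nat.card N ∣ 6 := by
      have := N.card_subgroup_dvd_card
      rw [hcard] at this
      exact this
    have hle : Nat.card N ≤ 2 := by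
      have := Nat.le_of_dvd (by norm_num) hN
      interval_cases hk : Nat.card N <;> simp_all (config := { decide := true })
    refine Subgroup.mem_center_iff.2 fun x => ?_
    by_cases hc1 : c = 1
    · rw [hc1, mul_one, one_mul]
    have hconj : x * c * x⁻¹ ∈ N := Subgroup.Normal.conj_mem inferInstance c hc x
    have : x * c * x⁻¹ = c := by
      by_contra hne
      have h1 : ({1, c, x * c * x⁻¹} : Finset _).card = 3 := by
        rw [Finset.card_insert_of_notMem, Finset.card_pair (Ne.symm hne)]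
        simp only [Finset.mem_insert, Finset.mem_singleton, not_or]
        exact ⟨Ne.symm hc1, fun e => hc1 (by simpa using e.symm)⟩
      have h2 : ({1, c, x * c * x⁻¹} : Finset _) ⊆ (N : Set _).toFinset := by
        intro y hy
        simp only [Finset.mem_insert, Finset.mem_singleton] at hy
        rcases hy with rfl | rfl | rfl <;> simp [one_mem, hc, hconj]
      have := Finset.card_le_card h2
      rw [h1, Set.toFinset_card] at this
      rw [Nat.card_eq_fintype_card] at hle
      simp only [SetLike.coe_sort_coe] at this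
      omega
    exact mul_inv_eq_iff_eq_mul.1 this

include h3 in
/-- Elements centralising `tP` in a group of order prime to three normalised by `SL₂` fix the quaternions. -/
theorem fix_quat_of_normalised (S : Subgroup (Gm F)) (hco : (Nat.card S).Coprime 3)
    (ht : ∀ m ∈ S, Commute m tP) (hn : ∀ c, ∀ m ∈ S, slHom c * m * (slHom c)⁻¹ ∈ S) {m : Gm F} (hm : m ∈ S) :
    ∀ X, gap m (mk X 0) = mk X 0 := by
  classical
  set N : Subgroup (Matrix.SpecialLinearGroup (Fin 2) F) := S.comap slHom
  haveI : N.Normal := ⟨fun x hx y => by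
    rw [Subgroup.mem_comap, map_mul, map_mul, map_inv]; exact hn y _ hx⟩
  have hNco : (Nat.card N).Coprime 3 :=
    Nat.Coprime.coprime_dvd_left (Subgroup.card_comap_dvd_of_injective S slHom slHom_injective) hco
  have hT := isSOct_gap m
  have hTt : ∀ v, gap m (gap tP v) = gap tP (gap m v) := fun v => by rw [← gap_mul, (ht m hm).eq, gap_mul]
  have key : ∀ c : Matrix.SpecialLinearGroup (Fin 2) F, (c.1 = ee ∨ c.1 = (uG (1 : F)).val) →
      gap m (mk c.1 0) = mk c.1 0 := by
    intro c hc
    obtain ⟨A, hA⟩ : ∃ A, gap m (mk c.1 0) = mk A 0 := ⟨_, map_left h3 hTt _⟩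
    have hdA : A.det = 1 := by
      have := (hT.map_tr_norm (mk c.1 0)).2
      rw [hA, N8_mk, N8_mk, c.2, RingAut.one_apply] at this
      simpa using this
    have htr : A 0 0 + A 1 1 = c.1 0 0 + c.1 1 1 := by
      have := (hT.map_tr_norm (mk c.1 0)).1
      rw [hA, RingAut.one_apply] at this
      simpa [trF, mk] using this
    have hadj : gap m (mk (adjugate c.1) 0) = mk (adjugate A) 0 := by
      have := hT.map_oconj (mk c.1 0)
      rwa [oconj_mk, neg_zero, hA, oconj_mk, neg_zero] at this
    set a : Matrix.SpecialLinearGroup (Fin 2) F := ⟨A, hdA⟩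
    have hconj : m * slHom c * m⁻¹ = slHom a := by
      rw [mul_inv_eq_iff_eq_mul]
      refine gap_ext fun X Y => ?_
      obtain ⟨X', hX'⟩ : ∃ X', gap m (mk X 0) = mk X' 0 := ⟨_, map_left h3 hTt _⟩
      obtain ⟨Y', hY'⟩ : ∃ Y', gap m (mk 0 Y) = mk 0 Y' := ⟨_, map_right h3 hT hTt _⟩
      have hXY : gap m (mk X Y) = mk X' Y' := by
        rw [show mk X Y = mk X 0 + mk 0 Y by rw [← mk_add, add_zero, zero_add], gap_add, hX', hY', ← mk_add,
          add_zero, zero_add]
      rw [gap_mul, gap_mul, gap_slHom, hXY, gap_slHom,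
        show mk (c.1 * X * adjugate c.1) (Y * adjugate c.1) =
          omul (omul (mk c.1 0) (mk X 0)) (mk (adjugate c.1) 0) + omul (mk 0 Y) (mk c.1 0) by
          rw [omul_mk, omul_mk, omul_mk, ← mk_add]; simp,
        gap_add, gap_omul, gap_omul, gap_omul, hA, hadj, hX', hY', omul_mk, omul_mk, omul_mk, ← mk_add]
      simp [a]
    have hmem : a * c⁻¹ ∈ N := by
      rw [Subgroup.mem_comap, map_mul, map_inv, ← hconj,
        show m * slHom c * m⁻¹ * (slHom c)⁻¹ = m * (slHom c * m⁻¹ * (slHom c)⁻¹) by group]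
      exact S.mul_mem hm (hn c _ (S.inv_mem hm))
    obtain ⟨s, hs, hss⟩ := sl_normal_scalar h3 N hNco hmem
    have hAc : A = s • c.1 := by
      have := congrArg (· * c.1) hs
      rwa [Matrix.SpecialLinearGroup.coe_mul, mul_assoc, ← Matrix.SpecialLinearGroup.coe_mul, inv_mul_cancel,
        Matrix.SpecialLinearGroup.coe_one, mul_one, smul_mul_assoc, one_mul] at this
    suffices hs1 : s = 1 by rw [hA, hAc, hs1, one_smul]
    rw [hAc] at htr
    simp only [Matrix.smul_apply, smul_eq_mul] at htr
    rcases hc with hc | hc <;> simp [hc, ee, uG_val] at htr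
    · exact htr
    · rcases mul_self_eq_one_iff.1 hss with h | h
      · exact h
      · rw [h] at htr ⊢
        have h22 : (2 : F) * 2 = 0 := by linear_combination -htr
        have h20 : (2 : F) = 0 := (mul_eq_zero.1 h22).elim id id
        linear_combination -h20
  exact fix_quat_of hT (key ⟨ee, det_ee⟩ (Or.inl rfl)) (key ⟨_, det_uG 1⟩ (Or.inr rfl)) rfl

/-- A transvection of `SL₃`. -/
def shLin : V8 →ₗ[F] V8 where
  toFun v := Sum.elim ![v (.inl 0), v (.inl 1), v (.inl 2) + v (.inl 1), v (.inl 3)]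
    ![v (.inr 0), v (.inr 1) - v (.inr 2), v (.inr 2), v (.inr 3)]
  map_add' u v := ext8 fun i => by fin_cases i <;> simp <;> (try constructor) <;> ring
  map_smul' c v := ext8 fun i => by fin_cases i <;> simp <;> (try constructor) <;> ring

/-- The inverse of the transvection. -/
def shLin' : V8 →ₗ[F] V8 where
  toFun v := Sum.elim ![v (.inl 0), v (.inl 1), v (.inl 2) - v (.inl 1), v (.inl 3)]
    ![v (.inr 0), v (.inr 1) + v (.inr 2), v (.inr 2), v (.inr 3)]
  map_add' u v := ext8 fun i => by fin_cases i <;> simp <;> (try constructor) <;> ring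
  map_smul' c v := ext8 fun i => by fin_cases i <;> simp <;> (try constructor) <;> ring

/-- The cyclic permutation of the coordinates. -/
def cyLin : V8 →ₗ[F] V8 where
  toFun v := Sum.elim ![v (.inl 0), v (.inl 3), v (.inl 1), v (.inl 2)]
    ![v (.inr 0), v (.inr 3), v (.inr 1), v (.inr 2)]
  map_add' u v := ext8 fun i => by fin_cases i <;> simp
  map_smul' c v := ext8 fun i => by fin_cases i <;> simp

/-- The transvection. -/
def shG : Gm F :=
  ⟨AutPO.toGL { toLinearMap := shLin, invFun := shLin',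
                left_inv := fun v => ext8 fun i => by fin_cases i <;> simp [shLin, shLin']
                right_inv := fun v => ext8 fun i => by fin_cases i <;> simp [shLin, shLin'] },
    fun x y => by
      simp only [Units.coeHom_apply, AutPO.toGL_mulVec]
      refine ext8 fun i => ?_
      fin_cases i <;> simp [shLin, omul] <;> (try constructor) <;> ring⟩

/-- The cyclic permutation. -/
def cyG : Gm F :=
  ⟨AutPO.toGL { toLinearMap := cyLin, invFun := fun v => cyLin (cyLin v),
                left_inv := fun v => ext8 fun i => by fin_cases i <;> simp [cyLin]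
                right_inv := fun v => ext8 fun i => by fin_cases i <;> simp [cyLin] },
    fun x y => by
      simp only [Units.coeHom_apply, AutPO.toGL_mulVec]
      refine ext8 fun i => ?_
      fin_cases i <;> simp [cyLin, omul] <;> (try constructor) <;> ring⟩

theorem gap_shG (v : V8) : gap shG v = shLin v := AutPO.toGL_mulVec _ v

theorem gap_cyG (v : V8) : gap cyG v = cyLin v := AutPO.toGL_mulVec _ v

/-- A normal subgroup fixing `ee` is trivial. -/
theorem eq_bot_of_fix_ee (L : Subgroup (Gm F)) [L.Normal] (h : ∀ l ∈ L, gap l (mk ee 0) = mk ee 0) : L = ⊥ := by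
  refine eq_bot_iff.2 fun l hl => Subgroup.mem_bot.2 ?_
  have key : ∀ g : Gm F, gap l (gap g (mk ee 0)) = gap g (mk ee 0) := fun g => by
    have h1 := h (g⁻¹ * l * g) (by simpa using Subgroup.Normal.conj_mem inferInstance l hl g⁻¹)
    rw [gap_mul, gap_mul] at h1
    have := congrArg (gap g) h1
    rwa [gap_inv_gap] at this
  have hl2 : ∀ g : Gm F, gap l (gap g (Pi.single (.inl 2) 1)) = gap g (Pi.single (.inl 2) 1) := fun g => by
    have e : (Pi.single (.inl 2) 1 : V8) = mk ee 0 - gap shG (mk ee 0) := by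
      rw [gap_shG]
      exact ext8 fun i => by fin_cases i <;> simp [shLin, mk, ee]
    rw [e, sub_eq_add_neg, ← neg_one_smul F (gap shG _), gap_add, gap_smul, gap_add, gap_smul, key g, ← gap_mul g shG, key, gap_mul]
  have hsub : ∀ u v : V8, gap l u = u → gap l v = v → gap l (omul u v) = omul u v := fun u v hu hv => by
    rw [gap_omul, hu, hv]
  have b2 : gap l (Pi.single (.inl 2) 1) = Pi.single (.inl 2) 1 := by simpa [gap_one] using hl2 1
  have b3 : gap l (Pi.single (.inl 3) 1) = Pi.single (.inl 3) 1 := by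
    have e : gap cyG (Pi.single (.inl 2) (1 : F)) = Pi.single (.inl 3) 1 := by
      rw [gap_cyG]; exact ext8 fun i => by fin_cases i <;> simp [cyLin]
    simpa [e] using hl2 cyG
  have b1 : gap l (Pi.single (.inl 1) 1) = Pi.single (.inl 1) 1 := by
    have e : gap (cyG * cyG) (Pi.single (.inl 2) (1 : F)) = Pi.single (.inl 1) 1 := by
      rw [gap_mul, gap_cyG, gap_cyG]; exact ext8 fun i => by fin_cases i <;> simp [cyLin]
    have h1 := hl2 (cyG * cyG)
    rwa [e] at h1
  have neg : ∀ v : V8, gap l (-v) = -v → gap l v = v := fun v hv => by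
    rw [← neg_neg v, ← neg_one_smul F (-v), gap_smul, hv]
  have c1 : gap l (Pi.single (.inr 1) 1) = Pi.single (.inr 1) 1 := neg _ (by
    have := hsub _ _ b2 b3
    rwa [show omul (Pi.single (.inl 2) (1 : F)) (Pi.single (.inl 3) 1) = -Pi.single (.inr 1) 1 from
      ext8 fun i => by fin_cases i <;> simp [omul]] at this)
  have c2 : gap l (Pi.single (.inr 2) 1) = Pi.single (.inr 2) 1 := neg _ (by
    have := hsub _ _ b3 b1
    rwa [show omul (Pi.single (.inl 3) (1 : F)) (Pi.single (.inl 1) 1) = -Pi.single (.inr 2) 1 from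
      ext8 fun i => by fin_cases i <;> simp [omul]] at this)
  have c3 : gap l (Pi.single (.inr 3) 1) = Pi.single (.inr 3) 1 := neg _ (by
    have := hsub _ _ b1 b2
    rwa [show omul (Pi.single (.inl 1) (1 : F)) (Pi.single (.inl 2) 1) = -Pi.single (.inr 3) 1 from
      ext8 fun i => by fin_cases i <;> simp [omul]] at this)
  have b0 : gap l (Pi.single (.inl 0) 1) = Pi.single (.inl 0) 1 := neg _ (by
    have := hsub _ _ b1 c1
    rwa [show omul (Pi.single (.inl 1) (1 : F)) (Pi.single (.inr 1) 1) = -Pi.single (.inl 0) 1 from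
      ext8 fun i => by fin_cases i <;> simp [omul]] at this)
  have c0 : gap l (Pi.single (.inr 0) 1) = Pi.single (.inr 0) 1 := neg _ (by
    have := hsub _ _ c1 b1
    rwa [show omul (Pi.single (.inr 1) (1 : F)) (Pi.single (.inl 1) 1) = -Pi.single (.inr 0) 1 from
      ext8 fun i => by fin_cases i <;> simp [omul]] at this)
  refine Subtype.ext (Units.ext (Matrix.ext_of_mulVec_single fun i => ?_))
  show gap l (Pi.single i 1) = (1 : Matrix I8 I8 F) *ᵥ Pi.single i 1
  rw [Matrix.one_mulVec]
  rcases i with i | i <;> fin_cases i <;> assumption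

/-- The pair `(eeⁱ, eeʲ)`. -/
def ePair (i j : ℕ) : Pair F := pL eG det_eG ^ i * pR eG det_eG ^ j

theorem ePair_val (i j : ℕ) : (ePair i j : Pair F).1 = ((eG : GL (Fin 2) F) ^ i, (eG : GL (Fin 2) F) ^ j) := by
  simp [ePair, pL, pR]

theorem pairG_ePair (i j : ℕ) : pairG (ePair i j : Pair F) = zP ^ i * tP ^ j := by
  rw [ePair, map_mul, map_pow, map_pow]; rfl

theorem commute_zP_tP : Commute (zP : Gm F) tP := by
  show pairG _ * pairG _ = pairG _ * pairG _
  rw [← map_mul, ← map_mul]
  congr 1
  exact Subtype.ext (Prod.ext (by simp [pL, pR]) (by simp [pL, pR]))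

theorem zP_cube : (zP : Gm F) ^ 3 = 1 := by
  rw [show (zP : Gm F) = pairG (pL eG det_eG) from rfl, ← map_pow, show (pL eG det_eG : Pair F) ^ 3 = 1 from
    Subtype.ext (Prod.ext (by simp [pL, eG_cube]) (by simp [pL])), map_one]

theorem tP_cube : (tP : Gm F) ^ 3 = 1 := by
  rw [tP, ← map_pow, show (pR eG det_eG : Pair F) ^ 3 = 1 from
    Subtype.ext (Prod.ext (by simp [pR]) (by simp [pR, eG_cube])), map_one]

theorem slHom_tP (c : Matrix.SpecialLinearGroup (Fin 2) F) : Commute (slHom c) (tP : Gm F) := by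
  refine gap_ext fun X Y => ?_
  rw [gap_mul, gap_mul, gap_tP, gap_slHom, gap_slHom, gap_tP]
  simp only [mul_assoc]

/-- The involution `jj` as a unit. -/
def jG : GL (Fin 2) F := ⟨jj, jj, jj_jj, jj_jj⟩

include h3 in
/-- An element commuting with `ee` of determinant `-1`. -/
theorem exists_kG : ∃ k : GL (Fin 2) F, k.val.det = -1 ∧ k.val * ee = ee * k.val := by
  let := Fintype.ofFinite F
  obtain ⟨a, b, hab⟩ : ∃ a b : F, a ^ 2 - a * b + b ^ 2 = -1 := by
    by_cases h2 : (2 : F) = 0
    · exact ⟨1, 0, by linear_combination h2⟩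
    obtain ⟨u, v, huv⟩ := FiniteField.exists_root_sum_quadratic
      (f := (Polynomial.X ^ 2 : Polynomial F)) (g := Polynomial.C (3 : F) * Polynomial.X ^ 2 + Polynomial.C 4)
      (Polynomial.degree_X_pow 2)
      (by rw [Polynomial.degree_add_C (by rw [Polynomial.degree_C_mul h3, Polynomial.degree_X_pow]; norm_num),
        Polynomial.degree_C_mul h3, Polynomial.degree_X_pow]; rfl)
      (FiniteField.odd_card_of_char_ne_two fun hc => h2 (by
        haveI := ringChar.charP F
        have := CharP.cast_eq_zero F (ringChar F)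
        rwa [hc, Nat.cast_ofNat] at this))
    simp only [Polynomial.eval_add, Polynomial.eval_mul, Polynomial.eval_C, Polynomial.eval_pow,
      Polynomial.eval_X] at huv
    refine ⟨(u + v) / 2, v, ?_⟩
    field_simp
    linear_combination huv
  set A : M2 := a • 1 + b • ee
  have hd : A.det = -1 := by
    rw [← hab]
    simp [A, ee, Matrix.det_fin_two]
    ring
  refine ⟨Matrix.nonsingInvUnit A (by rw [hd]; exact isUnit_one.neg), hd, ?_⟩
  show A * ee = ee * A
  simp only [A, Matrix.add_mul, Matrix.mul_add, smul_mul_assoc, mul_smul_comm, one_mul, mul_one]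

include h3 in
theorem gam_zP : gam h3 * zP * (gam h3)⁻¹ = zP := by
  rw [mul_inv_eq_iff_eq_mul]
  refine gap_ext fun X Y => ?_
  rw [gap_mul, gap_mul, gap_gam, gap_gam, gap_zP, ← mk_px_py (gamLin (mk X Y)), gap_zP]
  refine ext8 fun i => ?_
  fin_cases i <;>
    simp [gamLin, mk, dec, px, py, ee, jj, Matrix.mul_apply, Matrix.vecMul, dotProduct, Fin.sum_univ_two,
      Matrix.adjugate_fin_two] <;> (try constructor) <;> field_simp <;> ring

include h3 in
theorem gam_tP : gam h3 * tP * (gam h3)⁻¹ = pairG (ePair 2 2) := by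
  rw [mul_inv_eq_iff_eq_mul]
  refine gap_ext fun X Y => ?_
  rw [gap_mul, gap_mul, gap_gam, gap_gam, gap_tP, ← mk_px_py (gamLin (mk X Y)), gap_pairG, ePair_val,
    pow_two, mul_inv_rev, Units.val_mul, Units.val_mul, eG_val, eG_inv_val]
  refine ext8 fun i => ?_
  fin_cases i <;>
    simp [gamLin, mk, dec, px, py, ee, jj, Matrix.mul_apply, Matrix.vecMul, dotProduct, Fin.sum_univ_two] <;>
      (try constructor) <;> field_simp <;> ring

include h3 in
/-- A coprime subgroup normalised by all automorphisms is trivial. -/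
theorem normal_coprime_eq_bot (L : Subgroup (Gm F)) [L.Normal] (hco : (Nat.card L).Coprime 3) : L = ⊥ := by
  classical
  have hS : ∀ g : Gm F, (g * zP * g⁻¹ = zP ∨ g * zP * g⁻¹ = zP⁻¹) → ∀ l ∈ L, Commute l (g * tP * g⁻¹) →
      Commute l zP := by
    intro g hg l hl hc
    set m := g⁻¹ * l * g
    have hm : m ∈ L ⊓ Subgroup.centralizer {tP} := by
      refine ⟨by simpa [m] using Subgroup.Normal.conj_mem inferInstance l hl g⁻¹, ?_⟩
      show m ∈ Subgroup.centralizer {tP}
      rw [Subgroup.mem_centralizer_singleton_iff]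
      calc m * tP = g⁻¹ * (l * (g * tP * g⁻¹)) * g := by simp only [m]; group
        _ = g⁻¹ * ((g * tP * g⁻¹) * l) * g := by rw [hc.eq]
        _ = tP * m := by simp only [m]; group
    have hfix := fix_quat_of_normalised h3 (L ⊓ Subgroup.centralizer {tP})
      (Nat.Coprime.coprime_dvd_left (Subgroup.card_dvd_of_le inf_le_left) hco)
      (fun x hx => Subgroup.mem_centralizer_singleton_iff.1 hx.2)
      (fun c x hx => ⟨Subgroup.Normal.conj_mem inferInstance x hx.1 _, by
        show slHom c * x * (slHom c)⁻¹ ∈ Subgroup.centralizer {tP}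
        rw [Subgroup.mem_centralizer_singleton_iff]
        exact ((slHom_tP c).mul_left (Subgroup.mem_centralizer_singleton_iff.1 hx.2)).mul_left
          (slHom_tP c).inv_left⟩) hm
    have hmz : Commute m zP := Subtype.ext (Units.ext (Matrix.ext_iff_mulVec.2 fun v => by
      show gap (m * zP) v = gap (zP * m) v
      exact (gap_mul m zP v).trans ((commute_zP (isSOct_gap m) (hfix ee) v).trans (gap_mul zP m v).symm)))
    have hl' : Commute l (g * zP * g⁻¹) := by
      calc l * (g * zP * g⁻¹) = g * (m * zP) * g⁻¹ := by simp only [m]; group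
        _ = g * (zP * m) * g⁻¹ := by rw [hmz.eq]
        _ = (g * zP * g⁻¹) * l := by simp only [m]; group
    rcases hg with h | h <;> rw [h] at hl'
    · exact hl'
    · simpa using hl'.inv_right
  obtain ⟨k, hk, hke⟩ := exists_kG h3
  set nP : Pair F := ⟨(jG, k), show (jG : GL (Fin 2) F).val.det = k.val.det by rw [hk]; exact det_jj⟩
  have hn : ∀ i j : ℕ, pairG nP * pairG (ePair i j) * (pairG nP)⁻¹ = pairG (ePair (2 * i) j) := fun i j => by
    rw [← map_inv, ← map_mul, ← map_mul]
    congr 1
    refine Subtype.ext ?_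
    rw [Subgroup.coe_mul, Subgroup.coe_mul, Subgroup.coe_inv, ePair_val, ePair_val]
    have h1 : (jG : GL (Fin 2) F) * eG * (jG : GL (Fin 2) F)⁻¹ = eG ^ 2 := by
      rw [mul_inv_eq_iff_eq_mul, pow_two]; exact Units.ext jj_ee
    have h2 : Commute k (eG : GL (Fin 2) F) := Units.ext hke
    refine Prod.ext ?_ ?_
    · show jG * eG ^ i * jG⁻¹ = eG ^ (2 * i)
      rw [pow_mul, ← h1, conj_pow]
    · show k * eG ^ j * k⁻¹ = eG ^ j
      rw [(h2.pow_right j).eq, mul_inv_cancel_right]
  have ep : ∀ i j, pairG (ePair (F := F) i j) = zP ^ i * tP ^ j := pairG_ePair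
  have ht1 : pairG (ePair 0 1) = (tP : Gm F) := by rw [ep, pow_zero, one_mul, pow_one]
  have hz1 : pairG (ePair 1 0) = (zP : Gm F) := by rw [ep, pow_zero, mul_one, pow_one]
  have hz2 : pairG (ePair 2 0) = (zP : Gm F)⁻¹ := by
    rw [ep, pow_zero, mul_one, eq_inv_iff_mul_eq_one, ← pow_succ, zP_cube]
  set h := pairG nP * gam h3
  have hgz : pairG nP * zP * (pairG nP)⁻¹ = zP⁻¹ := by rw [← hz1, hn, hz1]; exact hz2
  have hhz : h * zP * h⁻¹ = zP⁻¹ := by
    rw [show h * zP * h⁻¹ = pairG nP * (gam h3 * zP * (gam h3)⁻¹) * (pairG nP)⁻¹ by simp only [h]; group,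
      gam_zP h3, hgz]
  have hht : h * tP * h⁻¹ = zP * tP ^ 2 := by
    rw [show h * tP * h⁻¹ = pairG nP * (gam h3 * tP * (gam h3)⁻¹) * (pairG nP)⁻¹ by simp only [h]; group,
      gam_tP h3, hn, ep, show 2 * 2 = 3 + 1 from rfl, pow_add, zP_cube, one_mul, pow_one]
  have hgt : gam h3 * tP * (gam h3)⁻¹ = zP ^ 2 * tP ^ 2 := by rw [gam_tP h3, ep]
  set A : Subgroup (Gm F) := Subgroup.closure {zP, tP}
  have hmemA : ∀ a ∈ A, ∃ i j : ℕ, i < 3 ∧ j < 3 ∧ a = zP ^ i * tP ^ j := by
    intro a ha
    refine Subgroup.closure_induction (p := fun a _ => ∃ i j : ℕ, i < 3 ∧ j < 3 ∧ a = zP ^ i * tP ^ j)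
      ?_ ?_ ?_ ?_ ha
    · rintro x (rfl | rfl)
      exacts [⟨1, 0, by omega, by omega, by simp⟩, ⟨0, 1, by omega, by omega, by simp⟩]
    · exact ⟨0, 0, by omega, by omega, by simp⟩
    · rintro _ _ - - ⟨i, j, -, -, rfl⟩ ⟨i', j', -, -, rfl⟩
      refine ⟨(i + i') % 3, (j + j') % 3, Nat.mod_lt _ (by omega), Nat.mod_lt _ (by omega), ?_⟩
      rw [← pow_eq_pow_mod _ zP_cube, ← pow_eq_pow_mod _ tP_cube, pow_add, pow_add,
        (commute_zP_tP.pow_pow i' j).symm.mul_mul_mul_comm]
    · rintro _ - ⟨i, j, -, -, rfl⟩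
      refine ⟨(2 * i) % 3, (2 * j) % 3, Nat.mod_lt _ (by omega), Nat.mod_lt _ (by omega), ?_⟩
      rw [← pow_eq_pow_mod _ zP_cube, ← pow_eq_pow_mod _ tP_cube, inv_eq_iff_mul_eq_one,
        (commute_zP_tP.pow_pow (2 * i) j).symm.mul_mul_mul_comm, ← pow_add, ← pow_add,
        show i + 2 * i = 3 * i by ring, show j + 2 * j = 3 * j by ring, pow_mul, pow_mul, zP_cube, tP_cube,
        one_pow, one_pow, mul_one]
  haveI : IsMulCommutative A := ⟨⟨fun a b => by
    obtain ⟨i, j, -, -, ha⟩ := hmemA a a.2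
    obtain ⟨i', j', -, -, hb⟩ := hmemA b b.2
    refine Subtype.ext ?_
    rw [Subgroup.coe_mul, Subgroup.coe_mul, ha, hb]
    exact ((((Commute.refl _).pow_pow i i').mul_right (commute_zP_tP.pow_pow i j')).mul_left
      ((commute_zP_tP.symm.pow_pow j i').mul_right ((Commute.refl _).pow_pow j j'))).eq⟩⟩
  have hcub : ∀ a : A, a ^ 3 = 1 := fun a => by
    obtain ⟨i, j, -, -, ha⟩ := hmemA a a.2
    refine Subtype.ext ?_
    rw [SubmonoidClass.coe_pow, ha, (commute_zP_tP.pow_pow i j).mul_pow, ← pow_mul, ← pow_mul, mul_comm i,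
      mul_comm j, pow_mul, pow_mul, zP_cube, tP_cube, one_pow, one_pow, mul_one]
    rfl
  have hzj : gap zP (mk (jj : M2) 0) ≠ mk jj 0 := fun e => by
    have := congrFun e (Sum.inl 1)
    rw [gap_zP] at this
    simp [mk, ee, jj, Matrix.adjugate_fin_two] at this
  have htj : gap tP (mk (jj : M2) 0) = mk jj 0 := by rw [gap_tP, mul_zero]
  have hnc : ¬ IsCyclic A := fun hcyc => by
    obtain ⟨a, ha⟩ := hcyc.exists_generator
    let zA : A := ⟨zP, Subgroup.subset_closure (Or.inl rfl)⟩
    let tA : A := ⟨tP, Subgroup.subset_closure (Or.inr rfl)⟩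
    obtain ⟨m, hm⟩ := Subgroup.mem_zpowers_iff.1 (ha zA)
    obtain ⟨n, hn'⟩ := Subgroup.mem_zpowers_iff.1 (ha tA)
    have h3a : a ^ (3 : ℤ) = 1 := by exact_mod_cast hcub a
    have hne : ¬ (3 : ℤ) ∣ n := fun ⟨q, hq⟩ => by
      rw [hq, zpow_mul, h3a, one_zpow] at hn'
      have h1 := congrArg (fun g : A => gap g.1 (mk (0 : M2) 1)) hn'
      simp only [Subgroup.coe_one, gap_one, tA, gap_tP, mul_one] at h1
      have := congrFun (congrFun (mk_inj h1).2 1) 0
      simp [ee] at this
    have hz : zA = tA ^ (n * m) := by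
      rw [← hm, ← hn', ← zpow_mul]
      have h1 : (3 : ℤ) ∣ (n * (n * m) - m) := by
        have h2 : (3 : ℤ) ∣ n * n - 1 := by
          obtain ⟨q, hq⟩ : ∃ q, n = 3 * q + 1 ∨ n = 3 * q + 2 := ⟨n / 3, by omega⟩
          rcases hq with rfl | rfl
          exacts [⟨3 * q * q + 2 * q, by ring⟩, ⟨3 * q * q + 4 * q + 1, by ring⟩]
        obtain ⟨q, hq⟩ := h2
        exact ⟨q * m, by linear_combination m * hq⟩
      obtain ⟨q, hq⟩ := h1
      rw [show n * (n * m) = m + 3 * q by linarith, zpow_add, zpow_mul, h3a, one_zpow, mul_one]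
    have hfixp : ∀ z : ℤ, gap ((tP : Gm F) ^ z) (mk (jj : M2) 0) = mk jj 0 := fun z => by
      induction z using Int.induction_on with
      | zero => rw [zpow_zero, gap_one]
      | succ i ih => rw [zpow_add_one, gap_mul, htj, ih]
      | pred i ih =>
        rw [zpow_sub_one, gap_mul, show gap (tP⁻¹ : Gm F) (mk jj 0) = mk jj 0 from by
          conv_lhs => rw [← htj, gap_gap_inv], ih]
    refine hzj ?_
    rw [show (zP : Gm F) = tP ^ (n * m) from (congrArg Subtype.val hz).trans (SubgroupClass.coe_zpow _ _)]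
    exact hfixp _
  have hcardA : (Nat.card A).Coprime (Nat.card L) := by
    haveI : Fact (Nat.Prime 3) := ⟨Nat.prime_three⟩
    obtain ⟨n, hn'⟩ := IsPGroup.iff_card.1 (show IsPGroup 3 A from fun a => ⟨1, by rw [pow_one]; exact hcub a⟩)
    rw [hn']
    exact hco.symm.pow_left n
  have hcomm : L ⊓ Subgroup.centralizer {(zP : Gm F)} = L :=
    Coprime.eq_of_forall_centralizer_le hnc (fun a _ => by
      rw [Subgroup.normalizer_eq_top L]; exact Subgroup.mem_top a) hcardA inf_le_left fun a ha ha1 => by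
      intro l hl
      obtain ⟨hlL, hla⟩ := hl
      replace hla := Subgroup.mem_centralizer_singleton_iff.1 hla
      refine ⟨hlL, ?_⟩
      show l ∈ Subgroup.centralizer {(zP : Gm F)}
      rw [Subgroup.mem_centralizer_singleton_iff]
      obtain ⟨i, j, hi, hj, rfl⟩ := hmemA a ha
      have hla' : Commute l (zP ^ i * tP ^ j) := hla
      have sq : ∀ y : Gm F, y ^ 3 = 1 → Commute l (y ^ 2) → Commute l y := fun y hy hc => by
        have := hc.pow_right 2
        rwa [← pow_mul, show 2 * 2 = 3 + 1 from rfl, pow_add, hy, one_mul, pow_one] at this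
      have hcube : ∀ i j : ℕ, ((zP : Gm F) ^ i * tP ^ j) ^ 3 = 1 := fun i j => by
        rw [(commute_zP_tP.pow_pow i j).mul_pow, ← pow_mul, ← pow_mul, mul_comm i, mul_comm j, pow_mul, pow_mul,
          zP_cube, tP_cube, one_pow, one_pow, mul_one]
      have e11 : ((zP : Gm F) * tP) ^ 2 = zP ^ 2 * tP ^ 2 := commute_zP_tP.mul_pow 2
      have e12 : ((zP : Gm F) * tP ^ 2) ^ 2 = zP ^ 2 * tP := by
        rw [(commute_zP_tP.pow_right 2).mul_pow, ← pow_mul, show 2 * 2 = 3 + 1 from rfl, pow_add tP 3, tP_cube,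
          one_mul, pow_one]
      have c11 : Commute l (zP ^ 2 * tP ^ 2) → Commute l zP := fun hc =>
        hS (gam h3) (Or.inl (gam_zP h3)) l hlL (by rwa [hgt])
      have c12 : Commute l (zP * tP ^ 2) → Commute l zP := fun hc => hS h (Or.inr hhz) l hlL (by rwa [hht])
      interval_cases i <;> interval_cases j <;> (try simp only [pow_zero, pow_one, one_mul, mul_one] at hla' ha1)
      · exact absurd rfl ha1
      · exact hS 1 (Or.inl (by group)) l hlL (by simpa using hla')
      · exact hS 1 (Or.inl (by group)) l hlL (by simpa using sq tP tP_cube hla')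
      · exact hla'
      · exact c11 (e11 ▸ hla'.pow_right 2)
      · exact c12 hla'
      · exact sq zP zP_cube hla'
      · refine c12 (sq _ (by simpa using hcube 1 2) ?_)
        rwa [e12]
      · exact c11 hla'
  refine eq_bot_of_fix_ee L fun l hl => ?_
  have hlz : Commute l zP := Subgroup.mem_centralizer_singleton_iff.1 (hcomm.ge hl).2
  exact map_ee h3 (isSOct_gap l) fun v => by rw [← gap_mul, hlz.eq, gap_mul]

end Cfsg.Agent.TrialityBalance
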