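import Cfsg.Agent.Lib.TrialityBalance.Levi

/-!
Normal forms of the elements of order three in the triality coset.
-/

set_option autoImplicit false
set_option maxHeartbeats 1600000

namespace Cfsg.Agent.TrialityBalance

open scoped Matrix MatrixGroups Pointwise
open Matrix (adjugate det)
open Triality (omul oconj oone ap Rel ext8 N8_apply)
open QForm (plusForm)
open ClassicalSimple (GO simAut scalarGO omegaSub scalarSub)
open AutPO (fieldA fixes_plus mapGO Dg Semi semiA)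
open LocalBalance (fixK restrictFix mul_conj)

universe u

/-- Two elements of order `q` congruent modulo a normalised `r`-subgroup generate conjugate subgroups. -/
theorem exists_conj_zpowers {G : Type*} [Group G] [Finite G] {r q : ℕ} [Fact r.Prime] [Fact q.Prime] (hrq : r ≠ q)
    (R : Subgroup G) (hR : IsPGroup r R) {x y : G} (hx : orderOf x = q) (hy : orderOf y = q)
    (hnx : x ∈ Subgroup.normalizer (R : Set G)) (hy' : y ∈ R ⊔ Subgroup.zpowers x) :
    ∃ u ∈ R, ∃ i : ℕ, u * x * u⁻¹ = y ^ i := by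
  classical
  set H := R ⊔ Subgroup.zpowers x with hH
  have hle : Subgroup.zpowers x ≤ Subgroup.normalizer (R : Set G) := Subgroup.zpowers_le.2 hnx
  have hset : (H : Set G) = (Subgroup.zpowers x : Set G) * (R : Set G) := by
    rw [hH, sup_comm]
    exact Subgroup.coe_mul_of_left_le_normalizer_right _ _ hle
  obtain ⟨k, hk⟩ := IsPGroup.iff_card.1 hR
  have hcop : (Nat.card R).Coprime q := by
    rw [hk]; exact ((Nat.coprime_primes Fact.out Fact.out).2 hrq).pow_left k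
  have hcx : Nat.card (Subgroup.zpowers x) = q := by rw [Nat.card_zpowers, hx]
  have hdis : Disjoint (Subgroup.zpowers x) R := by
    refine disjoint_iff.2 (Subgroup.inf_eq_bot_of_coprime ?_)
    rw [hcx]; exact hcop.symm
  have hcard : Nat.card H = q * Nat.card R := by
    rw [← hcx, ← Nat.card_prod]
    refine (Nat.card_congr (Equiv.ofBijective (fun g : Subgroup.zpowers x × R => (⟨g.1.1 * g.2.1, by
      rw [← SetLike.mem_coe, hset]; exact Set.mul_mem_mul g.1.2 g.2.2⟩ : H)) ⟨fun a b e => ?_, fun z => ?_⟩)).symm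
    · exact Subgroup.mul_injective_of_disjoint hdis (congrArg Subtype.val e)
    · obtain ⟨a, ha, b, hb, e⟩ : z.1 ∈ (Subgroup.zpowers x : Set G) * (R : Set G) := hset ▸ z.2
      exact ⟨(⟨a, ha⟩, ⟨b, hb⟩), Subtype.ext e⟩
  let x' : H := ⟨x, le_sup_right (a := R) (Subgroup.mem_zpowers x)⟩
  let y' : H := ⟨y, hy'⟩
  have hsyl : ∀ z : H, orderOf z = q → ∃ P : Sylow q H, (P : Subgroup H) = Subgroup.zpowers z := by
    intro z hz
    have hp : IsPGroup q (Subgroup.zpowers z) :=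
      IsPGroup.of_card (n := 1) (by rw [Nat.card_zpowers, hz, pow_one])
    obtain ⟨P, hP⟩ := hp.exists_le_sylow
    refine ⟨P, (Subgroup.eq_of_le_of_card_ge hP ?_).symm⟩
    rw [Nat.card_zpowers, hz]
    obtain ⟨j, hj⟩ := IsPGroup.iff_card.1 P.2
    have hd : Nat.card (P : Subgroup H) ∣ q * Nat.card R := hcard ▸ Subgroup.card_subgroup_dvd_card _
    refine Nat.le_of_dvd (Fact.out : q.Prime).pos (Nat.Coprime.dvd_of_dvd_mul_right ?_ hd)
    rw [hj]
    exact hcop.symm.pow_left j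
  obtain ⟨P, hP⟩ := hsyl x' (by rw [← hx]; exact Subgroup.orderOf_mk x _)
  obtain ⟨Q, hQ⟩ := hsyl y' (by rw [← hy]; exact Subgroup.orderOf_mk y _)
  obtain ⟨g, hg⟩ := MulAction.exists_smul_eq H P Q
  have hmem : g * x' * g⁻¹ ∈ Subgroup.zpowers y' := by
    rw [← hQ, ← hg]
    have hx' : x' ∈ (P : Subgroup H) := hP ▸ Subgroup.mem_zpowers x'
    rw [Sylow.coe_subgroup_smul]
    exact ⟨x', hx', rfl⟩
  obtain ⟨i, -, hi⟩ := Finset.mem_image.1 ((mem_zpowers_iff_mem_range_orderOf).1 hmem)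
  have hgs : g.1 ∈ (Subgroup.zpowers x : Set G) * (R : Set G) := hset ▸ g.2
  obtain ⟨a, ha, b, hb, e⟩ := hgs
  have e' : a * b = g.1 := e
  have hax : Commute a x := by
    obtain ⟨n, rfl⟩ := Subgroup.mem_zpowers_iff.1 ha
    exact (Commute.refl x).zpow_left n
  have hi' : g.1 * x * g.1⁻¹ = y ^ i := by
    have := congrArg Subtype.val hi
    simpa [x', y'] using this.symm
  refine ⟨a * b * a⁻¹, (Subgroup.mem_normalizer_iff.1 (hle ha) b).1 hb, i, ?_⟩
  rw [← hi', ← e', show a * b * a⁻¹ * x * (a * b * a⁻¹)⁻¹ = a * b * (a⁻¹ * x * a) * (a * b)⁻¹ by group,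
    mul_assoc a⁻¹, ← hax.eq, inv_mul_cancel_left]

variable {F : Type u} [Field F] [Fintype F]

local notation "I8" => (Fin 4 ⊕ Fin 4)
local notation "V8" => (Fin 4 ⊕ Fin 4 → F)
local notation "N8" => plusForm F 4
local notation "M2" => Matrix (Fin 2) (Fin 2) F

theorem fA_inv (σ : F ≃+* F) : (fA σ)⁻¹ = fA σ⁻¹ :=
  inv_eq_of_mul_eq_one_right (by rw [fA_mul, mul_inv_cancel, fA_one])

theorem fA_conj (σ : F ≃+* F) (g : GO N8) : fA σ * simAut N8 g * (fA σ)⁻¹ = simAut N8 (mapF σ g) := by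
  rw [fA_simAut, mul_inv_cancel_right]

theorem aZ_ne : (aZ : V8) ≠ 0 := fun e => one_ne_zero (α := F) (by simpa using congrFun e (.inl 1))

theorem IsUnip.mapF {g : GO N8} (σ : F ≃+* F) (h : IsUnip g) : IsUnip (TrialityBalance.mapF σ g) := by
  have hs : ∀ j : I8, σ ∘ (Pi.single j 1 : V8) = Pi.single j 1 := fun j =>
    funext fun i => by simp only [Function.comp_apply, Pi.single_apply]; split_ifs <;> simp
  have key : ∀ j : I8, (∃ c : F, ap g (Pi.single j 1) = Pi.single j 1 + c • (aZ : V8)) →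
      ∃ c : F, ap (TrialityBalance.mapF σ g) (Pi.single j 1) = Pi.single j 1 + c • (aZ : V8) := by
    rintro j ⟨c, hc⟩
    refine ⟨σ c, ?_⟩
    conv_lhs => rw [← hs j]
    rw [ap_mapF, hc, comp_add, comp_smul, hs, aZ_comp]
  refine ⟨h.inS.mapF σ, fun v => ?_, ?_, key _ h.e2, key _ h.e3, ?_⟩
  · rw [← comp_symm_comp σ v, ap_mapF, show ∀ u, N8 (σ ∘ u) = σ (N8 u) from fun u => fixes_plus σ u, h.norm,
      ← show ∀ u, N8 (σ ∘ u) = σ (N8 u) from fun u => fixes_plus σ u]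
  · conv_lhs => rw [← aZ_comp σ]
    rw [ap_mapF, h.fixA, aZ_comp]
  · obtain ⟨w, hw, hc⟩ := h.e0
    refine ⟨σ ∘ w, by obtain ⟨a, b, c, d, e⟩ := hw; simp [InU, *], ?_⟩
    conv_lhs => rw [← hs]
    rw [ap_mapF, hc, comp_add, hs]

/-- The stabiliser as a group of automorphisms. -/
def sS (F : Type u) [Field F] [Fintype F] : Subgroup (Aut8 F) where
  carrier := {β | ∃ g : GO (plusForm F 4), InS g ∧ β = simAut (plusForm F 4) g}
  one_mem' := ⟨1, inS_one, by rw [map_one]⟩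
  mul_mem' := by rintro _ _ ⟨g, hg, rfl⟩ ⟨k, hk, rfl⟩; exact ⟨_, hg.mul hk, by rw [map_mul]⟩
  inv_mem' := by rintro _ ⟨g, hg, rfl⟩; exact ⟨_, hg.inv, by rw [map_inv]⟩

/-- The unipotent part as a group of automorphisms. -/
def sR (F : Type u) [Field F] [Fintype F] : Subgroup (Aut8 F) where
  carrier := {β | ∃ g : GO (plusForm F 4), IsUnip g ∧ β = simAut (plusForm F 4) g}
  one_mem' := ⟨1, isUnip_one, by rw [map_one]⟩
  mul_mem' := by rintro _ _ ⟨g, hg, rfl⟩ ⟨k, hk, rfl⟩; exact ⟨_, hg.mul hk, by rw [map_mul]⟩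
  inv_mem' := by rintro _ ⟨g, hg, rfl⟩; exact ⟨_, hg.inv, by rw [map_inv]⟩

theorem sR_le : sR F ≤ sS F := by
  rintro _ ⟨g, hg, rfl⟩; exact ⟨g, hg.inS, rfl⟩

theorem sS_le : sS F ≤ NF F := by
  rintro _ ⟨g, hg, rfl⟩; exact simAut_mem_NF hg.mem_Dg

theorem sS_norm {s t : Aut8 F} (hs : s ∈ sS F) (ht : t ∈ sR F) : s * t * s⁻¹ ∈ sR F := by
  obtain ⟨g, hg, rfl⟩ := hs
  obtain ⟨k, hk, rfl⟩ := ht
  exact ⟨_, hk.conj hg, by rw [map_mul, map_mul, map_inv]⟩

theorem isPGroup_sR {r : ℕ} [Fact r.Prime] [CharP F r] : IsPGroup r (sR F) := by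
  rintro ⟨_, g, hg, rfl⟩
  exact ⟨3, Subtype.ext (by rw [SubmonoidClass.coe_pow, ← map_pow, hg.pow_eq_one, map_one]; rfl)⟩

variable (T : Tri F)

theorem Tri.pi_tau_ne {i : ℕ} {n : Aut8 F} (hn : n ∈ NF F) (h : T.tau * n = T.tau ^ i) : i % 3 = 1 := by
  have hmod : T.tau ^ i = T.tau ^ (i % 3) := pow_eq_pow_mod i T.tau_cube
  have ht : T.tau ∉ NF F := fun e => T.tau_not_semi (T.isSemi_iff.2 (Or.inl e))
  rw [hmod] at h
  have h3 : i % 3 < 3 := Nat.mod_lt _ (by norm_num)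
  interval_cases hi : i % 3
  · exfalso; refine ht ?_
    rw [pow_zero] at h
    rw [eq_inv_of_mul_eq_one_left h]; exact inv_mem hn
  · rfl
  · exfalso; refine ht ?_
    rw [pow_two] at h
    rw [← mul_left_cancel h]; exact hn

theorem Tri.sim_tau {k k1 k2 : GO N8} (r : Rel k k1 k2) :
    simAut N8 k * T.tau = T.tau * simAut N8 (T.C * k1 * T.C) := by
  have e := T.tau_inv_sim r
  calc simAut N8 k * T.tau = T.tau * (T.tau⁻¹ * simAut N8 k) * T.tau := by group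
    _ = T.tau * (simAut N8 (T.C * k1 * T.C) * T.tau⁻¹) * T.tau := by rw [e]
    _ = _ := by group

theorem Tri.conj_form {h k k1 k2 : GO N8} (r : Rel k k1 k2) (σ : F ≃+* F) :
    simAut N8 k * (T.tau * simAut N8 h * fA σ) * (simAut N8 k)⁻¹ =
      T.tau * simAut N8 (T.C * k1 * T.C * h * mapF σ k⁻¹) * fA σ := by
  rw [← mul_assoc, ← mul_assoc, T.sim_tau r, ← map_inv, mul_assoc _ (fA σ), fA_simAut, ← mul_assoc,
    mul_assoc T.tau, mul_assoc T.tau, ← map_mul, ← map_mul]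

theorem Tri.cube_form {h h1 h2 : GO N8} (r : Rel h h1 h2) (σ : F ≃+* F) :
    (T.tau * simAut N8 h * fA σ) ^ 3 =
      simAut N8 (T.C * h2 * T.C * mapF σ (T.C * h1 * T.C * mapF σ h)) * fA (σ * σ * σ) := by
  set s := simAut N8 h
  set f := fA σ
  have e1 := T.tau_sim r
  have e2 := T.tau_inv_sim r
  have hf : Commute T.tau f := T.tau_field σ
  have hsq : T.tau * T.tau = T.tau⁻¹ := by
    rw [eq_inv_iff_mul_eq_one, ← pow_two, ← pow_succ, T.tau_cube]
  calc (T.tau * s * f) ^ 3 = T.tau * s * f * (T.tau * s * f) * (T.tau * s * f) := by rw [pow_succ, pow_two]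
    _ = T.tau * s * (f * (T.tau * s * f) * (T.tau * s * f)) := by group
    _ = simAut N8 (T.C * h2 * T.C) * T.tau * (f * (T.tau * s * f) * (T.tau * s * f)) :=
      congrArg (fun z => z * (f * (T.tau * s * f) * (T.tau * s * f))) e1
    _ = simAut N8 (T.C * h2 * T.C) * (T.tau * f * T.tau) * s * f * (T.tau * s * f) := by group
    _ = simAut N8 (T.C * h2 * T.C) * f * (T.tau⁻¹ * s) * f * (T.tau * s * f) := by
      rw [hf.eq, mul_assoc f T.tau, hsq]; group
    _ = simAut N8 (T.C * h2 * T.C) * f * simAut N8 (T.C * h1 * T.C) * (T.tau⁻¹ * f * T.tau) * s * f := by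
      rw [e2]; group
    _ = simAut N8 (T.C * h2 * T.C) * f * simAut N8 (T.C * h1 * T.C) * f * s * f := by
      rw [mul_assoc T.tau⁻¹, ← hf.eq, inv_mul_cancel_left]
    _ = _ := by
      rw [mul_assoc _ f s, fA_simAut, ← mul_assoc, mul_assoc _ (fA σ) f, fA_mul,
        mul_assoc (simAut N8 (T.C * h2 * T.C) * f), ← map_mul, mul_assoc (simAut N8 (T.C * h2 * T.C)), fA_simAut,
        ← mul_assoc, ← map_mul, mul_assoc, fA_mul, mul_assoc σ σ σ]

theorem sigma_of_cube {h : GO N8} {τ : F ≃+* F} (e : simAut N8 h * fA τ = 1) :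
    τ = 1 ∧ ∃ c : F, c ≠ 0 ∧ ∀ v, ap h v = c • v := by
  have h1 : τ = 1 := sigma_eq (h := h) (k := 1) (by rw [e, map_one, fA_one, mul_one])
  subst h1
  rw [fA_one, mul_one, ← map_one (simAut N8)] at e
  obtain ⟨c, hc, hv⟩ := exists_smul e
  exact ⟨rfl, c, hc, fun v => by rw [hv, Triality.ap_one]⟩

variable (h3 : (3 : F) ≠ 0)

include h3 in
/-- An element of order three may be conjugated into the stabiliser. -/
theorem Tri.exists_inS_conj {h : GO N8} (hh : h ∈ Dg N8 4) {σ : F ≃+* F}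
    (hx : (T.tau * simAut N8 h * fA σ) ^ 3 = 1) :
    σ ^ 3 = 1 ∧ ∃ n ∈ NF F, ∃ g : GO N8, InS g ∧
      n * (T.tau * simAut N8 h * fA σ) * n⁻¹ = T.tau * simAut N8 g * fA σ := by
  obtain ⟨h1, h2, r⟩ := exists_triple hh
  rw [T.cube_form r] at hx
  obtain ⟨hσ, μ, hμ0, hμ⟩ := sigma_of_cube hx
  have hσ3 : σ ^ 3 = 1 := by rw [pow_succ, pow_two]; exact hσ
  have hs3 : ∀ v : V8, σ ∘ (σ ∘ (σ ∘ v)) = v := fun v => funext fun i => DFunLike.congr_fun hσ (v i)
  have hK : ∀ v, ap h2 (σ ∘ bMap h h1 σ v) = μ • oconj v := fun v => by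
    have hmC : mapF σ T.C = T.C := Triality.ap_ext fun u => by
      rw [← comp_symm_comp σ u, ap_mapF, T.apC, T.apC, oconj_comp]
    have e := hμ (σ ∘ (σ ∘ (σ ∘ v)))
    simp only [Triality.ap_mul, map_mul, hmC, ap_mapF, T.apC, ← oconj_comp, Triality.oconj_oconj] at e
    simp only [hs3] at e
    have := congrArg oconj e
    rw [Triality.oconj_oconj, oconj_smul] at this
    rw [← this]
    simp only [bMap, gMap]
  obtain ⟨a, ha, hN, hbc, hba, hac⟩ := exists_fixed_point r hK hμ0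
  set b := gMap h σ a
  set c := bMap h h1 σ a
  obtain ⟨k, k1, k2, rk, ⟨s, hs, ek⟩, ⟨s1, hs1, ek1⟩, s2, hs2, ek2⟩ :=
    exists_incident_move h3 ha (fun e => ha (gMap_eq_zero e)) (fun e => ha (bMap_eq_zero e)) hN hbc hba hac
  refine ⟨hσ3, simAut N8 k, simAut_mem_NF (AutPOmega.TG_le_Dg ⟨k1, k2, rk⟩), ?_⟩
  obtain ⟨d, rs⟩ := rk.swap T.apC
  have rK := rs.conj T.apC
  rw [show T.C * (T.C * k2 * T.C) * T.C = k2 by
    rw [← mul_assoc, ← mul_assoc, Triality.conj_mul_self T.apC, one_mul, mul_assoc,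
      Triality.conj_mul_self T.apC, mul_one]] at rK
  set K := T.C * (scalarGO N8 d * k1) * T.C
  have hnegA : oconj (aZ : V8) = (-1 : F) • aZ := ext8 fun i => by fin_cases i <;> simp [oconj]
  have hKs : simAut N8 K = simAut N8 (T.C * k1 * T.C) := by
    simp only [K, map_mul, Triality.simAut_scalar, one_mul]
  refine ⟨K * h * mapF σ k⁻¹, ⟨_, _, (rK.mul r).mul (rel_mapF σ rk.inv), ?_, ?_, ?_⟩, ?_⟩
  · refine ⟨-(σ s⁻¹ * d * s1), ?_⟩
    have e : ap (mapF σ k⁻¹) (aZ : V8) = σ s⁻¹ • (σ ∘ a) := by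
      conv_lhs => rw [← aZ_comp σ, ap_mapF, show (aZ : V8) = s⁻¹ • ap k a by rw [ek, inv_smul_smul₀ hs]]
      rw [Triality.ap_smul, Triality.ap_ap_inv, comp_smul]
    simp only [K, Triality.ap_mul]
    rw [e]
    simp only [Triality.ap_smul, T.apC, oconj_smul, Triality.ap_scalar, show oconj (ap h (σ ∘ a)) = b from rfl, show ap k1 b = s1 • aZ from ek1,
      hnegA]
    module
  · refine ⟨σ s1⁻¹ * s2, ?_⟩
    have e : ap (mapF σ k1⁻¹) (aZ : V8) = σ s1⁻¹ • (σ ∘ b) := by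
      conv_lhs => rw [← aZ_comp σ, ap_mapF, show (aZ : V8) = s1⁻¹ • ap k1 b by rw [ek1, inv_smul_smul₀ hs1]]
      rw [Triality.ap_smul, Triality.ap_ap_inv, comp_smul]
    simp only [Triality.ap_mul]
    rw [e, Triality.ap_smul, Triality.ap_smul, show ap h1 (σ ∘ b) = c from rfl, show ap k2 c = s2 • aZ from ek2, smul_smul]
  · refine ⟨-(σ s2⁻¹ * μ * s), ?_⟩
    have e : ap (mapF σ k2⁻¹) (aZ : V8) = σ s2⁻¹ • (σ ∘ c) := by
      conv_lhs => rw [← aZ_comp σ, ap_mapF, show (aZ : V8) = s2⁻¹ • ap k2 c by rw [ek2, inv_smul_smul₀ hs2]]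
      rw [Triality.ap_smul, Triality.ap_ap_inv, comp_smul]
    simp only [Triality.ap_mul]
    rw [e]
    simp only [Triality.ap_smul, show ap h2 (σ ∘ c) = μ • oconj a from hK a, T.apC, oconj_smul,
      Triality.oconj_oconj, ek, hnegA]
    module
  · rw [T.conj_form rk, map_mul, map_mul, map_mul (simAut N8) (K * h), map_mul (simAut N8) K, hKs]

/-- An element in the stabiliser may be conjugated into the Levi part. -/
theorem Tri.exists_lev_conj {r : ℕ} [Fact r.Prime] [CharP F r] (hr : r ≠ 3) {g : GO N8} (hg : InS g) {σ : F ≃+* F}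
    (hσ3 : σ ^ 3 = 1) (hx : (T.tau * simAut N8 g * fA σ) ^ 3 = 1) :
    ∃ n ∈ NF F, ∃ (l : GO N8) (A : M2) (p q x0 x1 : F), IsLev l A p q x0 x1 ∧
      n * (T.tau * simAut N8 g * fA σ) * n⁻¹ = T.tau * simAut N8 l * fA σ := by
  haveI : Fact (Nat.Prime 3) := ⟨Nat.prime_three⟩
  haveI := T.NF_normal
  set x := T.tau * simAut N8 g * fA σ with hxdef
  have hSx : ∀ s ∈ sS F, x⁻¹ * s * x ∈ sS F := by
    rintro _ ⟨s, hs, rfl⟩
    obtain ⟨s1, s2, rs, e0, e1, e2⟩ := hs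
    obtain ⟨s', hs', es'⟩ := InS.rotate T.apC rs e0 e1 e2
    refine ⟨mapF σ⁻¹ (g⁻¹ * s' * g), ((hg.inv.mul hs').mul hg).mapF _, ?_⟩
    have e := T.sim_tau rs
    rw [← es'] at e
    rw [← fA_conj, map_mul, map_mul, map_inv, ← fA_inv, inv_inv, hxdef, mul_inv_rev, mul_inv_rev,
      show (fA σ)⁻¹ * ((simAut N8 g)⁻¹ * T.tau⁻¹) * simAut N8 s * (T.tau * simAut N8 g * fA σ) =
        (fA σ)⁻¹ * (simAut N8 g)⁻¹ * T.tau⁻¹ * (simAut N8 s * T.tau) * simAut N8 g * fA σ by group, e]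
    group
  have hSx' : ∀ s ∈ sS F, x * s * x⁻¹ ∈ sS F := fun s hs => by
    have := hSx _ (hSx _ hs)
    have e : x⁻¹ * x⁻¹ = x := by
      rw [← mul_inv_rev, inv_eq_iff_mul_eq_one, ← pow_two, ← pow_succ, hx]
    have e' : x * x = x⁻¹ := by conv_rhs => rw [← e]; rw [mul_inv_rev, inv_inv]
    rwa [show x⁻¹ * (x⁻¹ * s * x) * x = x⁻¹ * x⁻¹ * s * (x * x) by group, e, e'] at this
  set c := (MulAut.conj x).toMonoidHom
  have hc : ∀ z, c z = x * z * x⁻¹ := fun z => rfl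
  set R1 := (sR F).map c
  set R2 := R1.map c
  have hp0 : IsPGroup r (sR F) := isPGroup_sR
  have hp1 : IsPGroup r R1 := hp0.map c
  have hp2 : IsPGroup r R2 := hp1.map c
  have hmapS : ∀ K : Subgroup (Aut8 F), K ≤ sS F → K.map c ≤ sS F := fun K hK => by
    rintro _ ⟨k, hk, rfl⟩; exact hSx' k (hK hk)
  have hR1 : R1 ≤ sS F := hmapS _ sR_le
  have hR2 : R2 ≤ sS F := hmapS _ hR1
  have hnormal : ∀ K : Subgroup (Aut8 F), (∀ s ∈ sS F, ∀ k ∈ K, s * k * s⁻¹ ∈ K) →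
      ∀ s ∈ sS F, ∀ k ∈ K.map c, s * k * s⁻¹ ∈ K.map c := by
    rintro K hK s hs _ ⟨k, hk, rfl⟩
    refine ⟨x⁻¹ * s * x * k * (x⁻¹ * s * x)⁻¹, hK _ (hSx s hs) k hk, ?_⟩
    rw [hc, hc]; group
  have hn0 : ∀ s ∈ sS F, ∀ k ∈ sR F, s * k * s⁻¹ ∈ sR F := fun s hs k hk => sS_norm hs hk
  have hn1 := hnormal _ hn0
  have hn2 := hnormal _ hn1
  have tonorm : ∀ (K L : Subgroup (Aut8 F)), (∀ s ∈ sS F, ∀ k ∈ K, s * k * s⁻¹ ∈ K) → L ≤ sS F →
      L ≤ Subgroup.normalizer (K : Set (Aut8 F)) := fun K L hK hL l hl =>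
    Subgroup.mem_normalizer_iff.2 fun k => ⟨hK l (hL hl) k, fun h => by
      have := hK l⁻¹ (inv_mem (hL hl)) _ h
      rwa [show l⁻¹ * (l * k * l⁻¹) * l⁻¹⁻¹ = k by group] at this⟩
  set R := R2 ⊔ R1 ⊔ sR F with hR
  have hpR : IsPGroup r R := (hp2.to_sup_of_normal_right' hp1 (tonorm _ _ hn1 hR2)).to_sup_of_normal_right' hp0
    (tonorm _ _ hn0 (sup_le hR2 hR1))
  have hcc : ∀ k, c (c (c k)) = k := fun k => by
    rw [hc, hc, hc, show x * (x * (x * k * x⁻¹) * x⁻¹) * x⁻¹ = x * x * x * k * (x * x * x)⁻¹ by group, ← pow_two,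
      ← pow_succ, hx, one_mul, inv_one, mul_one]
  have hRc : R.map c = R := by
    have e : R2.map c = sR F := Subgroup.ext fun z => ⟨by
      rintro ⟨_, ⟨_, ⟨k, hk, rfl⟩, rfl⟩, rfl⟩; rwa [hcc],
      fun hz => ⟨c (c z), ⟨c z, ⟨z, hz, rfl⟩, rfl⟩, hcc z⟩⟩
    rw [hR, Subgroup.map_sup, Subgroup.map_sup, e, sup_comm (R2 ⊔ R1), sup_assoc]
  have hnx : x ∈ Subgroup.normalizer (R : Set (Aut8 F)) := Subgroup.mem_normalizer_iff.2 fun k => by
    refine ⟨fun hk => hRc ▸ ⟨k, hk, rfl⟩, fun hk => ?_⟩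
    rw [← hRc] at hk
    obtain ⟨k', hk', e⟩ := hk
    exact (MulAut.conj x).injective e ▸ hk'
  obtain ⟨l, A, p, q, x0, x1, hl, hu⟩ := hg.decompose
  set u := simAut N8 (mapF σ⁻¹ (l⁻¹ * g))
  have hu' : u ∈ R := le_sup_right (a := R2 ⊔ R1) ⟨_, hu.mapF _, rfl⟩
  set y := T.tau * simAut N8 l * fA σ
  have hxy : x = y * u := by
    simp only [y, u]
    rw [← fA_conj, ← fA_inv, inv_inv, map_mul, map_inv, hxdef]
    group
  have hy3 : y ^ 3 ∈ R := by
    have key : ∀ k ∈ R, x * k * x⁻¹ ∈ R := fun k hk => (Subgroup.mem_normalizer_iff.1 hnx k).1 hk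
    have e : y ^ 3 = x * u⁻¹ * x⁻¹ * (x * (x * u⁻¹ * x⁻¹) * x⁻¹) * u⁻¹ := by
      have hy : y = x * u⁻¹ := eq_mul_inv_of_mul_eq hxy.symm
      calc y ^ 3 = x * u⁻¹ * x⁻¹ * (x * (x * u⁻¹ * x⁻¹) * x⁻¹) * (x * x * x) * u⁻¹ := by
            rw [hy, pow_succ, pow_two]; group
        _ = _ := by rw [← pow_two, ← pow_succ, hx, mul_one]
    rw [e]
    exact mul_mem (mul_mem (key _ (inv_mem hu')) (key _ (key _ (inv_mem hu')))) (inv_mem hu')
  obtain ⟨l1, l2, rl, el1, el2⟩ := hl.exists_rel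
  have hL3 := ((el2.conjC T.apC).mul (((el1.conjC T.apC).mul (hl.mapF σ)).mapF σ))
  set L3 := T.C * l2 * T.C * mapF σ (T.C * l1 * T.C * mapF σ l)
  have hy3' : y ^ 3 = simAut N8 L3 := by
    rw [T.cube_form rl, show σ * σ * σ = 1 by rw [← pow_two, ← pow_succ, hσ3], fA_one, mul_one]
  obtain ⟨k, hk⟩ := (hpR ⟨y ^ 3, hy3⟩ : ∃ k : ℕ, _)
  have hk' : (y ^ 3) ^ r ^ k = 1 := by simpa using congrArg Subtype.val hk
  obtain ⟨j, hj⟩ : ∃ j, r ^ (2 * k) = 3 * j + 1 := by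
    have h2 : r ^ 2 % 3 = 1 := by
      have h0 : r % 3 ≠ 0 := fun e => hr ((Nat.prime_dvd_prime_iff_eq Nat.prime_three Fact.out).1
        (Nat.dvd_of_mod_eq_zero e)).symm
      rw [Nat.pow_mod]
      have : r % 3 < 3 := Nat.mod_lt _ (by norm_num)
      interval_cases hr' : r % 3
      · simp at h0
      · rfl
      · rfl
    refine ⟨r ^ (2 * k) / 3, ?_⟩
    have : r ^ (2 * k) % 3 = 1 := by simp [pow_mul, Nat.pow_mod (r ^ 2), h2]
    omega
  set y' := y ^ (r ^ (2 * k)) with hy'def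
  have hy'3 : y' ^ 3 = 1 := by
    rw [← pow_mul, mul_comm, pow_mul, two_mul, pow_add, pow_mul, hk', one_pow]
  obtain ⟨lj, Aj, pj, qj, y0, y1, hlj⟩ : ∃ (lj : GO N8) (Aj : M2) (pj qj y0 y1 : F), IsLev lj Aj pj qj y0 y1 ∧
      (simAut N8 lj = simAut N8 L3 ^ j) := by
    have : ∀ j : ℕ, ∃ (lj : GO N8) (Aj : M2) (pj qj y0 y1 : F), IsLev lj Aj pj qj y0 y1 ∧
        (simAut N8 lj = simAut N8 L3 ^ j) := fun j => by
      induction j with
      | zero => exact ⟨1, _, _, _, _, _, isLev_one, by rw [map_one, pow_zero]⟩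
      | succ j ih =>
        obtain ⟨lj, _, _, _, _, _, h, e⟩ := ih
        exact ⟨_, _, _, _, _, _, h.mul hL3, by rw [map_mul, e, pow_succ]⟩
    exact this j
  obtain ⟨hlj, elj⟩ := hlj
  have hy'eq : y' = T.tau * simAut N8 (l * mapF σ lj) * fA σ := by
    rw [hy'def, hj, pow_succ', pow_mul, hy3', ← elj]
    simp only [y]
    rw [mul_assoc (T.tau * simAut N8 l), fA_simAut, map_mul]
    simp only [mul_assoc]
  have hxmem : y' ∈ R ⊔ Subgroup.zpowers x := by
    have hy : y ∈ R ⊔ Subgroup.zpowers x := by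
      rw [eq_mul_inv_of_mul_eq hxy.symm]
      exact mul_mem (le_sup_right (a := R) (Subgroup.mem_zpowers x)) (inv_mem (le_sup_left (b := Subgroup.zpowers x) hu'))
    exact pow_mem hy _
  have hRS : R ≤ sS F := sup_le (sup_le hR2 hR1) sR_le
  have hform : ∀ (z : GO N8), z ∈ Dg N8 4 → T.tau * simAut N8 z * fA σ ≠ 1 := fun z hz e => by
    refine T.tau_not_semi (T.isSemi_iff.2 (Or.inl ?_))
    rw [mul_assoc] at e
    rw [eq_inv_of_mul_eq_one_left e]
    exact inv_mem (mul_mem (simAut_mem_NF hz) (fA_mem_NF σ))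
  have hlD : l * mapF σ lj ∈ Dg N8 4 := (hl.mul (hlj.mapF σ)).inS.mem_Dg
  obtain ⟨n, hn, i, hi⟩ := exists_conj_zpowers hr R hpR (orderOf_eq_prime hx (hform g hg.mem_Dg))
    (orderOf_eq_prime hy'3 (hy'eq ▸ hform _ hlD)) hnx hxmem
  have hnNF : n ∈ NF F := sS_le (hRS hn)
  have hi1 : i % 3 = 1 := by
    let π := QuotientGroup.mk' (NF F)
    have hπ : ∀ z ∈ NF F, π z = 1 := fun z hz => (QuotientGroup.eq_one_iff z).2 hz
    have ex : π x = π T.tau := by
      rw [hxdef, map_mul, map_mul, hπ _ (simAut_mem_NF hg.mem_Dg), hπ _ (fA_mem_NF σ), mul_one, mul_one]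
    have ey : π y' = π T.tau := by
      rw [hy'eq, map_mul, map_mul, hπ _ (simAut_mem_NF hlD), hπ _ (fA_mem_NF σ), mul_one, mul_one]
    have e := congrArg π hi
    rw [map_mul, map_mul, map_inv, map_pow, hπ _ hnNF, one_mul, inv_one, mul_one, ex, ey, ← map_pow] at e
    exact T.pi_tau_ne ((QuotientGroup.eq (s := NF F)).1 e) (mul_inv_cancel_left T.tau (T.tau ^ i))
  refine ⟨n, hnNF, _, _, _, _, _, _, hl.mul (hlj.mapF σ), ?_⟩
  rw [hi, pow_eq_pow_mod i hy'3, hi1, pow_one, hy'eq]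

theorem IsLev.scal {g : GO N8} {A : M2} {p q x0 x1 : F} (h : IsLev g A p q x0 x1) (c : Fˣ) :
    IsLev (scalarGO N8 c * g) A (c * p) (c * q) (c * x0) (c * x1) := by
  refine ⟨h.hA, mul_ne_zero c.ne_zero h.hp, mul_ne_zero c.ne_zero h.hq, mul_ne_zero c.ne_zero h.h0,
    mul_ne_zero c.ne_zero h.h1, fun v => ?_⟩
  have hc : (c : F) ≠ 0 := c.ne_zero
  have h0 := h.h0
  have h1 := h.h1
  rw [Triality.ap_mul, Triality.ap_scalar, h.eq, levV_apply, levV_apply]
  exact ext8 fun i => by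
    fin_cases i <;> simp <;> (try constructor) <;> field_simp <;> ring

theorem IsLev.unsmul {g : GO N8} {A : M2} {s p q x0 x1 : F} (h : IsLev g (s • A) p q x0 x1) :
    IsLev g A (s * p) (s * q) x0 x1 := by
  have hd := h.hA
  rw [Matrix.det_smul, Fintype.card_fin] at hd
  have hs : s ≠ 0 := fun e => hd (by rw [e]; simp)
  refine ⟨right_ne_zero_of_mul hd, mul_ne_zero hs h.hp, mul_ne_zero hs h.hq, h.h0, h.h1, fun v => ?_⟩
  rw [h.eq, levV_apply, levV_apply]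
  exact ext8 fun i => by
    fin_cases i <;> simp [Matrix.det_fin_two] <;> (try constructor) <;> ring

theorem scalar_of_lev {g : GO N8} {A : M2} {q x0 x1 c : F} (h : IsLev g A 1 q x0 x1) (hc : ∀ v, ap g v = c • v) :
    A = c • 1 ∧ x0 = c ∧ q = 1 := by
  have e : ∀ v i, levV A 1 q x0 x1 v i = c * v i := fun v i => by rw [← h.eq, hc]; rfl
  have a00 := e (Pi.single (.inl 2) 1) (.inl 2)
  have a10 := e (Pi.single (.inl 2) 1) (.inl 3)
  have a01 := e (Pi.single (.inl 3) 1) (.inl 2)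
  have a11 := e (Pi.single (.inl 3) 1) (.inl 3)
  have b0 := e (Pi.single (.inl 0) 1) (.inl 0)
  have r3 := e (Pi.single (.inr 3) 1) (.inr 3)
  simp [levV_apply] at a00 a10 a01 a11 b0 r3
  refine ⟨?_, b0, ?_⟩
  · ext i j; fin_cases i <;> fin_cases j <;> simp [a00, a10, a01, a11]
  · refine mul_left_cancel₀ (a := c) (fun e0 => h.hA ?_) (by rw [mul_one, ← a00]; simpa [a00] using r3)
    rw [Matrix.det_fin_two, a00, a01, a11, e0]; simp

theorem exists_cube_conj (h3 : (3 : F) ≠ 0) (A : M2) (hA : A.det ≠ 0) {lam : F}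
    (h : A * A * A = lam • (1 : M2)) : (∃ s : F, A = s • (1 : M2)) ∨
      ∃ (G : M2) (s : F), G.det ≠ 0 ∧ G * A = (s • (ee : M2)) * G := by
  by_cases hs : ∃ s : F, A = s • (1 : M2)
  · exact Or.inl hs
  set T₀ := A 0 0 + A 1 1 with hT
  have hCH : A * A = T₀ • A - A.det • (1 : M2) := by
    ext i j
    fin_cases i <;> fin_cases j <;> simp [T₀, Matrix.mul_apply, Fin.sum_univ_two, Matrix.det_fin_two] <;> ring
  have hT2 : T₀ * T₀ = A.det := by
    have e : (T₀ * T₀ - A.det) • A = (lam + T₀ * A.det) • (1 : M2) := by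
      rw [sub_smul, add_smul, ← h, hCH, Matrix.sub_mul, smul_mul_assoc, hCH, smul_mul_assoc, one_mul]
      module
    by_contra hne
    refine hs ⟨(T₀ * T₀ - A.det)⁻¹ * (lam + T₀ * A.det), ?_⟩
    rw [← smul_smul, ← e, inv_smul_smul₀ (sub_ne_zero.2 hne)]
  have hT0 : T₀ ≠ 0 := fun e => hA (by rw [← hT2, e, mul_zero])
  obtain ⟨v, hv⟩ : ∃ v : Fin 2 → F, v 0 * (A *ᵥ v) 1 - v 1 * (A *ᵥ v) 0 ≠ 0 := by
    by_contra H
    push Not at H
    have e0 := H ![1, 0]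
    have e1 := H ![0, 1]
    have e2 := H ![1, 1]
    simp [Matrix.mulVec, dotProduct, Fin.sum_univ_two] at e0 e1 e2
    refine hs ⟨A 0 0, ?_⟩
    ext i j
    fin_cases i <;> fin_cases j <;> simp <;> grind
  set B : M2 := Matrix.of ![![v 0, -(A *ᵥ v) 0 / T₀], ![v 1, -(A *ᵥ v) 1 / T₀]]
  have hAA : ∀ i, (A *ᵥ (A *ᵥ v)) i = T₀ * (A *ᵥ v) i - T₀ * T₀ * v i := fun i => by
    rw [Matrix.mulVec_mulVec, hCH, hT2]
    simp [Matrix.sub_mulVec, Matrix.smul_mulVec]
    try (fin_cases i <;> simp)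
  have hB : A * B = B * ((-T₀) • (ee : M2)) := by
    have a0 := hAA 0
    have a1 := hAA 1
    simp only [Matrix.mulVec, dotProduct, Fin.sum_univ_two] at a0 a1
    ext i j
    fin_cases i <;> fin_cases j <;>
      simp [B, ee, Matrix.mul_apply, Matrix.mulVec, dotProduct, Fin.sum_univ_two] <;> field_simp <;>
      first | ring1 | linear_combination -a0 | linear_combination -a1 | linear_combination a0 |
        linear_combination a1
  have hdB : B.det ≠ 0 := by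
    have e : B.det * T₀ = -(v 0 * (A *ᵥ v) 1 - v 1 * (A *ᵥ v) 0) := by
      rw [Matrix.det_fin_two]; simp [B]; field_simp; ring
    intro e0
    rw [e0, zero_mul, eq_comm, neg_eq_zero] at e
    exact hv e
  refine Or.inr ⟨B⁻¹, -T₀, ?_, ?_⟩
  · rw [Matrix.det_nonsing_inv, Ring.inverse_eq_inv']; exact inv_ne_zero hdB
  · have hu := isUnit_iff_ne_zero.2 hdB
    calc B⁻¹ * A = B⁻¹ * (A * B) * B⁻¹ := by rw [mul_assoc, Matrix.mul_nonsing_inv_cancel_right _ _ hu]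
      _ = _ := by rw [hB, Matrix.nonsing_inv_mul_cancel_left _ _ hu]

theorem Tri.lev_conj {l : GO N8} {A G : M2} {p q x0 x1 pk qk y0 y1 : F} (hl : IsLev l A p q x0 x1)
    (hG : G.det ≠ 0) (hp : pk ≠ 0) (hq : qk ≠ 0) (h0 : y0 ≠ 0) (h1 : y1 ≠ 0) (σ : F ≃+* F) :
    ∃ (k l' : GO N8), IsLev k G pk qk y0 y1 ∧
      IsLev l' (G * A * (G⁻¹).map σ) (qk / y1 * p * σ pk⁻¹) (qk / y0 * q * σ qk⁻¹)
        (G.det * (qk / y1) * (qk / y0) / 1 * x0 * σ y0⁻¹) (qk / pk * x1 * σ y1⁻¹) ∧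
      simAut N8 k * (T.tau * simAut N8 l * fA σ) * (simAut N8 k)⁻¹ = T.tau * simAut N8 l' * fA σ := by
  obtain ⟨k, hk⟩ := exists_isLev hG hp hq h0 h1
  obtain ⟨k1, k2, rk, e1, -⟩ := hk.exists_rel
  exact ⟨k, _, hk, ((e1.conjC T.apC).mul hl).mul (hk.inv.mapF σ), T.conj_form rk σ⟩

theorem ee_map (σ : F ≃+* F) : (ee : M2).map σ = ee := by
  ext i j; fin_cases i <;> fin_cases j <;> simp [ee]

theorem isLev_tP : IsLev (toGO (tP : Gm F)) (ee : M2) 1 1 1 1 := by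
  refine ⟨by rw [det_ee]; exact one_ne_zero, one_ne_zero, one_ne_zero, one_ne_zero, one_ne_zero, fun v => ?_⟩
  rw [ap_toGO, ← mk_px_py v, gap_tP, levV_apply]
  exact ext8 fun i => by
    fin_cases i <;> simp [mk, px, py, ee, Matrix.mul_apply, Fin.sum_univ_two, Matrix.det_fin_two] <;> ring

include h3 in
/-- Levi elements may be conjugated to standard ones. -/
theorem Tri.exists_standard {l : GO N8} {A : M2} {p q x0 x1 : F} (hl : IsLev l A p q x0 x1) {σ : F ≃+* F}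
    (hσ3 : σ ^ 3 = 1) (hx : (T.tau * simAut N8 l * fA σ) ^ 3 = 1) :
    ∃ n ∈ NF F, n * (T.tau * simAut N8 l * fA σ) * n⁻¹ = T.tau * fA σ ∨
      (σ = 1 ∧ n * (T.tau * simAut N8 l * fA σ) * n⁻¹ = T.tau * theta tP) := by
  have hl := hl.scale_left
  have hq0 := hl.hq
  have hx0 := hl.h0
  have hx1 := hl.h1
  generalize hA' : p • A = A₁ at hl
  generalize hq' : q / p = q₁ at hl hq0
  have hdA : A₁.det ≠ 0 := hl.hA
  have hsss : σ * σ * σ = 1 := by rw [← pow_two, ← pow_succ, hσ3]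
  have cube : ∀ {l : GO N8} {A : M2} {q x0 x1 : F}, IsLev l A 1 q x0 x1 →
      (T.tau * simAut N8 l * fA σ) ^ 3 = 1 →
      ∃ c : F, c ≠ 0 ∧ A * A.map σ * (A.map σ).map σ = (c / σ (q / x1)) • (1 : M2) ∧
        A.det * 1 * (x0 * x1 / (A.det * q)) / x0 *
          (σ (A.det * (q / x1) * (q / x0) / 1) * σ (σ x0)) = c := by
    intro l A q x0 x1 hl hx
    obtain ⟨l1, l2, rl, e1, e2⟩ := hl.exists_rel
    rw [T.cube_form rl] at hx
    obtain ⟨-, c, hc0, hc⟩ := sigma_of_cube hx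
    have hL := (e2.conjC T.apC).mul ((((e1.conjC T.apC).scale_left).mul (hl.mapF σ)).mapF σ)
    rw [map_one, mul_one, map_one, mul_one] at hL
    obtain ⟨eA, e0, -⟩ := scalar_of_lev hL hc
    refine ⟨c, hc0, ?_, ?_⟩
    · have hp : σ (q / x1) ≠ 0 := by simp [hl.hq, hl.h1]
      rw [Matrix.map_mul, show ((q / x1) • A).map σ = σ (q / x1) • A.map σ from
        Matrix.ext fun i j => by simp, smul_mul_assoc, mul_smul_comm] at eA
      rw [div_eq_inv_mul, ← smul_smul, ← eA, inv_smul_smul₀ hp, mul_assoc]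
    · rw [map_mul] at e0
      exact e0
  obtain ⟨c, hc0, eA, -⟩ := cube hl hx
  -- the middle component
  obtain ⟨G, e, s, hG, hee, hGA⟩ : ∃ (G e : M2) (s : F), G.det ≠ 0 ∧
      ((e = 1) ∨ (σ = 1 ∧ e = ee)) ∧ G * A₁ * (G⁻¹).map σ = s • e := by
    by_cases hσ : σ = 1
    · subst hσ
      have hid : ∀ M : M2, M.map ⇑(1 : F ≃+* F) = M := fun M => Matrix.ext fun i j => rfl
      rw [hid, hid] at eA
      rcases exists_cube_conj h3 A₁ hdA eA with ⟨s, hs⟩ | ⟨G, s, hG, hGA⟩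
      · exact ⟨1, 1, s, by simp, Or.inl rfl, by rw [inv_one, hid, hs, one_mul, mul_one]⟩
      · exact ⟨G, ee, s, hG, Or.inr ⟨rfl, rfl⟩, by
          rw [hid, hGA, Matrix.mul_nonsing_inv_cancel_right _ _ (isUnit_iff_ne_zero.2 hG)]⟩
    · set lam := c / σ (q₁ / x1)
      have hlam : lam ≠ 0 := div_ne_zero hc0 (by simp [hq0, hx1])
      have hdm : ∀ M : M2, (M.map σ).det = σ M.det := fun M => (RingHom.map_det (σ : F →+* F) M).symm
      have hs3 : ∀ a, σ (σ (σ a)) = a := fun a => DFunLike.congr_fun hsss a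
      have hdet : A₁.det * σ A₁.det * σ (σ A₁.det) = lam * lam := by
        have := congrArg Matrix.det eA
        rw [Matrix.det_mul, Matrix.det_mul, hdm, hdm, hdm, Matrix.det_smul, Fintype.card_fin, Matrix.det_one,
          mul_one, pow_two] at this
        exact this
      have hfix : σ lam = lam := by
        have hA3 : ((A₁.map σ).map σ).map σ = A₁ := Matrix.ext fun i j => hs3 _
        have e1 : A₁.map σ * (A₁.map σ).map σ * A₁ = σ lam • (1 : M2) := by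
          have h := congrArg (fun M : M2 => M.map σ) eA
          simp only [Matrix.map_mul, hA3] at h
          rw [h]
          exact Matrix.ext fun i j => by simp [Matrix.one_apply, apply_ite σ]
        have e2 : A₁ * (σ lam • (1 : M2)) = lam • A₁ := by
          rw [← e1, ← mul_assoc, ← mul_assoc, eA, smul_mul_assoc, one_mul]
        rw [mul_smul_comm, mul_one] at e2
        by_contra hne
        have : (σ lam - lam) • A₁ = 0 := by rw [sub_smul, e2, sub_self]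
        rw [(smul_eq_zero.1 this).resolve_left (sub_ne_zero.2 hne)] at hdA
        simp at hdA
      set s := lam / A₁.det
      have hs0 : s ≠ 0 := div_ne_zero hlam hdA
      have hNs : s * σ s * σ (σ s) = lam := by
        have h1 : σ A₁.det ≠ 0 := by simpa using hdA
        have h2 : σ (σ A₁.det) ≠ 0 := by simpa using hdA
        simp only [s, map_div₀, hfix]
        clear_value lam
        field_simp
        first | linear_combination hdet | linear_combination -hdet | linear_combination lam * hdet | linear_combination -lam * hdet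
      obtain ⟨m, hm, hm'⟩ := exists_hilbert90 hσ hσ3 (s⁻¹ • A₁) (by
        rw [show (s⁻¹ • A₁).map σ = σ s⁻¹ • A₁.map σ from Matrix.ext fun i j => by simp,
          show (σ s⁻¹ • A₁.map σ).map σ = σ (σ s⁻¹) • (A₁.map σ).map σ from Matrix.ext fun i j => by simp]
        simp only [smul_mul_assoc, mul_smul_comm, smul_smul]
        rw [eA, smul_smul, map_inv₀, map_inv₀, ← hNs]
        have h1 : σ s ≠ 0 := by simpa using hs0
        have h2 : σ (σ s) ≠ 0 := by simpa using hs0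
        field_simp
        rw [one_smul])
      have hu := isUnit_iff_ne_zero.2 hm
      refine ⟨m⁻¹, 1, s, ?_, Or.inl rfl, ?_⟩
      · rw [Matrix.det_nonsing_inv, Ring.inverse_eq_inv']; exact inv_ne_zero hm
      · rw [Matrix.nonsing_inv_nonsing_inv _ hu, mul_assoc, ← inv_smul_eq_iff₀ hs0, ← mul_smul_comm, ← smul_mul_assoc,
          hm', Matrix.nonsing_inv_mul _ hu]
  obtain ⟨k, l', hk, hl', ek⟩ := T.lev_conj hl hG one_ne_zero one_ne_zero one_ne_zero one_ne_zero σ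
  rw [hGA] at hl'
  have hl'' := hl'.unsmul
  have hp' := hl''.hp
  generalize hP : s * (1 / 1 * 1 * σ 1⁻¹) = P at hl'' hp'
  have hlev := hl''.scal (Units.mk0 P hp')⁻¹
  rw [Units.val_inv_eq_inv_val, Units.val_mk0, inv_mul_cancel₀ hp'] at hlev
  have es : simAut N8 (scalarGO N8 (Units.mk0 P hp')⁻¹ * l') = simAut N8 l' := by
    rw [map_mul, Triality.simAut_scalar, one_mul]
  set L := scalarGO N8 (Units.mk0 P hp')⁻¹ * l'
  have he1 : e.det = 1 := by rcases hee with rfl | ⟨-, rfl⟩ <;> simp [det_ee]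
  have hem : e.map σ = e := by
    rcases hee with rfl | ⟨rfl, rfl⟩
    · exact Matrix.map_one σ (map_zero σ) (map_one σ)
    · exact ee_map _
  have hee3 : e * e.map σ * (e.map σ).map σ = 1 := by
    rw [hem, hem]
    rcases hee with rfl | ⟨-, rfl⟩
    · simp
    · exact ee_cube
  generalize hQ : P⁻¹ * (s * (1 / 1 * q₁ * σ 1⁻¹)) = Q at hlev
  generalize hX0 : P⁻¹ * (G.det * (1 / 1) * (1 / 1) / 1 * x0 * σ 1⁻¹) = X0 at hlev
  generalize hX1 : P⁻¹ * (1 / 1 * x1 * σ 1⁻¹) = X1 at hlev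
  have hNk : simAut N8 k ∈ NF F := simAut_mem_NF hk.inS.mem_Dg
  rw [← es] at ek
  have hx' : (T.tau * simAut N8 L * fA σ) ^ 3 = 1 := by
    rw [← ek, conj_pow, hx, mul_one, mul_inv_cancel]
  obtain ⟨c', hc'0, eA', e0'⟩ := cube hlev hx'
  have hQ0 := hlev.hq
  have hX00 := hlev.h0
  have hX10 := hlev.h1
  have hc' : c' = σ (Q / X1) := by
    rw [hee3] at eA'
    have := congrFun (congrFun eA' 0) 0
    simp at this
    have hne : σ Q / σ X1 ≠ 0 := div_ne_zero (by simpa using hQ0) (by simpa using hX10)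
    rw [map_div₀]
    exact ((div_eq_one_iff_eq hne).1 this.symm)
  have hrel : X1 * σ Q * σ (σ X0) = Q * σ X0 := by
    rw [he1, hc'] at e0'
    simp only [map_div₀, map_mul, div_one, one_mul] at e0'
    have h1 : σ Q ≠ 0 := by simpa using hQ0
    have h2 : σ X0 ≠ 0 := by simpa using hX00
    have h3' : σ X1 ≠ 0 := by simpa using hX10
    field_simp at e0'
    linear_combination e0'
  -- the torus component
  set P2 := Q / X0
  set P1 := X1 / Q
  have hP2 : P2 ≠ 0 := div_ne_zero hQ0 hX00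
  have hP1 : P1 ≠ 0 := div_ne_zero hX10 hQ0
  set Q1 := P2⁻¹
  set Q0 := σ Q1 / P1
  have hQ1 : Q1 ≠ 0 := inv_ne_zero hP2
  have hQ0' : Q0 ≠ 0 := div_ne_zero (by simpa using hQ1) hP1
  obtain ⟨k', L', hk', hL', ek'⟩ := T.lev_conj hlev (G := (1 : M2)) (by simp) one_ne_zero hQ0' hQ0'
    (mul_ne_zero hQ0' hQ1) σ
  rw [one_mul, inv_one, Matrix.map_one σ (map_zero σ) (map_one σ), mul_one] at hL'
  have hL'' := hL'.scal (Units.mk0 Q1 hQ1)
  rw [Units.val_mk0] at hL''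
  have es' : simAut N8 (scalarGO N8 (Units.mk0 Q1 hQ1) * L') = simAut N8 L' := by
    rw [map_mul, Triality.simAut_scalar, one_mul]
  set L'' := scalarGO N8 (Units.mk0 Q1 hQ1) * L'
  have hs3 : ∀ a, σ (σ (σ a)) = a := fun a => DFunLike.congr_fun hsss a
  have hkey : σ Q1 = P1 * Q0 := by simp only [Q0]; rw [mul_div_cancel₀ _ hP1]
  have hk0 : σ Q0 = X0 := by
    simp only [Q0, Q1, P1, P2, map_div₀, map_inv₀, inv_div]
    have h1 : σ Q ≠ 0 := by simpa using hQ0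
    have h2 : σ X1 ≠ 0 := by simpa using hX10
    have h4 : σ (σ Q) ≠ 0 := by simpa using hQ0
    have := congrArg σ hrel
    simp only [map_mul, hs3] at this
    field_simp
    linear_combination -this
  have v1 : Q1 * (Q0 / (Q0 * Q1) * 1 * σ 1⁻¹) = 1 := by rw [inv_one, map_one]; field_simp
  have v2 : Q1 * (Q0 / Q0 * Q * σ Q0⁻¹) = 1 := by
    rw [map_inv₀, hk0]; simp only [Q1, P2]; field_simp
  have v3 : Q1 * ((1 : M2).det * (Q0 / (Q0 * Q1)) * (Q0 / Q0) / 1 * X0 * σ Q0⁻¹) = 1 := by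
    rw [map_inv₀, hk0, Matrix.det_one]; field_simp
  have v4 : Q1 * (Q0 / 1 * X1 * σ (Q0 * Q1)⁻¹) = 1 := by
    rw [map_inv₀, map_mul, hk0, hkey]; simp only [Q1, P1, P2]; field_simp
  rw [v1, v2, v3, v4] at hL''
  have hNk' : simAut N8 k' ∈ NF F := simAut_mem_NF hk'.inS.mem_Dg
  refine ⟨simAut N8 k' * simAut N8 k, mul_mem hNk' hNk, ?_⟩
  have hfinal : simAut N8 k' * simAut N8 k * (T.tau * simAut N8 l * fA σ) * (simAut N8 k' * simAut N8 k)⁻¹ =
      T.tau * simAut N8 L'' * fA σ := by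
    rw [show simAut N8 k' * simAut N8 k * (T.tau * simAut N8 l * fA σ) * (simAut N8 k' * simAut N8 k)⁻¹ =
      simAut N8 k' * (simAut N8 k * (T.tau * simAut N8 l * fA σ) * (simAut N8 k)⁻¹) * (simAut N8 k')⁻¹ by group,
      ek, ek', es']
  rcases hee with rfl | ⟨rfl, rfl⟩
  · left
    rw [hfinal, hL''.unique isLev_one, map_one, mul_one]
  · right
    refine ⟨rfl, ?_⟩
    rw [hfinal, hL''.unique isLev_tP, fA_one, mul_one, theta_apply]

include h3 in
/-- The normal form of an element of order three in the triality coset. -/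
theorem Tri.normal_form {r : ℕ} [Fact r.Prime] [CharP F r] (hr : r ≠ 3) {h : GO N8} (hh : h ∈ Dg N8 4)
    {σ : F ≃+* F} (hx : (T.tau * simAut N8 h * fA σ) ^ 3 = 1) :
    σ ^ 3 = 1 ∧ ∃ n ∈ NF F, n * (T.tau * simAut N8 h * fA σ) * n⁻¹ = T.tau * fA σ ∨
      (σ = 1 ∧ n * (T.tau * simAut N8 h * fA σ) * n⁻¹ = T.tau * theta tP) := by
  obtain ⟨hσ3, n1, hn1, g, hg, e1⟩ := T.exists_inS_conj h3 hh hx
  have hx1 : (T.tau * simAut N8 g * fA σ) ^ 3 = 1 := by rw [← e1, conj_pow, hx, mul_one, mul_inv_cancel]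
  obtain ⟨n2, hn2, l, A, p, q, x0, x1, hl, e2⟩ := T.exists_lev_conj hr hg hσ3 hx1
  have hx2 : (T.tau * simAut N8 l * fA σ) ^ 3 = 1 := by rw [← e2, conj_pow, hx1, mul_one, mul_inv_cancel]
  obtain ⟨n3, hn3, h4⟩ := T.exists_standard h3 hl hσ3 hx2
  refine ⟨hσ3, n3 * n2 * n1, mul_mem (mul_mem hn3 hn2) hn1, ?_⟩
  have e : n3 * n2 * n1 * (T.tau * simAut N8 h * fA σ) * (n3 * n2 * n1)⁻¹ =
      n3 * (T.tau * simAut N8 l * fA σ) * n3⁻¹ := by
    rw [← e2, ← e1]; group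
  rwa [e]

end Cfsg.Agent.TrialityBalance
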