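import Cfsg.Agent.Lib.TrialityBalance.Commute

/-!
Local balance at the second class of triality automorphisms.
-/

set_option autoImplicit false
set_option maxHeartbeats 800000

namespace Cfsg.Agent.TrialityBalance

open scoped Matrix MatrixGroups
open Matrix (adjugate det)
open Triality (omul oconj oone ap Rel ext8 N8_apply)
open QForm (plusForm)
open ClassicalSimple (GO simAut scalarGO omegaSub scalarSub)
open AutPO (fieldA fixes_plus mapGO Dg Semi semiA)
open LocalBalance (fixK restrictFix mul_conj)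

universe u

variable {F : Type u} [Field F] [Fintype F]

local notation "I8" => (Fin 4 ⊕ Fin 4)
local notation "V8" => (Fin 4 ⊕ Fin 4 → F)
local notation "N8" => plusForm F 4
local notation "M2" => Matrix (Fin 2) (Fin 2) F

theorem commute_conj {G : Type*} [Group G] (g : G) {a b : G} (h : Commute a b) :
    Commute (g * a * g⁻¹) (g * b * g⁻¹) := h.map (MulAut.conj g).toMonoidHom

theorem rel_inv_mul {h h1 h2 : GO N8} (r : Rel h h1 h2) (T : Tri F) :
    simAut N8 (h * (T.C * h1⁻¹ * T.C)) = simAut N8 h * T.tau⁻¹ * (simAut N8 h)⁻¹ * T.tau := by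
  have e := T.tau_inv_sim r.inv
  rw [map_mul, mul_assoc (simAut N8 h) T.tau⁻¹, ← map_inv (simAut N8) h, e]
  group

theorem mapF_rational (σ : F ≃+* F) {L : GO N8} {b : V8} (hb : σ ∘ b = b) (hL : ∀ x, ap L x = omul b x) :
    mapF σ L = L := Triality.ap_ext fun x => by
  rw [← comp_symm_comp σ x, ap_mapF, hL, hL, ← omul_comp, hb]

theorem commute_lmul {k : Gm F} {L : GO N8} {b : V8} (hk : gap k b = b) (hL : ∀ x, ap L x = omul b x) :
    Commute (theta k) (simAut N8 L) := by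
  show theta k * _ = _ * theta k
  rw [theta_apply, ← map_mul, ← map_mul]
  refine congrArg _ (Triality.ap_ext fun x => ?_)
  rw [Triality.ap_mul, Triality.ap_mul, hL, hL, ap_toGO, ap_toGO, gap_omul, hk]

variable (h3 : (3 : F) ≠ 0)

include h3 in
/-- The second class preserving conjugator. -/
theorem exists_flip : ∃ g : Gm F, g * zP * g⁻¹ = zP⁻¹ ∧ g * tP * g⁻¹ = zP * tP ^ 2 := by
  obtain ⟨k, hk, hke⟩ := exists_kG h3
  set nP : Pair F := ⟨(jG, k), show (jG : GL (Fin 2) F).val.det = k.val.det by rw [hk]; exact det_jj⟩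
  have h1 : (jG : GL (Fin 2) F) * eG * (jG : GL (Fin 2) F)⁻¹ = eG ^ 2 := by
    rw [mul_inv_eq_iff_eq_mul, pow_two]; exact Units.ext jj_ee
  have h2 : Commute k (eG : GL (Fin 2) F) := Units.ext hke
  have hn : ∀ i j : ℕ, pairG nP * (zP ^ i * tP ^ j) * (pairG nP)⁻¹ = zP ^ (2 * i) * tP ^ j := fun i j => by
    rw [← pairG_ePair, ← pairG_ePair, ← map_inv, ← map_mul, ← map_mul]
    congr 1
    refine Subtype.ext ?_
    rw [Subgroup.coe_mul, Subgroup.coe_mul, Subgroup.coe_inv, ePair_val, ePair_val]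
    refine Prod.ext ?_ ?_
    · show jG * eG ^ i * jG⁻¹ = eG ^ (2 * i)
      rw [pow_mul, ← h1, conj_pow]
    · show k * eG ^ j * k⁻¹ = eG ^ j
      rw [(h2.pow_right j).eq, mul_inv_cancel_right]
  have hz : pairG nP * zP * (pairG nP)⁻¹ = zP⁻¹ := by
    have := hn 1 0
    simp only [pow_one, pow_zero, mul_one] at this
    rw [this, eq_inv_iff_mul_eq_one, ← pow_succ, zP_cube]
  refine ⟨pairG nP * gam h3, ?_, ?_⟩
  · rw [show pairG nP * gam h3 * zP * (pairG nP * gam h3)⁻¹ =
      pairG nP * (gam h3 * zP * (gam h3)⁻¹) * (pairG nP)⁻¹ by group, gam_zP h3, hz]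
  · rw [show pairG nP * gam h3 * tP * (pairG nP * gam h3)⁻¹ =
      pairG nP * (gam h3 * tP * (gam h3)⁻¹) * (pairG nP)⁻¹ by group, gam_tP h3, pairG_ePair, hn,
      show 2 * 2 = 3 + 1 from rfl, pow_add, zP_cube, one_mul, pow_one]

variable (T : Tri F)

include h3 in
/-- A group of order prime to three centralising triality and a conjugate of `tP`. -/
theorem Tri.fix_of_line (g : Gm F) (S : Subgroup (Aut8 F)) (hco : (Nat.card S).Coprime 3)
    (hS : ∀ l ∈ S, Commute l T.tau ∧ (∃ h ∈ Dg (plusForm F 4) 4, l = simAut (plusForm F 4) h) ∧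
      Commute l (theta (g * tP * g⁻¹)))
    (hn : ∀ c, ∀ l ∈ S, theta (g * slHom c * g⁻¹) * l * (theta (g * slHom c * g⁻¹))⁻¹ ∈ S)
    {l : Aut8 F} (hl : l ∈ S) : ∃ k : Gm F, l = theta k ∧ ∀ X, gap (g⁻¹ * k * g) (mk X 0) = mk X 0 := by
  set ψ : Gm F →* Aut8 F := theta.comp (MulAut.conj g).toMonoidHom
  have hψ : ∀ y, ψ y = theta (g * y * g⁻¹) := fun y => by
    simp only [ψ, MonoidHom.comp_apply, MulEquiv.coe_toMonoidHom, MulAut.conj_apply]
  have hinj : Function.Injective ψ := fun a b h => by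
    rw [hψ, hψ] at h
    simpa using theta_injective h
  obtain ⟨hc, ⟨h, hh, rfl⟩, -⟩ := hS _ hl
  obtain ⟨k, hk⟩ := T.eq_theta_of_commute hh hc.symm
  refine ⟨k, hk, fun X => fix_quat_of_normalised h3 (S.comap ψ)
    (Nat.Coprime.coprime_dvd_left (Subgroup.card_comap_dvd_of_injective S ψ hinj) hco) (fun m hm => ?_)
    (fun c m hm => ?_) ?_ X⟩
  · refine hinj ?_
    rw [map_mul, map_mul, hψ tP]
    exact (hS _ hm).2.2.eq
  · rw [Subgroup.mem_comap, map_mul, map_mul, map_inv, hψ (slHom c)]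
    exact hn c _ hm
  · rw [Subgroup.mem_comap, hψ, show g * (g⁻¹ * k * g) * g⁻¹ = k by group, ← hk]
    exact hl

include h3 in
theorem fix_line_z (g : Gm F) (hg : g * zP * g⁻¹ = zP ∨ g * zP * g⁻¹ = zP⁻¹) {k : Gm F}
    (hk : ∀ X, gap (g⁻¹ * k * g) (mk X 0) = mk X 0) : Commute k zP := by
  set m := g⁻¹ * k * g
  have hm : Commute m zP := Subtype.ext (Units.ext (Matrix.ext_iff_mulVec.2 fun v => by
    show gap (m * zP) v = gap (zP * m) v
    exact (gap_mul m zP v).trans ((commute_zP (isSOct_gap m) (hk ee) v).trans (gap_mul zP m v).symm)))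
  have hk' : Commute k (g * zP * g⁻¹) := by
    calc k * (g * zP * g⁻¹) = g * (m * zP) * g⁻¹ := by simp only [m]; group
      _ = g * (zP * m) * g⁻¹ := by rw [hm.eq]
      _ = g * zP * g⁻¹ * k := by simp only [m]; group
  rcases hg with h | h <;> rw [h] at hk'
  · exact hk'
  · simpa using hk'.inv_right

theorem Tri.theta_cube {g : Gm F} (h : g ^ 3 = 1) (n : ℕ) : theta g ^ (3 * n) = 1 := by
  rw [pow_mul, ← map_pow, h, map_one, one_pow]

theorem Tri.tau_lmul {L P M : GO N8} (hL : ∀ x, ap L x = omul (mk ee 0) x)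
    (hM : ∀ x, ap M x = omul (oconj (mk ee 0)) x) (r : Rel L P M) :
    simAut N8 L * T.tau * (simAut N8 L)⁻¹ = T.tau * theta zP := by
  have e := T.tau_sim r
  have e1 : simAut N8 (T.C * M * T.C) = simAut N8 L * theta (zP ^ 2) := by
    rw [theta_apply, ← map_mul]
    refine congrArg _ (Triality.ap_ext fun x => ?_)
    rw [Triality.ap_mul, Triality.ap_mul, T.apC, T.apC, hM, Triality.oconj_omul, Triality.oconj_oconj,
      Triality.oconj_oconj, Triality.ap_mul, hL, ap_toGO, pow_two, gap_mul, ← mk_px_py x, gap_zP, gap_zP, omul_mk,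
      omul_mk]
    simp only [Matrix.adjugate_zero, mul_zero, zero_mul, add_zero, zero_add, mul_assoc]
    have h1 : (ee : M2) * (ee * ee) = 1 := by rw [← mul_assoc]; exact ee_cube
    have h2 : adjugate (ee : M2) * adjugate ee = ee := by
      rw [← Matrix.adjugate_mul_distrib]
      ext i j; fin_cases i <;> fin_cases j <;> simp [ee, Matrix.adjugate_fin_two]
    congr 1
    · rw [h2]
      simp only [← mul_assoc]
      rw [ee_cube, one_mul]
    · rw [← mul_assoc (adjugate (ee : M2)), h2]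
      congr 1
      rw [adj_ee]
      ext i j; fin_cases i <;> fin_cases j <;> simp [ee]
  rw [e1] at e
  rw [mul_inv_eq_iff_eq_mul]
  refine mul_right_cancel (b := theta (zP ^ 2)) ?_
  calc simAut N8 L * T.tau * theta (zP ^ 2) = simAut N8 L * theta (zP ^ 2) * T.tau := by
        rw [mul_assoc, (T.tau_theta (zP ^ 2)).eq, ← mul_assoc]
    _ = T.tau * simAut N8 L := e.symm
    _ = T.tau * theta zP * simAut N8 L * theta (zP ^ 2) := by
      rw [mul_assoc T.tau (theta zP), (commute_lmul (k := zP) ?_ hL).eq, ← mul_assoc T.tau,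
        mul_assoc (T.tau * simAut N8 L), ← map_mul, ← pow_succ', zP_cube, map_one, mul_one]
      rw [gap_zP, mul_assoc, mul_adj, det_ee, one_smul, mul_one, zero_mul]

set_option maxHeartbeats 4000000 in
include h3 in
theorem Tri.okubo_lines :
    (∀ l ∈ coreAut (T.tau * theta tP), Commute l T.tau →
      ∃ k : Gm F, l = theta k ∧ ∀ X, gap k (mk X 0) = mk X 0) ∧
    (∀ l ∈ coreAut (T.tau * theta tP), Commute l T.tau → Commute l (theta zP)) ∧
    (∀ l ∈ coreAut (T.tau * theta tP), Commute l (T.tau * theta zP) → Commute l (theta zP)) ∧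
    (∀ l ∈ coreAut (T.tau * theta tP), Commute l (T.tau * theta (zP ^ 2)) → Commute l (theta zP)) ∧
    (∀ k : Gm F, gap k (mk ee 0) = mk ee 0 → theta k ∈ coreAut (T.tau * theta tP) →
      Commute (theta k) (T.tau * theta (zP ^ 2)) → ∀ X, gap ((gam h3)⁻¹ * k * gam h3) (mk X 0) = mk X 0) := by
  classical
  set x := T.tau * theta tP with hx
  set L₀ := coreAut x
  obtain ⟨L, -, P, M, hL, -, -, -, rL, hM⟩ := exists_lmul_ee (F := F)
  set Y := simAut N8 L
  have hY : Y * T.tau * Y⁻¹ = T.tau * theta zP := T.tau_lmul hL hM rL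
  have hez : gap zP (mk (ee : M2) 0) = mk ee 0 := by
    rw [gap_zP, mul_assoc, mul_adj, det_ee, one_smul, mul_one, zero_mul]
  have het : gap tP (mk (ee : M2) 0) = mk ee 0 := by rw [gap_tP, mul_zero]
  have hYz : Commute (theta zP) Y := commute_lmul hez hL
  have hYt : Commute (theta tP) Y := commute_lmul het hL
  have hzt : Commute (theta zP) (theta (tP : Gm F)) := commute_zP_tP.map _
  have hYconj : ∀ w : Aut8 F, Commute w Y → Y * w * Y⁻¹ = w := fun w hw => by
    rw [← hw.eq, mul_inv_cancel_right]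
  have hY' : Y⁻¹ * T.tau * Y = T.tau * theta (zP ^ 2) := by
    have e : T.tau = Y⁻¹ * (T.tau * theta zP) * Y := by rw [← hY]; group
    have hz' : Y⁻¹ * theta zP * Y = theta zP := by rw [mul_assoc, hYz.eq, inv_mul_cancel_left]
    rw [show Y⁻¹ * (T.tau * theta zP) * Y = Y⁻¹ * T.tau * Y * (Y⁻¹ * theta zP * Y) by group, hz',
      eq_comm, ← eq_mul_inv_iff_mul_eq] at e
    rw [e]
    congr 1
    rw [← map_inv]
    congr 1
    rw [inv_eq_iff_mul_eq_one, ← pow_succ', zP_cube]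
  have hline : ∀ (g : Gm F) (Z : Aut8 F), (g * zP * g⁻¹ = zP ∨ g * zP * g⁻¹ = zP⁻¹) →
      (∀ c, Commute (theta (g * slHom c * g⁻¹)) (Z * x * Z⁻¹)) →
      (∀ w : Aut8 F, Commute w T.tau → Commute w (Z * x * Z⁻¹) → Commute w (theta (g * tP * g⁻¹))) →
      (∀ h : GO N8, h ∈ Dg N8 4 → ∃ h' ∈ Dg N8 4, Z * simAut N8 h * Z⁻¹ = simAut N8 h') →
      ∀ l ∈ L₀, Commute (Z * l * Z⁻¹) T.tau →
        ∃ k : Gm F, Z * l * Z⁻¹ = theta k ∧ ∀ X, gap (g⁻¹ * k * g) (mk X 0) = mk X 0 := by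
    intro g Z _ hn hw hD l hl hc
    refine T.fix_of_line h3 g (L₀.map (MulAut.conj Z).toMonoidHom ⊓ Subgroup.centralizer {T.tau}) ?_ ?_ ?_
      ⟨⟨l, hl, rfl⟩, Subgroup.mem_centralizer_singleton_iff.2 hc⟩
    · refine Nat.Coprime.coprime_dvd_left (Subgroup.card_dvd_of_le inf_le_left) ?_
      rw [Subgroup.card_map_of_injective (f := (MulAut.conj Z).toMonoidHom) (MulAut.conj Z).injective]
      exact coprime_coreAut x
    · rintro _ ⟨⟨m, hm, rfl⟩, hmc⟩
      obtain ⟨hmx, h, hh, rfl⟩ := mem_coreAut hm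
      obtain ⟨h', hh', e⟩ := hD h hh
      refine ⟨Subgroup.mem_centralizer_singleton_iff.1 hmc, ⟨h', hh', e⟩, hw _ ?_ ?_⟩
      · exact Subgroup.mem_centralizer_singleton_iff.1 hmc
      · exact hmx.map (MulAut.conj Z).toMonoidHom
    · rintro c _ ⟨⟨m, hm, rfl⟩, hmc⟩
      set u := theta (g * slHom c * g⁻¹)
      refine ⟨⟨Z⁻¹ * u * Z * m * (Z⁻¹ * u * Z)⁻¹, conj_mem_coreAut ?_ hm, ?_⟩,
        Subgroup.mem_centralizer_singleton_iff.2 ?_⟩
      · calc Z⁻¹ * u * Z * x = Z⁻¹ * (u * (Z * x * Z⁻¹)) * Z := by group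
          _ = Z⁻¹ * ((Z * x * Z⁻¹) * u) * Z := by rw [(hn c).eq]
          _ = x * (Z⁻¹ * u * Z) := by group
      · show Z * (Z⁻¹ * u * Z * m * (Z⁻¹ * u * Z)⁻¹) * Z⁻¹ = u * (Z * m * Z⁻¹) * u⁻¹
        group
      · exact ((T.tau_theta _).symm.mul_left (Subgroup.mem_centralizer_singleton_iff.1 hmc)).mul_left
          (T.tau_theta _).symm.inv_left
  have hDY : ∀ h : GO N8, h ∈ Dg N8 4 → ∃ h' ∈ Dg N8 4, Y * simAut N8 h * Y⁻¹ = simAut N8 h' := fun h hh =>
    ⟨L * h * L⁻¹, mul_mem (mul_mem (AutPOmega.TG_le_Dg ⟨_, _, rL⟩) hh) (inv_mem (AutPOmega.TG_le_Dg ⟨_, _, rL⟩)),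
      by rw [map_mul, map_mul, map_inv]⟩
  have hDY' : ∀ h : GO N8, h ∈ Dg N8 4 → ∃ h' ∈ Dg N8 4, Y⁻¹ * simAut N8 h * Y⁻¹⁻¹ = simAut N8 h' := fun h hh =>
    ⟨L⁻¹ * h * L, mul_mem (mul_mem (inv_mem (AutPOmega.TG_le_Dg ⟨_, _, rL⟩)) hh) (AutPOmega.TG_le_Dg ⟨_, _, rL⟩),
      by rw [map_mul, map_mul, map_inv, inv_inv]⟩
  have sq : ∀ (w y : Aut8 F), y ^ 3 = 1 → Commute w (y ^ 2) → Commute w y := fun w y hy hc => by
    have := hc.pow_right 2
    rwa [← pow_mul, show 2 * 2 = 3 + 1 from rfl, pow_add, hy, one_mul, pow_one] at this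
  have hline0 : ∀ l ∈ L₀, Commute l T.tau → ∃ k : Gm F, l = theta k ∧ ∀ X, gap k (mk X 0) = mk X 0 := by
    intro l hl hc
    obtain ⟨k, hk, hf⟩ := hline 1 1 (Or.inl (by group)) (fun c => by
        rw [one_mul, inv_one, mul_one, one_mul, inv_one, mul_one]
        exact (T.tau_theta _).symm.mul_right ((slHom_tP c).map theta))
      (fun w hw hwx => by
        rw [one_mul, inv_one, mul_one] at hwx
        rw [one_mul, inv_one, mul_one]
        have := hw.inv_right.mul_right hwx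
        rwa [hx, inv_mul_cancel_left] at this)
      (fun h hh => ⟨h, hh, by rw [one_mul, inv_one, mul_one]⟩) l hl (by simpa using hc)
    exact ⟨k, by simpa using hk, by simpa using hf⟩
  obtain ⟨g2, hg2z, hg2t⟩ := exists_flip h3 (F := F)
  have hgt : gam h3 * tP * (gam h3)⁻¹ = zP ^ 2 * tP ^ 2 := by rw [gam_tP h3, pairG_ePair]
  have hYx : Y * x * Y⁻¹ = T.tau * theta (zP * tP) := by
    rw [hx, show Y * (T.tau * theta tP) * Y⁻¹ = Y * T.tau * Y⁻¹ * (Y * theta tP * Y⁻¹) by group, hY,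
      hYconj _ hYt, mul_assoc, ← map_mul]
  have hYx' : Y⁻¹ * x * Y⁻¹⁻¹ = T.tau * theta (zP ^ 2 * tP) := by
    rw [hx, inv_inv, show Y⁻¹ * (T.tau * theta tP) * Y = Y⁻¹ * T.tau * Y * (Y⁻¹ * theta tP * Y) by group, hY',
      show Y⁻¹ * theta tP * Y = theta tP by rw [mul_assoc, hYt.eq, inv_mul_cancel_left], mul_assoc, ← map_mul]
  have hsl : ∀ (g : Gm F) (v : Gm F), (g * tP * g⁻¹) ^ 2 = v → ∀ c,
      Commute (theta (g * slHom c * g⁻¹)) (T.tau * theta v) := fun g v hv c => by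
    refine (T.tau_theta _).symm.mul_right (Commute.map ?_ theta)
    rw [← hv]
    exact (commute_conj g (slHom_tP c)).pow_right 2
  have e1 : (gam h3 * tP * (gam h3)⁻¹) ^ 2 = zP * tP := by
    rw [hgt, ((commute_zP_tP (F := F)).pow_pow 2 2).mul_pow, ← pow_mul, ← pow_mul,
      show 2 * 2 = 3 + 1 from rfl, pow_add, pow_add, zP_cube, tP_cube, one_mul, one_mul, pow_one, pow_one]
  have e2 : (g2 * tP * g2⁻¹) ^ 2 = zP ^ 2 * tP := by
    rw [hg2t, ((commute_zP_tP (F := F)).pow_right 2).mul_pow, ← pow_mul, show 2 * 2 = 3 + 1 from rfl,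
      pow_add tP 3, tP_cube, one_mul, pow_one]
  have hw' : ∀ (g v : Gm F), (g * tP * g⁻¹) ^ 2 = v → ∀ w : Aut8 F, Commute w T.tau →
      Commute w (T.tau * theta v) → Commute w (theta (g * tP * g⁻¹)) := fun g v hv w h1 h2 => by
    have := h1.inv_right.mul_right h2
    rw [inv_mul_cancel_left, ← hv, map_pow] at this
    exact sq w _ (by rw [← map_pow, conj_pow, tP_cube, mul_one, mul_inv_cancel, map_one]) this
  have hzall : ∀ l ∈ L₀, Commute l T.tau → Commute l (theta zP) := fun l hl hc => by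
    obtain ⟨k, rfl, hk⟩ := hline0 l hl hc
    exact (fix_line_z h3 1 (Or.inl (by group)) (k := k) (by simpa using hk)).map theta
  have hplus : ∀ l ∈ L₀, Commute l (T.tau * theta (zP ^ 2)) → ∃ k : Gm F, Y * l * Y⁻¹ = theta k ∧
      ∀ X, gap ((gam h3)⁻¹ * k * gam h3) (mk X 0) = mk X 0 := fun l hl hc => by
    refine hline (gam h3) Y (Or.inl (gam_zP h3)) (fun c => hYx ▸ hsl _ _ e1 c)
      (fun w h1 h2 => hw' _ _ e1 w h1 (hYx ▸ h2)) hDY l hl ?_
    have := commute_conj (Y) hc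
    rwa [show Y * (T.tau * theta (zP ^ 2)) * Y⁻¹ = Y * T.tau * Y⁻¹ * (Y * theta (zP ^ 2) * Y⁻¹) by group, hY,
      map_pow, hYconj _ (hYz.pow_left 2), mul_assoc T.tau, ← pow_succ', ← map_pow, zP_cube, map_one, mul_one] at this
  have hminus : ∀ l ∈ L₀, Commute l (T.tau * theta zP) → Commute l (theta zP) := fun l hl hc => by
    obtain ⟨k, hk, hf⟩ := hline g2 Y⁻¹ (Or.inr hg2z) (fun c => hYx' ▸ hsl _ _ e2 c)
      (fun w h1 h2 => hw' _ _ e2 w h1 (hYx' ▸ h2)) hDY' l hl (by
      have := commute_conj (Y⁻¹) hc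
      rwa [show Y⁻¹ * (T.tau * theta zP) * Y⁻¹⁻¹ = Y⁻¹ * T.tau * Y * (Y⁻¹ * theta zP * Y) by group, hY',
        show Y⁻¹ * theta zP * Y = theta zP by rw [mul_assoc, hYz.eq, inv_mul_cancel_left], mul_assoc T.tau, ← map_mul,
        ← pow_succ, zP_cube, map_one, mul_one] at this)
    have hkz := (fix_line_z h3 g2 (Or.inr hg2z) hf).map theta
    rw [← hk] at hkz
    have := commute_conj (Y) hkz
    rwa [show Y * (Y⁻¹ * l * Y⁻¹⁻¹) * Y⁻¹ = l by group, hYconj _ hYz] at this
  have hmid : ∀ l ∈ L₀, Commute l (T.tau * theta (zP ^ 2)) → Commute l (theta zP) := fun l hl hc => by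
    obtain ⟨k, hk, hf⟩ := hplus l hl hc
    have hkz := (fix_line_z h3 (gam h3) (Or.inl (gam_zP h3)) hf).map theta
    rw [← hk] at hkz
    have := commute_conj (Y⁻¹) hkz
    rwa [show Y⁻¹ * (Y * l * Y⁻¹) * Y⁻¹⁻¹ = l by group, inv_inv,
      show Y⁻¹ * theta zP * Y = theta zP by rw [mul_assoc, hYz.eq, inv_mul_cancel_left]] at this
  refine ⟨hline0, hzall, hminus, hmid, fun k he hm hc => ?_⟩
  obtain ⟨k', hk', hf⟩ := hplus _ hm hc
  rw [hYconj _ (commute_lmul he hL)] at hk'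
  obtain rfl : k' = k := (theta_injective hk').symm
  exact hf

include h3 in
theorem Tri.commutator_tP {h h1 h2 : GO (plusForm F 4)} (r : Rel h h1 h2)
    (hz0 : Commute (simAut (plusForm F 4) h) (theta zP)) (v : V8) :
    ap (h * (T.C * h1⁻¹ * T.C)) (gap tP v) = gap tP (ap (h * (T.C * h1⁻¹ * T.C)) v) := by
  have hcm : Commute T.tau (theta (zP : Gm F)) := T.tau_theta zP
  have hzm : mapG (((1 : F ≃+* F) : F →+* F)) (zP : Gm F) = zP := mapG_id zP
  have exact1 : ∀ k : GO N8, Commute (simAut N8 k) (theta zP) → ∀ v, ap k (gap zP v) = gap zP (ap k v) :=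
    fun k hk v => exact_of_commute (h := k) hzm (by rwa [fA_one, mul_one]) zP_cube v
  have hC : ∀ v, ap T.C (gap zP v) = gap zP (ap T.C v) := fun v => by
    rw [T.apC, T.apC, (isSOct_gap zP).map_oconj]
  have hCe : ∀ k : GO N8, (∀ v, ap (T.C * k * T.C) (gap zP v) = gap zP (ap (T.C * k * T.C) v)) →
      ∀ v, ap k (gap zP v) = gap zP (ap k v) := fun k hk v => by
    have e : k = T.C * (T.C * k * T.C) * T.C := by
      rw [← mul_assoc, ← mul_assoc, Triality.conj_mul_self T.apC, one_mul, mul_assoc,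
        Triality.conj_mul_self T.apC, mul_one]
    rw [e, Triality.ap_mul, Triality.ap_mul, hC, hk, hC, ← Triality.ap_mul, ← Triality.ap_mul]
  have eh : ∀ v, ap h (gap zP v) = gap zP (ap h v) := exact1 h hz0
  have eh1 : ∀ v, ap h1 (gap zP v) = gap zP (ap h1 v) := hCe h1 (exact1 _ (by
    have := (hcm.symm.inv_right.mul_right hz0.symm).mul_right hcm.symm
    rw [T.tau_inv_sim r, inv_mul_cancel_right] at this
    exact this.symm))
  have eh2 : ∀ v, ap h2 (gap zP v) = gap zP (ap h2 v) := hCe h2 (exact1 _ (by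
    have := (hcm.symm.mul_right hz0.symm).mul_right hcm.symm.inv_right
    rw [T.tau_sim r, mul_inv_cancel_right] at this
    exact this.symm))
  have hl1 : ∀ v, ap h1⁻¹ (gap zP v) = gap zP (ap h1⁻¹ v) := fun v => by
    conv_lhs => rw [← Triality.ap_inv_ap h1 v, ← eh1, Triality.ap_ap_inv]
  set M₀ := h * (T.C * h1⁻¹ * T.C)
  have hM₀ : ∀ v, ap M₀ (gap zP v) = gap zP (ap M₀ v) := fun v => by
    simp only [M₀, Triality.ap_mul]
    rw [hC, hl1, hC, eh]
  have hk0 : gap tP (ap h2 oone) = ap h2 oone := by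
    obtain ⟨p, q, e⟩ := fix_zP h3 (show gap zP (ap h2 oone) = ap h2 oone by rw [← eh2, gap_oone])
    rw [e, gap_tP, mul_zero]
  have hconj : ∀ w : V8, oconj (gap zP w - w) = -(gap zP w - w) := fun w => by
    have h1' : trF (gap zP w - w) = 0 := by
      have h2' := ((isSOct_gap zP).map_tr_norm w).1
      rw [RingAut.one_apply] at h2'
      have h4 : trF (gap zP w - w) = trF (gap zP w) - trF w := by simp only [trF, Pi.sub_apply]; ring
      rw [h4, h2', sub_self]
    rw [oconj_eq, h1', zero_smul, zero_sub]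
  have hsub : ∀ (g : GO N8) u v, ap g (u - v) = ap g u - ap g v := fun g u v => Matrix.mulVec_sub _ u v
  have hrange : ∀ w : V8, ap M₀ (gap zP w - w) = omul (gap zP w - w) (ap h2 oone) := fun w => by
    simp only [M₀, Triality.ap_mul, T.apC]
    have e1' : ap h1⁻¹ (gap zP w - w) = gap zP (ap h1⁻¹ w) - ap h1⁻¹ w := by rw [hsub, hl1]
    have hneg : ∀ (g : GO N8) u, ap g (-u) = -ap g u := fun g u => Matrix.mulVec_neg u g.1.val
    have hcneg : ∀ u : V8, oconj (-u) = -oconj u := fun u => ext8 fun i => by fin_cases i <;> simp [oconj]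
    rw [hconj, hneg, e1', hcneg, hconj, neg_neg, ← e1']
    conv_lhs => rw [← Triality.omul_oone (ap h1⁻¹ (gap zP w - w))]
    rw [r, Triality.ap_inv_ap]
  suffices hMt : ∀ v, ap M₀ (gap tP v) = gap tP (ap M₀ v) from hMt v
  intro v
  have hrt : ∀ w : V8, ap M₀ (gap tP (gap zP w - w)) = gap tP (ap M₀ (gap zP w - w)) := fun w => by
    have e : gap tP (gap zP w - w) = gap zP (gap tP w) - gap tP w := by
      rw [(isSOct_gap tP).sub, ← gap_mul, ← gap_mul, commute_zP_tP.symm.eq]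
    rw [e, hrange, hrange, gap_omul, hk0, e]
  have hft : ∀ d : V8, gap zP d = d → ap M₀ (gap tP d) = gap tP (ap M₀ d) := fun d hd => by
    obtain ⟨p, q, rfl⟩ := fix_zP h3 hd
    obtain ⟨p', q', e⟩ := fix_zP h3 (show gap zP (ap M₀ (mk (p • 1 + q • ee) 0)) = ap M₀ (mk (p • 1 + q • ee) 0) by
      rw [← hM₀, hd])
    rw [gap_tP, mul_zero, e, gap_tP, mul_zero]
  have e : (3 : F) • v = (v + gap zP v + gap zP (gap zP v)) - (gap zP v - v) -
      ((gap zP (gap zP v) - gap zP v) + (gap zP v - v)) := by module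
  have hfix : gap zP (v + gap zP v + gap zP (gap zP v)) = v + gap zP v + gap zP (gap zP v) := by
    rw [gap_add, gap_add, ← gap_mul zP zP (gap zP v), ← gap_mul (zP * zP) zP v, ← pow_two, ← pow_succ, zP_cube,
      gap_one]
    abel
  have hfv : ∀ u, ap M₀ (gap tP u) = gap tP (ap M₀ u) → ∀ w, ap M₀ (gap tP w) = gap tP (ap M₀ w) →
      ap M₀ (gap tP (u - w)) = gap tP (ap M₀ (u - w)) := fun u hu w hw => by
    rw [(isSOct_gap tP).sub, hsub, hsub, (isSOct_gap tP).sub, hu, hw]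
  have hfa : ∀ u, ap M₀ (gap tP u) = gap tP (ap M₀ u) → ∀ w, ap M₀ (gap tP w) = gap tP (ap M₀ w) →
      ap M₀ (gap tP (u + w)) = gap tP (ap M₀ (u + w)) := fun u hu w hw => by
    rw [gap_add, show ap M₀ (u + w) = ap M₀ u + ap M₀ w from Matrix.mulVec_add _ u w, gap_add, ← hu, ← hw]
    exact Matrix.mulVec_add _ _ _
  have h3v := hfv _ (hfv _ (hft _ hfix) _ (hrt v)) _ (hfa _ (hrt (gap zP v)) _ (hrt v))
  rw [← e, gap_smul, Triality.ap_smul, Triality.ap_smul, gap_smul] at h3v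
  exact smul_right_injective V8 h3 h3v

theorem cyclic_lines {G : Type*} [Group G] [Finite G] (L : Subgroup G) (hL : (Nat.card L).Coprime 3) {a b : G}
    (ha : a ^ 3 = 1) (hb : b ^ 3 = 1) (hb1 : b ≠ 1) (hab : Commute a b) (hne : a ∉ Subgroup.zpowers b)
    (hna : ∀ l ∈ L, a * l * a⁻¹ ∈ L) (hnb : ∀ l ∈ L, b * l * b⁻¹ ∈ L)
    (c0 : ∀ l ∈ L, Commute l a → Commute l b) (c1 : ∀ l ∈ L, Commute l (a * b) → Commute l b)
    (c2 : ∀ l ∈ L, Commute l (a * b ^ 2) → Commute l b) : ∀ l ∈ L, Commute l b := by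
  haveI : Fact (Nat.Prime 3) := ⟨Nat.prime_three⟩
  set A := Subgroup.closure {a, b}
  have hmemA : ∀ y ∈ A, ∃ i j : ℕ, i < 3 ∧ j < 3 ∧ y = a ^ i * b ^ j := by
    intro y hy
    refine Subgroup.closure_induction (p := fun y _ => ∃ i j : ℕ, i < 3 ∧ j < 3 ∧ y = a ^ i * b ^ j)
      ?_ ?_ ?_ ?_ hy
    · rintro x (rfl | rfl)
      exacts [⟨1, 0, by omega, by omega, by simp⟩, ⟨0, 1, by omega, by omega, by simp⟩]
    · exact ⟨0, 0, by omega, by omega, by simp⟩
    · rintro _ _ - - ⟨i, j, -, -, rfl⟩ ⟨i', j', -, -, rfl⟩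
      refine ⟨(i + i') % 3, (j + j') % 3, Nat.mod_lt _ (by omega), Nat.mod_lt _ (by omega), ?_⟩
      rw [← pow_eq_pow_mod _ ha, ← pow_eq_pow_mod _ hb, pow_add, pow_add,
        (hab.pow_pow i' j).symm.mul_mul_mul_comm]
    · rintro _ - ⟨i, j, -, -, rfl⟩
      refine ⟨(2 * i) % 3, (2 * j) % 3, Nat.mod_lt _ (by omega), Nat.mod_lt _ (by omega), ?_⟩
      rw [← pow_eq_pow_mod _ ha, ← pow_eq_pow_mod _ hb, inv_eq_iff_mul_eq_one,
        (hab.pow_pow (2 * i) j).symm.mul_mul_mul_comm, ← pow_add, ← pow_add,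
        show i + 2 * i = 3 * i by ring, show j + 2 * j = 3 * j by ring, pow_mul, pow_mul, ha, hb,
        one_pow, one_pow, mul_one]
  haveI : IsMulCommutative A := ⟨⟨fun y z => by
    obtain ⟨i, j, -, -, hy⟩ := hmemA y y.2
    obtain ⟨i', j', -, -, hz⟩ := hmemA z z.2
    refine Subtype.ext ?_
    rw [Subgroup.coe_mul, Subgroup.coe_mul, hy, hz]
    exact ((((Commute.refl _).pow_pow i i').mul_right (hab.pow_pow i j')).mul_left
      ((hab.symm.pow_pow j i').mul_right ((Commute.refl _).pow_pow j j'))).eq⟩⟩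
  have hcub : ∀ y : A, y ^ 3 = 1 := fun y => by
    obtain ⟨i, j, -, -, hy⟩ := hmemA y y.2
    refine Subtype.ext ?_
    rw [SubmonoidClass.coe_pow, hy, (hab.pow_pow i j).mul_pow, ← pow_mul, ← pow_mul, mul_comm i,
      mul_comm j, pow_mul, pow_mul, ha, hb, one_pow, one_pow, mul_one]
    rfl
  have hnc : ¬ IsCyclic A := fun hcyc => by
    let bA : A := ⟨b, Subgroup.subset_closure (Or.inr rfl)⟩
    let aA : A := ⟨a, Subgroup.subset_closure (Or.inl rfl)⟩
    have hb1' : bA ≠ 1 := fun e => hb1 (congrArg Subtype.val e)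
    obtain ⟨g, hg⟩ := hcyc.exists_generator
    obtain ⟨m, hm⟩ := Subgroup.mem_zpowers_iff.1 (hg bA)
    have hg1 : g ≠ 1 := fun e => hb1' (by rw [← hm, e, one_zpow])
    have htop : Subgroup.zpowers bA = ⊤ := by
      refine Subgroup.eq_top_of_card_eq _ ?_
      rw [Nat.card_zpowers, orderOf_eq_prime (hcub bA) hb1', ← orderOf_eq_card_of_forall_mem_zpowers hg,
        orderOf_eq_prime (hcub g) hg1]
    obtain ⟨n, hn⟩ := Subgroup.mem_zpowers_iff.1 (htop.ge (Subgroup.mem_top aA))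
    exact hne ⟨n, (SubgroupClass.coe_zpow _ _).symm.trans (congrArg Subtype.val hn)⟩
  have hcop : (Nat.card A).Coprime (Nat.card L) := by
    obtain ⟨n, hn⟩ := IsPGroup.iff_card.1 (show IsPGroup 3 A from fun y => ⟨1, by rw [pow_one]; exact hcub y⟩)
    rw [hn]
    exact hL.symm.pow_left n
  have hAN : A ≤ Subgroup.normalizer (L : Set G) := by
    have key : ∀ y : G, (∀ l ∈ L, y * l * y⁻¹ ∈ L) → y ∈ Subgroup.normalizer (L : Set G) := fun y hy =>
      Subgroup.mem_normalizer_iff.2 fun l => ⟨hy l, fun h => by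
        have hbij : Function.Bijective (fun z : L => (⟨y * z * y⁻¹, hy z z.2⟩ : L)) :=
          Finite.injective_iff_bijective.1 fun z z' e => Subtype.ext (by simpa using congrArg Subtype.val e)
        obtain ⟨z, hz⟩ := hbij.2 ⟨_, h⟩
        have : (z : G) = l := by simpa using congrArg Subtype.val hz
        exact this ▸ z.2⟩
    refine (Subgroup.closure_le _).2 ?_
    rintro y (rfl | rfl)
    exacts [key _ hna, key _ hnb]
  have sq : ∀ (w y : G), y ^ 3 = 1 → Commute w (y ^ 2) → Commute w y := fun w y hy hc => by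
    have := hc.pow_right 2
    rwa [← pow_mul, show 2 * 2 = 3 + 1 from rfl, pow_add, hy, one_mul, pow_one] at this
  have h := Coprime.eq_of_forall_centralizer_le (S := L ⊓ Subgroup.centralizer {b}) hnc hAN
    hcop inf_le_left fun y hy hy1 l hl => by
    obtain ⟨hlL, hla⟩ := hl
    refine ⟨hlL, ?_⟩
    show l ∈ Subgroup.centralizer {b}
    rw [Subgroup.mem_centralizer_singleton_iff]
    replace hla : Commute l y := Subgroup.mem_centralizer_singleton_iff.1 hla
    obtain ⟨i, j, hi, hj, rfl⟩ := hmemA y hy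
    have c22 : (a * b ^ 2) ^ 2 = a ^ 2 * b := by
      rw [(hab.pow_right 2).mul_pow, ← pow_mul, show 2 * 2 = 3 + 1 from rfl, pow_add, hb, one_mul, pow_one]
    have c21 : (a * b) ^ 2 = a ^ 2 * b ^ 2 := hab.mul_pow 2
    have cube : ∀ z : G, Commute a z → z ^ 3 = 1 → (a * z) ^ 3 = 1 := fun z hz hz3 => by
      rw [hz.mul_pow, ha, hz3, one_mul]
    have hb23 : (b ^ 2) ^ 3 = 1 := by rw [← pow_mul, mul_comm, pow_mul, hb, one_pow]
    interval_cases i <;> interval_cases j <;> (try simp only [pow_zero, pow_one, one_mul, mul_one] at hla hy1)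
    · exact absurd rfl hy1
    · exact hla
    · exact sq _ _ hb hla
    · exact c0 l hlL hla
    · exact c1 l hlL hla
    · exact c2 l hlL hla
    · exact c0 l hlL (sq _ _ ha hla)
    · exact c2 l hlL (sq _ _ (cube _ (hab.pow_right 2) hb23) (by rw [c22]; exact hla))
    · exact c1 l hlL (sq _ _ (cube _ hab hb) (by rw [c21]; exact hla))
  exact fun l hl => Subgroup.mem_centralizer_singleton_iff.1 (h.ge hl).2

include h3 in
theorem Tri.core_okubo : Cfsg.pPrimeCore 3 ↥(fixK (T.tau * theta tP)) = ⊥ := by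
  refine core_eq_bot_of_coreAut ?_
  obtain ⟨hline0, hzall, hminus, hmid, hplus⟩ := T.okubo_lines h3
  set x := T.tau * theta tP with hx
  have hcm : Commute T.tau (theta (zP : Gm F)) := T.tau_theta zP
  have hτx : Commute T.tau x := (Commute.refl T.tau).mul_right (T.tau_theta tP)
  have hzx : Commute (theta (zP : Gm F)) x := hcm.symm.mul_right ((commute_zP_tP (F := F)).map theta)
  have htx : Commute (theta (tP : Gm F)) x := (T.tau_theta tP).symm.mul_right (Commute.refl _)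
  have hz3 : theta (zP : Gm F) ^ 3 = 1 := by rw [← map_pow, zP_cube, map_one]
  have hcentral : ∀ l ∈ coreAut x, Commute l (theta zP) := by
    refine cyclic_lines _ (coprime_coreAut x) T.tau_cube hz3 ?_ hcm ?_
      (fun l hl => conj_mem_coreAut hτx hl) (fun l hl => conj_mem_coreAut hzx hl) hzall hminus
      (fun l hl h => hmid l hl (by rwa [map_pow]))
    · intro e
      rw [← map_one (theta (F := F))] at e
      have := congrArg (fun g => gap g (mk (0 : M2) 1) (Sum.inl 3)) (theta_injective e)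
      simp only [gap_zP, gap_one] at this
      simp [mk, ee, Matrix.adjugate_fin_two] at this
    · intro hm
      refine T.tau_not_semi (T.isSemi_iff.2 (Or.inl (Subgroup.zpowers_le.2 ?_ hm)))
      exact simAut_mem_NF (toGO_mem_Dg zP)
  have hfpf : ∀ l ∈ coreAut x, Commute l (theta tP) → l = 1 := fun l hl hc => by
    have hlτ : Commute l T.tau := by
      have := (mem_coreAut hl).1.mul_right hc.inv_right
      rwa [hx, mul_inv_cancel_right] at this
    obtain ⟨k, rfl, hk⟩ := hline0 l hl hlτ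
    have hf := hplus k (hk ee) hl (hlτ.mul_right (by
      rw [map_pow]; exact (hcentral _ hl).pow_right 2))
    refine (congrArg theta (gap_ext fun X₀ Y₀ => ?_)).trans (map_one _)
    rw [gap_one]
    refine eq_id_of_fix h3 (isSOct_gap k) hk (fun X => ?_) _
    have := congrArg (gap (gam h3)) (hf X)
    rwa [← gap_mul, ← mul_assoc, ← mul_assoc, mul_inv_cancel, one_mul, gap_mul] at this
  refine eq_bot_iff.2 fun l hl => Subgroup.mem_bot.2 (hfpf l hl ?_)
  obtain ⟨hlx, h, hh, rfl⟩ := mem_coreAut hl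
  obtain ⟨h1, h2, r⟩ := exists_triple hh
  have hMt := T.commutator_tP h3 r (hcentral _ hl)
  set M₀ := h * (T.C * h1⁻¹ * T.C)
  set l := simAut N8 h
  have hm : simAut N8 M₀ = l * theta tP * l⁻¹ * (theta tP)⁻¹ := by
    rw [rel_inv_mul r T]
    have e : theta (tP : Gm F) = T.tau⁻¹ * x := by rw [hx, inv_mul_cancel_left]
    rw [e, mul_inv_rev, inv_inv, show l * (T.tau⁻¹ * x) * l⁻¹ = l * T.tau⁻¹ * l⁻¹ * (l * x * l⁻¹) by group,
      hlx.eq, mul_inv_cancel_right]
    simp only [l]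
    group
  have hmc : Commute (l * theta tP * l⁻¹ * (theta tP)⁻¹) (theta tP) := by
    rw [← hm]
    show _ * _ = _ * _
    rw [theta_apply, ← map_mul, ← map_mul]
    exact congrArg _ (Triality.ap_ext fun v => (Triality.ap_mul M₀ (toGO tP) v).trans ((congrArg (ap M₀) (ap_toGO tP v)).trans
      ((hMt v).trans ((ap_toGO tP _).symm.trans (Triality.ap_mul (toGO tP) M₀ v).symm))))
  have hmem : l * theta tP * l⁻¹ * (theta tP)⁻¹ ∈ coreAut x := by
    rw [mul_assoc l, mul_assoc l]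
    refine (coreAut x).mul_mem hl ?_
    exact conj_mem_coreAut htx ((coreAut x).inv_mem hl)
  have h1' := hfpf _ hmem hmc
  rw [mul_inv_eq_one, mul_inv_eq_iff_eq_mul] at h1'
  exact h1'

include h3 in
theorem Tri.fix_okubo {a : Aut8 F} (ha : Commute a (T.tau * theta tP))
    (hfix : ∀ k ∈ fixK (T.tau * theta tP), a k = k) (hco : (orderOf a).Coprime 3) : a = 1 := by
  obtain ⟨L, -, P, M, hL, -, -, -, rL, hM⟩ := exists_lmul_ee (F := F)
  set Y := simAut N8 L
  have hY : Y * T.tau * Y⁻¹ = T.tau * theta zP := T.tau_lmul hL hM rL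
  have het : gap tP (mk (ee : M2) 0) = mk ee 0 := by rw [gap_tP, mul_zero]
  have ht : Commute a (theta tP) := commute_of_fix hfix (theta_cube_inner tP_cube)
    ((T.tau_theta tP).symm.mul_right (Commute.refl _))
  have hτ : Commute a T.tau := by
    have := ha.mul_right ht.inv_right
    rwa [mul_inv_cancel_right] at this
  obtain ⟨g, σ, rfl⟩ := T.NF_theta
    (T.mem_NF (x := T.tau * theta tP) (by rw [inv_mul_cancel_left]; exact simAut_mem_NF (toGO_mem_Dg tP)) ha hco) hτ
  have hz : Commute (theta g * fA σ) (theta zP) := commute_of_fix hfix (theta_cube_inner zP_cube)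
    ((T.tau_theta zP).symm.mul_right ((commute_zP_tP (F := F)).map theta))
  refine eq_one_of_commutes h3 fun k hk => ?_
  rcases hk with (rfl | rfl | rfl) | ⟨b, rfl⟩
  · exact ht
  · exact hz
  · set u := gam h3 * lG (uG 1) (det_uG 1) * (gam h3)⁻¹
    have hY' : Commute (theta g * fA σ) Y := by
      refine Commute.mul_left (commute_lmul ?_ hL) ?_
      · have ez := theta_exact hz
        rw [mapG_zP] at ez
        exact map_ee h3 (isSOct_gap g) fun v => by rw [← gap_mul, ez, gap_mul]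
      · show fA σ * Y = Y * fA σ
        rw [fA_simAut, mapF_rational σ (b := mk ee 0) ?_ hL]
        exact ext8 fun i => by fin_cases i <;> simp [mk, ee]
    obtain ⟨k0, hk0⟩ := theta_conj_inner (w := gam h3) (theta_lU_inner (F := F) 1)
    have hYu : ∃ k, MulAut.conj k = Y⁻¹ * theta u * Y :=
      ⟨Y⁻¹ k0, by rw [← hk0, mul_conj, mul_assoc, inv_mul_cancel, mul_one]⟩
    have hc : Commute (theta g * fA σ) (Y⁻¹ * theta u * Y) := by
      refine commute_of_fix hfix hYu ?_
      have hYx : Y * (T.tau * theta tP) * Y⁻¹ = T.tau * theta (zP * tP) := by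
        rw [show Y * (T.tau * theta tP) * Y⁻¹ = Y * T.tau * Y⁻¹ * (Y * theta tP * Y⁻¹) by group, hY,
          ← (commute_lmul het hL).eq, mul_inv_cancel_right, mul_assoc, ← map_mul]
      have hu : Commute (theta u) (T.tau * theta (zP * tP)) := by
        refine (T.tau_theta _).symm.mul_right (Commute.map ?_ theta)
        have e1 : zP * tP = (gam h3 * tP * (gam h3)⁻¹) ^ 2 := by
          rw [gam_tP h3, pairG_ePair, ((commute_zP_tP (F := F)).pow_pow 2 2).mul_pow, ← pow_mul, ← pow_mul,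
            show 2 * 2 = 3 + 1 from rfl, pow_add, pow_add, zP_cube, tP_cube, one_mul, one_mul, pow_one, pow_one]
        rw [e1]
        refine (commute_conj (gam h3) ?_).pow_right 2
        rw [← slHom_eq]
        exact slHom_tP _
      calc Y⁻¹ * theta u * Y * (T.tau * theta tP)
          = Y⁻¹ * (theta u * (Y * (T.tau * theta tP) * Y⁻¹)) * Y := by group
        _ = Y⁻¹ * ((Y * (T.tau * theta tP) * Y⁻¹) * theta u) * Y := by rw [hYx, hu.eq]
        _ = _ := by group
    have h5 := (hY'.mul_right hc).mul_right hY'.inv_right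
    rwa [show Y * (Y⁻¹ * theta u * Y) * Y⁻¹ = theta u by group] at h5
  · refine commute_of_fix hfix (theta_lU_inner b) ?_
    refine (T.tau_theta _).symm.mul_right (Commute.map ?_ theta)
    dsimp only
    rw [← slHom_eq]
    exact slHom_tP _

end Cfsg.Agent.TrialityBalance
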