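import Cfsg.Agent.Lib.TrialityBalance.Chevalley
import Cfsg.Agent.Lib.TrialityBalance.FieldTriality
import Cfsg.Agent.Lib.QForm.Transitive

/-!
A point fixed by a triality automorphism of order three, and the transitivity on incident triples.
-/

set_option autoImplicit false
set_option maxHeartbeats 800000

namespace Cfsg.Agent.TrialityBalance

open scoped Matrix MatrixGroups
open Matrix (adjugate det)
open Triality (omul oconj oone ap Rel ext8 N8_apply)
open QForm (plusForm)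
open ClassicalSimple (GO simAut scalarGO omegaSub scalarSub)
open AutPO (fieldA fixes_plus mapGO Dg Semi semiA)
open LocalBalance (fixK restrictFix mul_conj)

universe u

variable {F : Type u} [Field F] [Fintype F]

local notation "I8" => (Fin 4 ⊕ Fin 4)
local notation "V8" => (Fin 4 ⊕ Fin 4 → F)
local notation "N8" => plusForm F 4
local notation "M2" => Matrix (Fin 2) (Fin 2) F

/-- The base singular point. -/
abbrev aZ : V8 := Pi.single (Sum.inl 1) 1

theorem omul_zero_left (v : V8) : omul 0 v = 0 := by simpa using Triality.omul_smul_left (0 : F) 0 v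

theorem omul_zero_right (v : V8) : omul v 0 = 0 := by simpa using Triality.omul_smul_right (0 : F) v 0

theorem oconj_smul (c : F) (v : V8) : oconj (c • v) = c • oconj v :=
  ext8 fun i => by fin_cases i <;> simp [oconj]

theorem oconj_add (u v : V8) : oconj (u + v) = oconj u + oconj v :=
  ext8 fun i => by fin_cases i <;> simp [oconj, add_comm]

theorem oconj_comp (σ : F ≃+* F) (v : V8) : σ ∘ oconj v = oconj (σ ∘ v) :=
  ext8 fun i => by fin_cases i <;> simp [oconj]

theorem oconj_zero : oconj (0 : V8) = 0 := by simpa using oconj_smul (0 : F) 0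

theorem ap_add (g : GO N8) (u v : V8) : ap g (u + v) = ap g u + ap g v := Matrix.mulVec_add _ _ _

theorem ap_zero (g : GO N8) : ap g 0 = 0 := Matrix.mulVec_zero _

theorem ap_eq_zero {g : GO N8} {v : V8} (h : ap g v = 0) : v = 0 := by
  rw [← Triality.ap_ap_inv g v, h, ap_zero]

theorem comp_add (σ : F ≃+* F) (u v : V8) : σ ∘ (u + v) = σ ∘ u + σ ∘ v := funext fun _ => map_add σ _ _

theorem comp_smul (σ : F ≃+* F) (c : F) (v : V8) : σ ∘ (c • v) = σ c • (σ ∘ v) := funext fun _ => map_mul σ _ _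

variable {h h1 h2 : GO (plusForm F 4)} {σ : F ≃+* F}

/-- The first semilinear map of a triality automorphism. -/
def gMap (h : GO (plusForm F 4)) (σ : F ≃+* F) (v : V8) : V8 := oconj (ap h (σ ∘ v))

/-- The second semilinear map of a triality automorphism. -/
def bMap (h h1 : GO (plusForm F 4)) (σ : F ≃+* F) (v : V8) : V8 := ap h1 (σ ∘ gMap h σ v)

theorem gMap_eq_zero {v : V8} (e : gMap h σ v = 0) : v = 0 := by
  have := congrArg oconj e
  rw [gMap, Triality.oconj_oconj, oconj_zero] at this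
  exact funext fun i => σ.injective ((congrFun (ap_eq_zero this) i).trans (map_zero σ).symm)

theorem bMap_eq_zero {v : V8} (e : bMap h h1 σ v = 0) : v = 0 :=
  gMap_eq_zero (funext fun i => σ.injective ((congrFun (ap_eq_zero e) i).trans (map_zero σ).symm))

theorem gMap_add (u v : V8) : gMap h σ (u + v) = gMap h σ u + gMap h σ v := by
  rw [gMap, comp_add, ap_add, oconj_add]; rfl

theorem bMap_add (u v : V8) : bMap h h1 σ (u + v) = bMap h h1 σ u + bMap h h1 σ v := by
  rw [bMap, gMap_add, comp_add, ap_add]; rfl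

theorem gMap_smul (c : F) (v : V8) : gMap h σ (c • v) = σ c • gMap h σ v := by
  rw [gMap, comp_smul, Triality.ap_smul, oconj_smul]; rfl

theorem bMap_smul (c : F) (v : V8) : bMap h h1 σ (c • v) = σ (σ c) • bMap h h1 σ v := by
  rw [bMap, gMap_smul, comp_smul, Triality.ap_smul]; rfl

theorem N8_gMap {v : V8} (hv : N8 v = 0) : N8 (gMap h σ v) = 0 := by
  obtain ⟨c, -, hc⟩ := Triality.exists_mult h
  rw [gMap, Triality.N8_oconj, hc, show N8 (σ ∘ v) = σ (N8 v) from fixes_plus σ v, hv, map_zero, mul_zero]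

/-- The square of the twisted product, and the incidences of a fixed point. -/
theorem exists_fixed_point (r : Rel h h1 h2) {μ : F} (hK : ∀ v, ap h2 (σ ∘ bMap h h1 σ v) = μ • oconj v)
    (hμ : μ ≠ 0) :
    ∃ a : V8, a ≠ 0 ∧ N8 a = 0 ∧ omul (gMap h σ a) (bMap h h1 σ a) = 0 ∧
      omul (oconj (gMap h σ a)) a = 0 ∧ omul a (oconj (bMap h h1 σ a)) = 0 := by
  classical
  obtain ⟨C, hC⟩ := Triality.exists_conjGO (F := F)
  obtain ⟨c, rs⟩ := r.swap hC
  have hG : ∀ a, gMap h σ (omul (gMap h σ a) (bMap h h1 σ a)) = μ • omul a (oconj (bMap h h1 σ a)) := fun a => by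
    rw [gMap, ← omul_comp, r, hK,
      show ap h1 (σ ∘ gMap h σ a) = bMap h h1 σ a from rfl, Triality.omul_smul_right, oconj_smul,
      Triality.oconj_omul, Triality.oconj_oconj]
  have hB : ∀ a, bMap h h1 σ (omul (gMap h σ a) (bMap h h1 σ a)) =
      (σ μ * ((c : F)⁻¹ * μ)) • omul (oconj (gMap h σ a)) a := fun a => by
    have e1 : ∀ x w, ap h1 (omul x w) = (c : F)⁻¹ • omul (ap h x) (oconj (ap h2 (oconj w))) := fun x w => by
      have := rs x w
      rw [Triality.ap_mul, Triality.ap_scalar, Triality.ap_mul, Triality.ap_mul, hC, hC] at this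
      rw [← this, inv_smul_smul₀ c.ne_zero]
    rw [bMap, hG, comp_smul, Triality.ap_smul, ← omul_comp, e1, oconj_comp, Triality.oconj_oconj, hK,
      oconj_smul, Triality.oconj_oconj, Triality.omul_smul_right,
      show ap h (σ ∘ a) = oconj (gMap h σ a) by rw [gMap, Triality.oconj_oconj], smul_smul, smul_smul, mul_assoc]
  obtain ⟨a, ha, hNa, hta⟩ : ∃ a : V8, a ≠ 0 ∧ N8 a = 0 ∧
      QuadraticMap.polar ⇑N8 a (omul (gMap h σ a) (bMap h h1 σ a)) = 0 := by
    set K := fixFld σ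
    haveI : Fintype K := Fintype.ofFinite K
    have hfix : ∀ t : K, σ (t : F) = t := fun t => fixFld_fix t
    let β : V8 →ₗ[K] V8 →ₗ[K] F := LinearMap.mk₂ K
      (fun a a' => a (.inl 0) * a' (.inr 0) + a (.inl 1) * a' (.inr 1) + a (.inl 2) * a' (.inr 2) +
        a (.inl 3) * a' (.inr 3))
      (fun a b a' => by simp only [Pi.add_apply]; ring)
      (fun t a a' => by simp only [Pi.smul_apply, Subfield.smul_def, smul_eq_mul]; ring)
      (fun a a' b => by simp only [Pi.add_apply]; ring)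
      (fun t a a' => by simp only [Pi.smul_apply, Subfield.smul_def, smul_eq_mul]; ring)
    have ts : ∀ (t : K) (v : V8), t • v = (t : F) • v := fun t v => rfl
    have pl : ∀ (t : F) (x y : V8), QuadraticMap.polar ⇑N8 (t • x) y = t * QuadraticMap.polar ⇑N8 x y :=
      fun t x y => QuadraticMap.polar_smul_left N8 t x y
    have pr : ∀ (t : F) (x y : V8), QuadraticMap.polar ⇑N8 x (t • y) = t * QuadraticMap.polar ⇑N8 x y :=
      fun t x y => QuadraticMap.polar_smul_right N8 t x y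
    let Mb : V8 → V8 →ₗ[K] V8 →ₗ[K] F := fun a => LinearMap.mk₂ K
      (fun b d => QuadraticMap.polar ⇑N8 a (omul (gMap h σ b) (bMap h h1 σ d)))
      (fun b b' d => by rw [gMap_add, Triality.omul_add_left, QuadraticMap.polar_add_right])
      (fun t b d => by rw [ts, gMap_smul, hfix, Triality.omul_smul_left, pr, Subfield.smul_def, smul_eq_mul])
      (fun b d d' => by rw [bMap_add, Triality.omul_add_right, QuadraticMap.polar_add_right])
      (fun t b d => by rw [ts, bMap_smul, hfix, hfix, Triality.omul_smul_right, pr, Subfield.smul_def, smul_eq_mul])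
    let M : V8 →ₗ[K] V8 →ₗ[K] V8 →ₗ[K] F :=
      { toFun := Mb
        map_add' := fun a a' => LinearMap.ext₂ fun b d => by
          simp only [Mb, LinearMap.mk₂_apply, LinearMap.add_apply, QuadraticMap.polar_add_left]
        map_smul' := fun t a => LinearMap.ext₂ fun b d => by
          simp only [Mb, LinearMap.mk₂_apply, LinearMap.smul_apply, RingHom.id_apply, ts, pl, Subfield.smul_def,
            smul_eq_mul] }
    obtain ⟨a, ha, h2a, h3a⟩ := exists_common_zero β M (by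
      rw [Module.finrank_pi_fintype, Finset.sum_const, Finset.card_univ, smul_eq_mul]
      have : 0 < Module.finrank K F := Module.finrank_pos
      simp only [Fintype.card_sum, Fintype.card_fin]
      omega)
    exact ⟨a, ha, by rw [N8_apply]; simpa [β] using h2a, by simpa [M, Mb] using h3a⟩
  suffices key : ∃ a : V8, a ≠ 0 ∧ N8 a = 0 ∧ omul (gMap h σ a) (bMap h h1 σ a) = 0 by
    obtain ⟨a, ha, hN, h0⟩ := key
    have e1 := hG a
    have e2 := hB a
    rw [h0] at e1 e2
    refine ⟨a, ha, hN, h0, ?_, ?_⟩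
    · have z : bMap h h1 σ (0 : V8) = 0 := by simpa using bMap_smul (h := h) (h1 := h1) (σ := σ) (0 : F) 0
      rw [z] at e2
      exact (smul_eq_zero.1 e2.symm).resolve_left
        (mul_ne_zero (by simpa using hμ) (mul_ne_zero (inv_ne_zero c.ne_zero) hμ))
    · have z : gMap h σ (0 : V8) = 0 := by simpa using gMap_smul (h := h) (σ := σ) (0 : F) 0
      rw [z] at e1
      exact (smul_eq_zero.1 e1.symm).resolve_left hμ
  by_cases h0 : omul (gMap h σ a) (bMap h h1 σ a) = 0
  · exact ⟨a, ha, hNa, h0⟩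
  refine ⟨_, h0, by rw [Triality.N8_omul, N8_gMap hNa, zero_mul], ?_⟩
  rw [hG, hB, Triality.omul_smul_left, Triality.omul_smul_right, Triality.moufang_middle, ← Triality.oconj_omul,
    Triality.omul_oconj_omul, hta, hNa, zero_smul, zero_smul, sub_zero, smul_zero, smul_zero]

/-- The existence of a triple of similarities carrying one triple of vectors to another. -/
def Move (a b c a' b' c' : V8) : Prop :=
  ∃ k k1 k2 : GO (plusForm F 4), Rel k k1 k2 ∧ ap k a = a' ∧ ap k1 b = b' ∧ ap k2 c = c'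

theorem Move.refl (a b c : V8) : Move a b c a b c :=
  ⟨1, 1, 1, Triality.rel_one, Triality.ap_one a, Triality.ap_one b, Triality.ap_one c⟩

theorem Move.trans {a b c a' b' c' a'' b'' c'' : V8} (m : Move a b c a' b' c') (n : Move a' b' c' a'' b'' c'') :
    Move a b c a'' b'' c'' := by
  obtain ⟨k, k1, k2, r, e, e1, e2⟩ := m
  obtain ⟨l, l1, l2, s, f, f1, f2⟩ := n
  exact ⟨_, _, _, s.mul r, by rw [Triality.ap_mul, e, f], by rw [Triality.ap_mul, e1, f1],
    by rw [Triality.ap_mul, e2, f2]⟩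

theorem move_lmul {v : V8} (hv : N8 v = 1) (a b c : V8) :
    Move a b c (omul v a) (omul v (omul b v)) (omul (oconj v) c) := by
  obtain ⟨L, hL⟩ := Triality.exists_go (Triality.lmul v) one_ne_zero fun x => by
    show N8 (omul v x) = _; rw [Triality.N8_omul, hv]
  obtain ⟨P, hP⟩ := Triality.exists_go ((Triality.lmul v).comp (Triality.rmul v)) one_ne_zero fun x => by
    show N8 (omul v (omul x v)) = _; rw [Triality.N8_omul, Triality.N8_omul, hv, mul_one]
  obtain ⟨M, hM⟩ := Triality.exists_go (Triality.lmul (oconj v)) one_ne_zero fun x => by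
    show N8 (omul (oconj v) x) = _; rw [Triality.N8_omul, Triality.N8_oconj, hv]
  refine ⟨L, P, M, fun p q => ?_, hL a, hP b, hM c⟩
  rw [hL, hP, hM]
  show omul v (omul p q) = omul (omul v (omul p v)) (omul (oconj v) q)
  rw [Triality.moufang_left, Triality.omul_oconj_cancel_left, hv, one_smul]

theorem move_bmul {v : V8} (hv : N8 v = 1) (a b c : V8) :
    Move a b c (omul v (omul a v)) (omul v b) (omul c v) := by
  obtain ⟨P, hP⟩ := Triality.exists_go ((Triality.lmul v).comp (Triality.rmul v)) one_ne_zero fun x => by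
    show N8 (omul v (omul x v)) = _; rw [Triality.N8_omul, Triality.N8_omul, hv, mul_one]
  obtain ⟨L, hL⟩ := Triality.exists_go (Triality.lmul v) one_ne_zero fun x => by
    show N8 (omul v x) = _; rw [Triality.N8_omul, hv]
  obtain ⟨R, hR⟩ := Triality.exists_go (Triality.rmul v) one_ne_zero fun x => by
    show N8 (omul x v) = _; rw [Triality.N8_omul, hv, mul_one, one_mul]
  refine ⟨P, L, R, fun p q => ?_, hP a, hL b, hR c⟩
  rw [hP, hL, hR]
  exact (Triality.moufang_middle v p q).symm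

theorem move_gap (g : Gm F) (a b c : V8) : Move a b c (gap g a) (gap g b) (gap g c) :=
  ⟨_, _, _, rel_toGO g, ap_toGO g a, ap_toGO g b, ap_toGO g c⟩

/-- The unit `1 + n` with `n` in the plane of the base point. -/
def vU (n1 n2 n3 : F) : V8 := Sum.elim ![1, n1, 0, 0] ![1, 0, n2, n3]

/-- The unit `1 + n` with `n` orthogonal to the base point. -/
def vW (p q : F) : V8 := Sum.elim ![1, 0, p, q] ![1, 0, 0, 0]

theorem N8_vU (n1 n2 n3 : F) : N8 (vU n1 n2 n3) = 1 := by rw [N8_apply]; simp [vU]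

theorem N8_vW (p q : F) : N8 (vW p q) = 1 := by rw [N8_apply]; simp [vW]

/-- The vectors of the first solid. -/
def sB (b0 b1 b2 b3 : F) : V8 := Sum.elim ![b0, b1, 0, 0] ![0, 0, b2, b3]

theorem smul_aZ (t : F) : t • (aZ : V8) = sB 0 t 0 0 := ext8 fun i => by fin_cases i <;> simp [sB]

theorem lU_aZ (n1 n2 n3 : F) : omul (vU n1 n2 n3) (aZ : V8) = aZ :=
  ext8 fun i => by fin_cases i <;> simp [vU, omul]

theorem pU_sB (n1 n2 n3 b0 b1 b2 b3 : F) : omul (vU n1 n2 n3) (omul (sB b0 b1 b2 b3) (vU n1 n2 n3)) =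
    sB b0 (b1 + b0 * n1) (b2 + b0 * n2) (b3 + b0 * n3) :=
  ext8 fun i => by fin_cases i <;> simp [vU, sB, omul] <;> (try constructor) <;> ring

theorem pU_aZ (n1 n2 n3 : F) : omul (vU n1 n2 n3) (omul (aZ : V8) (vU n1 n2 n3)) = aZ :=
  ext8 fun i => by fin_cases i <;> simp [vU, omul] <;> (try constructor) <;> ring

theorem pW_aZ (p q : F) : omul (vW p q) (omul (aZ : V8) (vW p q)) = aZ :=
  ext8 fun i => by fin_cases i <;> simp [vW, omul] <;> (try constructor) <;> ring

theorem lW_sB (p q b0 b1 b2 b3 : F) : omul (vW p q) (sB b0 b1 b2 b3) =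
    sB (b0 - (p * b2 + q * b3)) b1 (b2 - q * b1) (b3 + p * b1) :=
  ext8 fun i => by fin_cases i <;> simp [vW, sB, omul] <;> (try constructor) <;> ring

theorem move_second {b0 b1 b2 b3 : F} (h : sB b0 b1 b2 b3 ≠ (0 : V8)) (c : V8) :
    ∃ (t : F) (c' : V8), t ≠ 0 ∧ Move (aZ : V8) (sB b0 b1 b2 b3) c aZ (t • aZ) c' := by
  have step : ∀ (e0 e1 e2 e3 : F), e0 ≠ 0 → ∀ c, ∃ c', Move (aZ : V8) (sB e0 e1 e2 e3) c aZ ((1 : F) • aZ) c' := by
    intro e0 e1 e2 e3 he c
    have m1 := move_lmul (N8_vU ((1 - e1) / e0) ((1 - e2) / e0) ((-e3) / e0)) (aZ : V8) (sB e0 e1 e2 e3) c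
    rw [lU_aZ, pU_sB, mul_div_cancel₀ _ he, mul_div_cancel₀ _ he, mul_div_cancel₀ _ he, add_sub_cancel,
      add_sub_cancel, add_neg_cancel] at m1
    have m2 := move_bmul (N8_vW e0 0) (aZ : V8) (sB e0 1 1 0)
      (omul (oconj (vU ((1 - e1) / e0) ((1 - e2) / e0) ((-e3) / e0))) c)
    rw [pW_aZ, lW_sB] at m2
    have m3 := move_bmul (N8_vW (-e0) 1) (aZ : V8) (sB (e0 - (e0 * 1 + 0 * 0)) 1 (1 - 0 * 1) (0 + e0 * 1))
      (omul (omul (oconj (vU ((1 - e1) / e0) ((1 - e2) / e0) ((-e3) / e0))) c) (vW e0 0))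
    rw [pW_aZ, lW_sB] at m3
    refine ⟨omul (omul (omul (oconj (vU ((1 - e1) / e0) ((1 - e2) / e0) ((-e3) / e0))) c) (vW e0 0)) (vW (-e0) 1), ?_⟩
    convert (m1.trans m2).trans m3 using 1
    rw [smul_aZ]
    exact ext8 fun i => by fin_cases i <;> simp [sB]
  by_cases h0 : b0 ≠ 0
  · obtain ⟨c', m⟩ := step b0 b1 b2 b3 h0 c
    exact ⟨1, c', one_ne_zero, m⟩
  obtain rfl : b0 = 0 := not_not.1 h0
  by_cases h23 : b2 = 0 ∧ b3 = 0
  · obtain ⟨rfl, rfl⟩ := h23
    refine ⟨b1, c, fun e => h ?_, ?_⟩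
    · rw [e]; exact ext8 fun i => by fin_cases i <;> simp [sB]
    · rw [smul_aZ]; exact Move.refl _ _ _
  · obtain ⟨p, q, hpq⟩ : ∃ p q : F, p * b2 + q * b3 ≠ 0 := by
      by_contra H
      push Not at H
      exact h23 ⟨by simpa using H 1 0, by simpa using H 0 1⟩
    have m0 := move_bmul (N8_vW p q) (aZ : V8) (sB 0 b1 b2 b3) c
    rw [pW_aZ, lW_sB] at m0
    obtain ⟨c', m⟩ := step (0 - (p * b2 + q * b3)) b1 (b2 - q * b1) (b3 + p * b1)
      (by rw [zero_sub, neg_ne_zero]; exact hpq) (omul c (vW p q))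
    exact ⟨1, c', one_ne_zero, m0.trans m⟩

/-- A root element of `G₂` moving the base point. -/
def gShift (t : F) : Gm F := cyG * cyG * lG (uG t) (det_uG t) * cyG

theorem gap_gShift (t a2 a1 : F) : gap (gShift t) (sB 0 a1 a2 0) = sB 0 a1 (a2 + t * a1) 0 := by
  rw [gShift, gap_mul, gap_mul, gap_mul]
  simp only [gap_cyG]
  rw [← mk_px_py (cyLin (sB 0 a1 a2 0)), gap_lG]
  exact ext8 fun i => by
    fin_cases i <;> simp [cyLin, sB, mk, px, py, uG_val, Matrix.adjugate_fin_two, Matrix.mul_apply, Matrix.vecMul,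
      dotProduct, Fin.sum_univ_two] <;> (try constructor) <;> ring

theorem move_third (h3 : (3 : F) ≠ 0) {t c1 c2 c3 : F} (h : sB 0 c1 c2 c3 ≠ (0 : V8)) :
    ∃ s : F, s ≠ 0 ∧ Move (aZ : V8) (t • aZ) (sB 0 c1 c2 c3) aZ (t • aZ) (s • aZ) := by
  obtain ⟨d, hd, e2, hne⟩ : ∃ (d : GL (Fin 2) F) (hd : d.val.det = 1) (e2 : F),
      gap (pairG (pR d hd)) (sB 0 c1 c2 c3) = sB 0 c1 e2 0 ∧ gap (pairG (pR d hd)) (aZ : V8) = aZ := by
    have key : ∀ (d : GL (Fin 2) F) (hd : d.val.det = 1), d.val 0 0 * c3 + d.val 0 1 * c2 = 0 →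
        ∃ e2, gap (pairG (pR d hd)) (sB 0 c1 c2 c3) = sB 0 c1 e2 0 ∧ gap (pairG (pR d hd)) (aZ : V8) = aZ := by
      intro d hd he
      refine ⟨d.val 1 0 * c3 + d.val 1 1 * c2, ?_, ?_⟩
      · rw [← mk_px_py (sB 0 c1 c2 c3), gap_pairG]
        simp only [pR]
        rw [Matrix.eta_fin_two d.val]
        generalize d.val 0 0 = p, d.val 0 1 = q, d.val 1 0 = r, d.val 1 1 = w at he ⊢
        exact ext8 fun i => by
          fin_cases i <;> simp [sB, mk, px, py, Matrix.mul_apply, Fin.sum_univ_two]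
          all_goals (first | exact (by linear_combination he) | grind)
      · rw [← mk_px_py (aZ : V8), gap_pairG]
        exact ext8 fun i => by
          fin_cases i <;> simp [pR, mk, px, py, Matrix.mul_apply, Fin.sum_univ_two]
    by_cases h2 : c2 = 0
    · let d : GL (Fin 2) F := Matrix.GeneralLinearGroup.mkOfDetNeZero !![0, 1; -1, 0] (by simp [Matrix.det_fin_two])
      have hd : d.val.det = 1 := by
        show (!![0, 1; -1, 0] : M2).det = 1
        simp [Matrix.det_fin_two]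
      exact ⟨d, hd, key d hd (by
        show (!![0, 1; -1, 0] : M2) 0 0 * c3 + (!![0, 1; -1, 0] : M2) 0 1 * c2 = 0
        simp [h2])⟩
    · refine ⟨uG (-(c3 / c2)), det_uG _, key _ _ ?_⟩
      rw [uG_val]
      show (1 : F) * c3 + -(c3 / c2) * c2 = 0
      field_simp
      ring
  have m0 := move_gap (pairG (pR d hd)) (aZ : V8) (t • aZ) (sB 0 c1 c2 c3)
  rw [gap_smul, hne.2, hne.1] at m0
  have hne0 : sB 0 c1 e2 0 ≠ (0 : V8) := fun e => h (by
    rw [← gap_gap_inv (pairG (pR d hd)) (sB 0 c1 c2 c3), hne.1, e]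
    exact Matrix.mulVec_zero _)
  obtain ⟨f1, hf1, m1⟩ : ∃ f1, f1 ≠ 0 ∧ Move (aZ : V8) (t • aZ) (sB 0 c1 e2 0) aZ (t • aZ) (sB 0 f1 e2 0) := by
    by_cases h1 : c1 ≠ 0
    · exact ⟨c1, h1, Move.refl _ _ _⟩
    obtain rfl : c1 = 0 := not_not.1 h1
    have he2 : e2 ≠ 0 := fun e => hne0 (by rw [e]; exact ext8 fun i => by fin_cases i <;> simp [sB])
    have m := move_lmul (N8_vU 0 0 (-e2⁻¹)) (aZ : V8) (t • aZ) (sB 0 0 e2 0)
    rw [lU_aZ, Triality.omul_smul_left, Triality.omul_smul_right, pU_aZ] at m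
    refine ⟨1, one_ne_zero, ?_⟩
    have e : omul (oconj (vU 0 0 (-e2⁻¹))) (sB 0 0 e2 0) = sB 0 1 e2 0 :=
      ext8 fun i => by fin_cases i <;> simp [sB, vU, omul, oconj, he2]
    rwa [e] at m
  set ε := -e2 / (3 * f1)
  have hε : e2 + ε * f1 + ε * f1 + ε * f1 = 0 := by simp only [ε]; field_simp; ring
  have ha : (aZ : V8) = sB 0 1 0 0 := by rw [← smul_aZ, one_smul]
  have w1 := move_lmul (N8_vW 0 ε) (aZ : V8) (t • aZ) (sB 0 f1 e2 0)
  have a1 : omul (vW 0 ε) (aZ : V8) = sB 0 1 (-ε) 0 := by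
    rw [ha, lW_sB]; exact ext8 fun i => by fin_cases i <;> simp [sB]
  have c1' : omul (oconj (vW 0 ε)) (sB 0 f1 e2 0) = sB 0 f1 (e2 + ε * f1) 0 :=
    ext8 fun i => by fin_cases i <;> simp [sB, vW, omul, oconj] <;> (try constructor) <;> ring
  rw [a1, Triality.omul_smul_left, Triality.omul_smul_right, pW_aZ, c1'] at w1
  have w2 := move_bmul (N8_vW 0 ε) (sB 0 1 (-ε) 0) (t • aZ) (sB 0 f1 (e2 + ε * f1) 0)
  have a2 : omul (vW 0 ε) (omul (sB 0 1 (-ε) 0) (vW 0 ε)) = sB 0 1 (-ε) 0 :=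
    ext8 fun i => by fin_cases i <;> simp [sB, vW, omul] <;> (try constructor) <;> ring
  have c2' : omul (sB 0 f1 (e2 + ε * f1) 0) (vW 0 ε) = sB 0 f1 (e2 + ε * f1 + ε * f1) 0 :=
    ext8 fun i => by fin_cases i <;> simp [sB, vW, omul] <;> (try constructor) <;> ring
  rw [a2, Triality.omul_smul_right, a1, c2'] at w2
  have w3 := move_gap (gShift ε) (sB 0 1 (-ε) 0) (t • sB 0 1 (-ε) 0) (sB 0 f1 (e2 + ε * f1 + ε * f1) 0)
  rw [gap_smul, gap_gShift, gap_gShift, hε, mul_one, neg_add_cancel, ← ha, ← smul_aZ] at w3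
  exact ⟨f1, hf1, (((m0.trans m1).trans w1).trans w2).trans w3⟩

/-- Transitivity on singular points. -/
theorem move_first {a : V8} (ha : a ≠ 0) (hN : N8 a = 0) (b c : V8) :
    ∃ b' c', Move a b c (aZ : V8) b' c' := by
  have hZ : N8 (aZ : V8) = 0 := by rw [N8_apply]; simp
  let φ : (F ∙ a) →ₗ[F] V8 :=
    (LinearMap.toSpanSingleton F V8 aZ).comp (LinearEquiv.toSpanNonzeroSingleton F V8 a ha).symm.toLinearMap
  have hφ : ∀ t : F, φ ⟨t • a, Submodule.smul_mem _ t (Submodule.mem_span_singleton_self a)⟩ = t • aZ := fun t => by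
    simp only [φ, LinearMap.comp_apply, LinearEquiv.coe_coe, LinearMap.toSpanSingleton_apply]
    congr 1
    exact (LinearEquiv.symm_apply_eq _).2 (Subtype.ext rfl)
  have hex : ∀ x : F ∙ a, ∃ t : F, x = ⟨t • a, Submodule.smul_mem _ t (Submodule.mem_span_singleton_self a)⟩ :=
    fun x => by
    obtain ⟨t, ht⟩ := Submodule.mem_span_singleton.1 x.2
    exact ⟨t, Subtype.ext ht.symm⟩
  obtain ⟨g, hg⟩ := QForm.exists_act_extend Triality.nondeg8 (F ∙ a) φ
    (fun x y e => by
      obtain ⟨s, rfl⟩ := hex x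
      obtain ⟨t, rfl⟩ := hex y
      rw [hφ, hφ] at e
      simp only [smul_left_injective F (show (aZ : V8) ≠ 0 by simp) e])
    (fun x => by
      obtain ⟨t, rfl⟩ := hex x
      rw [hφ, QuadraticMap.map_smul, QuadraticMap.map_smul, hZ, hN])
  set G : GO N8 := ⟨g.1, ClassicalSimple.isometry_le_GO _ g.2⟩
  have hGa : ap G a = aZ := by
    have := hg ⟨(1 : F) • a, Submodule.smul_mem _ 1 (Submodule.mem_span_singleton_self a)⟩
    rw [hφ] at this
    simp only [one_smul] at this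
    exact this
  set R : GO N8 := AutPO.reflG (oone : V8) Triality.N8_oone_ne
  suffices hh : ∃ k : GO N8, k ∈ Triality.TG ∧ ap k a = aZ by
    obtain ⟨k, ⟨k1, k2, r⟩, hk⟩ := hh
    exact ⟨_, _, k, k1, k2, r, hk, rfl, rfl⟩
  rcases Triality.isometry_mem_or g with hm | hm
  · exact ⟨G, hm, hGa⟩
  · refine ⟨R * G, ?_, ?_⟩
    · obtain ⟨C, hC⟩ := Triality.exists_conjGO (F := F)
      obtain ⟨t1, t2, r⟩ := hm
      have e : R * G = C * (G * R) * C := Triality.ap_ext fun v => by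
        simp only [Triality.ap_mul, R, Triality.ap_reflG_oone, hC]
        rw [Triality.oconj_oconj, show ap G (-v) = -ap G v from Matrix.mulVec_neg v _, ← neg_one_smul F (ap G v),
          oconj_smul, neg_one_smul]
      exact e ▸ ⟨_, _, r.conj hC⟩
    · rw [Triality.ap_mul, hGa, Triality.ap_reflG_oone]
      exact ext8 fun i => by fin_cases i <;> simp [oconj]

/-- Transitivity on incident triples. -/
theorem exists_incident_move (h3 : (3 : F) ≠ 0) {a b c : V8} (ha : a ≠ 0) (hb : b ≠ 0) (hc : c ≠ 0) (hN : N8 a = 0)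
    (hbc : omul b c = 0) (hba : omul (oconj b) a = 0) (hac : omul a (oconj c) = 0) :
    ∃ k k1 k2 : GO (plusForm F 4), Rel k k1 k2 ∧ (∃ s : F, s ≠ 0 ∧ ap k a = s • aZ) ∧
      (∃ s : F, s ≠ 0 ∧ ap k1 b = s • aZ) ∧ ∃ s : F, s ≠ 0 ∧ ap k2 c = s • aZ := by
  obtain ⟨C, hC⟩ := Triality.exists_conjGO (F := F)
  have inc : ∀ {a b c a' b' c' : V8}, Move a b c a' b' c' → omul b c = 0 → omul (oconj b) a = 0 →
      omul a (oconj c) = 0 → b ≠ 0 → c ≠ 0 →
      omul b' c' = 0 ∧ omul (oconj b') a' = 0 ∧ omul a' (oconj c') = 0 ∧ b' ≠ 0 ∧ c' ≠ 0 := by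
    intro a b c a' b' c' m e1 e2 e3 hb hc
    obtain ⟨k, k1, k2, r, rfl, rfl, rfl⟩ := m
    obtain ⟨e, rs⟩ := r.swap hC
    refine ⟨by rw [← r, e1, ap_zero], ?_, ?_, fun z => hb (ap_eq_zero z), fun z => hc (ap_eq_zero z)⟩
    · obtain ⟨e', rs'⟩ := (r.conj hC).swap hC
      have h := rs' (oconj a) b
      simp only [Triality.ap_mul, Triality.ap_scalar, hC, Triality.oconj_oconj] at h
      rw [show omul (oconj a) b = oconj (omul (oconj b) a) by rw [Triality.oconj_omul, Triality.oconj_oconj], e2,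
        oconj_zero, oconj_zero, ap_zero, oconj_zero, smul_zero] at h
      rw [show omul (oconj (ap k1 b)) (ap k a) = oconj (omul (oconj (ap k a)) (ap k1 b)) by
        rw [Triality.oconj_omul, Triality.oconj_oconj], ← h, oconj_zero]
    · have h := rs a (oconj c)
      rw [e3, ap_zero, Triality.ap_mul, Triality.ap_mul, hC, hC, Triality.oconj_oconj] at h
      exact h.symm
  obtain ⟨b1, c1, m1⟩ := move_first ha hN b c
  obtain ⟨-, f2, -, hb1, hc1⟩ := inc m1 hbc hba hac hb hc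
  obtain ⟨p0, p1, p2, p3, rfl⟩ : ∃ p0 p1 p2 p3 : F, b1 = sB p0 p1 p2 p3 := by
    refine ⟨b1 (.inl 0), b1 (.inl 1), b1 (.inr 2), b1 (.inr 3), ?_⟩
    have a0' := congrFun f2 (.inl 1)
    have a1' := congrFun f2 (.inr 0)
    have a2' := congrFun f2 (.inr 2)
    have a3' := congrFun f2 (.inr 3)
    simp [omul, oconj] at a0' a1' a2' a3'
    exact ext8 fun i => by fin_cases i <;> simp [sB, *]
  obtain ⟨t, c2, ht, m2⟩ := move_second hb1 c1
  obtain ⟨g1, -, g3, -, hc2⟩ := inc (m1.trans m2) hbc hba hac hb hc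
  obtain ⟨q1, q2, q3, rfl⟩ : ∃ q1 q2 q3 : F, c2 = sB 0 q1 q2 q3 := by
    refine ⟨c2 (.inl 1), c2 (.inr 2), c2 (.inr 3), ?_⟩
    rw [Triality.omul_smul_left, smul_eq_zero, or_iff_right ht] at g1
    have a0' := congrFun g1 (.inl 1)
    have a1' := congrFun g1 (.inl 0)
    have a2' := congrFun g1 (.inr 2)
    have a3' := congrFun g1 (.inr 3)
    have b0' := congrFun g3 (.inl 1)
    simp [omul, oconj] at a0' a1' a2' a3' b0'
    exact ext8 fun i => by fin_cases i <;> simp [sB, *]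
  obtain ⟨s, hs, m3⟩ := move_third h3 (t := t) hc2
  obtain ⟨k, k1, k2, r, e, e1, e2⟩ := (m1.trans m2).trans m3
  exact ⟨k, k1, k2, r, ⟨1, one_ne_zero, by rw [e, one_smul]⟩, ⟨t, ht, e1⟩, s, hs, e2⟩

end Cfsg.Agent.TrialityBalance
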