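import Cfsg.Agent.Lib.TrialityBalance.Model

/-!
Semilinear automorphisms of the split octonions: norm, conjugation, and rigidity.
-/

set_option autoImplicit false

namespace Cfsg.Agent.TrialityBalance

open scoped Matrix MatrixGroups
open Matrix (adjugate det)
open Triality (omul oconj oone N8_apply ext8)
open QForm (plusForm)

variable {F : Type*} [Field F]

local notation "I8" => (Fin 4 ⊕ Fin 4)
local notation "V8" => (Fin 4 ⊕ Fin 4 → F)
local notation "N8" => plusForm F 4
local notation "M2" => Matrix (Fin 2) (Fin 2) F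

/-- A semilinear automorphism of the octonions. -/
structure IsSOct (T : V8 → V8) (τ : F ≃+* F) : Prop where
  inj : Function.Injective T
  add : ∀ u v, T (u + v) = T u + T v
  smul : ∀ (a : F) v, T (a • v) = τ a • T v
  mul : ∀ u v, T (omul u v) = omul (T u) (T v)

theorem isSOct_gap (g : Gm F) : IsSOct (gap g) 1 :=
  ⟨fun u v h => by simpa [gap_gap_inv] using congrArg (gap g⁻¹) h, gap_add g, fun a v => gap_smul g a v, gap_omul g⟩

/-- The trace. -/
def trF (v : V8) : F := v (.inl 0) + v (.inr 0)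

theorem adj_adj (X : M2) : adjugate (adjugate X) = X := by
  ext i j; fin_cases i <;> fin_cases j <;> simp [Matrix.adjugate_fin_two]

theorem omul_self (v : V8) : omul v v = trF v • v - N8 v • oone :=
  ext8 fun i => by fin_cases i <;> simp [omul, oone, trF, N8_apply] <;> constructor <;> ring

theorem oconj_eq (v : V8) : oconj v = trF v • oone - v :=
  ext8 fun i => by fin_cases i <;> simp [oconj, oone, trF]

theorem oone_ne : (oone : V8) ≠ 0 := fun h => by simpa [oone] using congrFun h (Sum.inl 0)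

section SOct

variable {T : (Fin 4 ⊕ Fin 4 → F) → (Fin 4 ⊕ Fin 4 → F)} {τ : F ≃+* F} (hT : IsSOct T τ)
include hT

theorem IsSOct.zero : T 0 = 0 := by simpa using hT.smul 0 0

theorem IsSOct.sub (u v : V8) : T (u - v) = T u - T v := eq_sub_of_add_eq (by rw [← hT.add, sub_add_cancel])

theorem IsSOct.map_oone [Finite F] : T oone = oone := by
  have hs : Function.Surjective T := Finite.injective_iff_surjective.1 hT.inj
  have h : ∀ v, omul (T oone) v = v := fun v => by
    obtain ⟨w, rfl⟩ := hs v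
    rw [← hT.mul, Triality.oone_omul]
  have := h oone
  rwa [Triality.omul_oone] at this

theorem IsSOct.map_tr_norm [Finite F] (v : V8) : trF (T v) = τ (trF v) ∧ N8 (T v) = τ (N8 v) := by
  by_cases h : ∃ a : F, v = a • oone
  · obtain ⟨a, rfl⟩ := h
    rw [hT.smul, hT.map_oone]
    constructor
    · simp [trF, oone, map_add]
    · rw [QuadraticMap.map_smul, QuadraticMap.map_smul, Triality.N8_oone, smul_eq_mul, smul_eq_mul, mul_one,
        mul_one, map_mul]
  · have e := congrArg T (omul_self v)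
    rw [hT.mul, omul_self, hT.sub, hT.smul, hT.smul, hT.map_oone] at e
    have e' : (trF (T v) - τ (trF v)) • T v = (N8 (T v) - τ (N8 v)) • oone := by
      linear_combination (norm := module) e
    have h0 : trF (T v) - τ (trF v) = 0 := by
      by_contra hne
      set b := (trF (T v) - τ (trF v))⁻¹ * (N8 (T v) - τ (N8 v))
      refine h ⟨τ.symm b, hT.inj ?_⟩
      rw [hT.smul, hT.map_oone, RingEquiv.apply_symm_apply, ← smul_smul, ← e', inv_smul_smul₀ hne]
    rw [h0, zero_smul] at e'
    exact ⟨sub_eq_zero.1 h0, sub_eq_zero.1 ((smul_eq_zero.1 e'.symm).resolve_right oone_ne)⟩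

theorem IsSOct.map_oconj [Finite F] (v : V8) : T (oconj v) = oconj (T v) := by
  rw [oconj_eq, oconj_eq, hT.sub, hT.smul, hT.map_oone, (hT.map_tr_norm v).1]

end SOct

/-- The generators of order three. -/
def eG : GL (Fin 2) F :=
  ⟨ee, ee * ee, by rw [← mul_assoc]; exact ee_cube, ee_cube⟩

theorem eG_val : ((eG : GL (Fin 2) F) : M2) = ee := rfl

theorem eG_inv_val : ((eG⁻¹ : GL (Fin 2) F) : M2) = ee * ee := rfl

/-- The unipotent elements. -/
def uG (a : F) : GL (Fin 2) F :=
  ⟨!![1, a; 0, 1], !![1, -a; 0, 1], by ext i j; fin_cases i <;> fin_cases j <;> simp,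
    by ext i j; fin_cases i <;> fin_cases j <;> simp⟩

theorem uG_val (a : F) : ((uG a : GL (Fin 2) F) : M2) = !![1, a; 0, 1] := rfl

theorem eG_cube : (eG : GL (Fin 2) F) ^ 3 = 1 := Units.ext (by
  rw [Units.val_pow_eq_pow_val, pow_succ, pow_two]; exact ee_cube)

/-- An element of determinant one as a pair. -/
def pL (c : GL (Fin 2) F) (hc : c.val.det = 1) : Pair F := ⟨(c, 1), show c.val.det = (1 : GL (Fin 2) F).val.det by
  rw [hc, Units.val_one, Matrix.det_one]⟩

/-- An element of determinant one as a pair, on the right. -/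
def pR (d : GL (Fin 2) F) (hd : d.val.det = 1) : Pair F := ⟨(1, d), show (1 : GL (Fin 2) F).val.det = d.val.det by
  rw [hd, Units.val_one, Matrix.det_one]⟩

theorem det_eG : ((eG : GL (Fin 2) F) : M2).det = 1 := det_ee

theorem det_uG (a : F) : ((uG a : GL (Fin 2) F) : M2).det = 1 := by simp [uG_val, Matrix.det_fin_two]

/-- The element `(c, 1)`. -/
def lG (c : GL (Fin 2) F) (hc : c.val.det = 1) : Gm F := pairG (pL c hc)

theorem gap_lG (c : GL (Fin 2) F) (hc : c.val.det = 1) (X Y : M2) :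
    gap (lG c hc) (mk X Y) = mk (c.val * X * adjugate c.val) (Y * adjugate c.val) := by
  rw [lG, gap_pairG, adj_GL, hc, one_smul]
  show mk _ ((1 : GL (Fin 2) F).val * Y * _) = _
  rw [Units.val_one, one_mul]
  rfl

/-- The element of order three fixing `F[ee]` pointwise. -/
def zP : Gm F := lG eG det_eG

/-- The element of order three fixing the quaternions pointwise. -/
def tP : Gm F := pairG (pR eG det_eG)

theorem gap_zP (X Y : M2) : gap zP (mk X Y) = mk (ee * X * adjugate ee) (Y * adjugate ee) := gap_lG _ _ X Y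

theorem gap_tP (X Y : M2) : gap tP (mk X Y) = mk X (ee * Y) := by
  rw [tP, gap_pairG]
  show mk ((1 : GL (Fin 2) F).val * X * ((1 : GL (Fin 2) F)⁻¹).val)
    ((eG : GL (Fin 2) F).val * Y * ((1 : GL (Fin 2) F)⁻¹).val) = _
  rw [inv_one, Units.val_one, one_mul, mul_one, mul_one, eG_val]

theorem zP_formula (v : V8) : gap zP v = omul (omul (mk ee 0) v) (mk (adjugate ee) 0) := by
  rw [← mk_px_py v, gap_zP, omul_mk, omul_mk]
  simp only [Matrix.adjugate_zero, mul_zero, zero_mul, add_zero, zero_add]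
  congr 1
  rw [show adjugate (adjugate (ee : M2)) = ee from by
    simp [Matrix.adjugate_adjugate _ (show Fintype.card (Fin 2) ≠ 1 by simp)], mul_assoc, adj_ee]
  congr 1
  ext i j; fin_cases i <;> fin_cases j <;> simp [ee]

theorem commute_zP {T : V8 → V8} {τ : F ≃+* F} (hT : IsSOct T τ) (he : T (mk ee 0) = mk ee 0) [Finite F]
    (v : V8) : T (gap zP v) = gap zP (T v) := by
  have hadj : T (mk (adjugate ee) 0) = mk (adjugate ee) 0 := by
    have := hT.map_oconj (mk ee 0)
    rwa [oconj_mk, neg_zero, he, oconj_mk, neg_zero] at this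
  rw [zP_formula, zP_formula, hT.mul, hT.mul, he, hadj]

variable (h3 : (3 : F) ≠ 0)

include h3 in
theorem eq_zero_of_ee (Y : M2) (h : ee * Y = Y) : Y = 0 := by
  have e1 : (3 : F) • Y = 0 := by
    have h2 : ee * (ee * Y) = Y := by rw [h, h]
    rw [← mul_assoc, ee_sq, Matrix.sub_mul, Matrix.neg_mul, one_mul, h] at h2
    linear_combination (norm := module) -h2
  exact (smul_eq_zero.1 e1).resolve_left h3

include h3 in
theorem fix_tP {v : V8} (h : gap tP v = v) : v = mk (px v) 0 := by
  have e := h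
  rw [← mk_px_py v, gap_tP] at e
  conv_lhs => rw [← mk_px_py v, eq_zero_of_ee h3 _ (mk_inj e).2]

include h3 in
theorem fix_zP {v : V8} (h : gap zP v = v) : ∃ p q : F, v = mk (p • 1 + q • ee) 0 := by
  have e := h
  rw [← mk_px_py v, gap_zP] at e
  obtain ⟨e1, e2⟩ := mk_inj e
  set X := px v
  set Y := py v
  have hY : Y = 0 := by
    have e4 : adjugate Y = adjugate (Y * adjugate ee) := by rw [e2]
    rw [Matrix.adjugate_mul_distrib, Matrix.adjugate_adjugate _ (show Fintype.card (Fin 2) ≠ 1 by simp)] at e4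
    have := eq_zero_of_ee h3 _ (by simpa using e4.symm)
    have h2 := congrArg adjugate this
    simpa [Matrix.adjugate_adjugate _ (show Fintype.card (Fin 2) ≠ 1 by simp)] using h2
  have hc : ee * X = X * ee := by
    have := congrArg (· * ee) e1
    rwa [mul_assoc, adj_mul, det_ee, one_smul, mul_one] at this
  refine ⟨X 0 0, X 1 0, ?_⟩
  rw [← mk_px_py v]
  show mk X Y = _
  rw [hY]
  congr 1
  have h00 := congrFun (congrFun hc 0) 0
  have h10 := congrFun (congrFun hc 1) 0
  simp [ee, Matrix.mul_apply, Fin.sum_univ_two] at h00 h10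
  ext i j; fin_cases i <;> fin_cases j <;> simp [ee] <;> grind

theorem sl_gen (X : M2) : ∃ a b c d : F,
    X = a • 1 + b • (ee : M2) + c • ((uG (1 : F)).val - 1) + d • (ee * ((uG (1 : F)).val - 1)) :=
  ⟨X 0 0, X 1 0, X 0 1 + X 1 0, X 1 1 - X 0 0 + X 1 0, by
    ext i j; fin_cases i <;> fin_cases j <;> simp [ee, uG_val, Matrix.mul_apply, Matrix.vecMul, dotProduct, Fin.sum_univ_two] <;> ring⟩

include h3 in
theorem map_left {T : V8 → V8} (hTt : ∀ v, T (gap tP v) = gap tP (T v)) (X : M2) :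
    T (mk X 0) = mk (px (T (mk X 0))) 0 := by
  refine fix_tP h3 ?_
  rw [← hTt, gap_tP, mul_zero]

include h3 in
theorem map_right {T : V8 → V8} {τ : F ≃+* F} (hT : IsSOct T τ) (hTt : ∀ v, T (gap tP v) = gap tP (T v))
    (Y : M2) : T (mk 0 Y) = mk 0 (py (T (mk 0 Y))) := by
  set W : M2 := (3 : F)⁻¹ • (adjugate ee * Y - Y)
  have hY : ee * W - W = Y := by
    ext i j
    fin_cases i <;> fin_cases j <;>
      simp [W, ee, Matrix.adjugate_fin_two, Matrix.mul_apply, Matrix.vecMul, dotProduct, Fin.sum_univ_two] <;> field_simp <;> ring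
  have e : mk 0 Y = gap tP (mk 0 W) - mk 0 W := by
    rw [gap_tP, eq_sub_iff_add_eq, ← mk_add, add_zero, ← hY, sub_add_cancel]
  have hx : px (T (mk 0 Y)) = 0 := by
    rw [e, hT.sub, hTt]
    obtain ⟨A, B, hAB⟩ : ∃ A B, T (mk 0 W) = mk A B := ⟨_, _, (mk_px_py _).symm⟩
    rw [hAB, gap_tP]
    ext i j; fin_cases i <;> fin_cases j <;> simp [mk, px]
  conv_lhs => rw [← mk_px_py (T (mk 0 Y)), hx]

include h3 in
/-- Commuting with `(c, 1)` and `(1, ee)` forces fixing `c`. -/
theorem map_fixed [Finite F] {T : V8 → V8} {τ : F ≃+* F} (hT : IsSOct T τ)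
    (hTt : ∀ v, T (gap tP v) = gap tP (T v)) {c : GL (Fin 2) F} (hc : c.val.det = 1)
    (hTc : ∀ v, T (gap (lG c hc) v) = gap (lG c hc) (T v)) : T (mk c.val 0) = mk c.val 0 := by
  obtain ⟨A, hA⟩ : ∃ A, T (mk c.val 0) = mk A 0 := ⟨_, map_left (T := T) h3 hTt _⟩
  have hs : Function.Surjective T := Finite.injective_iff_surjective.1 hT.inj
  obtain ⟨w, hw⟩ := hs (mk 0 1)
  have hw' : w = mk 0 (py w) := by
    have e : T w = T (mk 0 (py w)) + T (mk (px w) 0) := by
      rw [← hT.add, ← mk_add, zero_add, add_zero, mk_px_py]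
    rw [hw, map_right h3 hT hTt, map_left (T := T) h3 hTt, ← mk_add, zero_add, add_zero] at e
    have h0 : T (mk (px w) 0) = 0 := by
      rw [map_left (T := T) h3 hTt, ← (mk_inj e).1]
      exact ext8 fun i => by fin_cases i <;> simp [mk]
    have := hT.inj (h0.trans hT.zero.symm)
    conv_lhs => rw [← mk_px_py w, show px w = 0 from by rw [← px_mk (px w) 0, this]; ext i j; fin_cases i <;>
      fin_cases j <;> simp [px]]
  have e := hTc w
  rw [hw, gap_lG, hw', gap_lG, mul_zero, zero_mul, one_mul] at e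
  have e2 : mk 0 (py w * adjugate c.val) = omul (mk 0 (py w)) (mk c.val 0) := by
    rw [omul_mk]; simp
  rw [e2, hT.mul, ← hw', hw, hA, omul_mk] at e
  have e3 : adjugate A = adjugate c.val := by simpa using (mk_inj e).2
  have e4 := congrArg adjugate e3
  rw [adj_adj, adj_adj] at e4
  rw [hA, e4]

include h3 in
/-- A semilinear automorphism fixing the quaternions and their image under `gam`. -/
theorem eq_id_of_fix {T : V8 → V8} {τ : F ≃+* F} (hT : IsSOct T τ) (h1 : ∀ X, T (mk X 0) = mk X 0)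
    (h2 : ∀ X, T (gap (gam h3) (mk X 0)) = gap (gam h3) (mk X 0)) : ∀ v, T v = v := by
  have hl : gap (gam h3) (mk jj 0) = mk 0 (1 : M2) := by
    rw [gap_gam]
    refine ext8 fun i => ?_
    fin_cases i <;> simp [gamLin, mk, dec, px, py, ee, jj] <;> (try constructor) <;> field_simp <;> ring
  intro v
  have e : mk 0 (py v) = omul (mk (py v) 0) (mk 0 (1 : M2)) := by rw [omul_mk]; simp
  conv_lhs => rw [← mk_px_py v, ← add_zero (px v), ← zero_add (py v), mk_add, hT.add, h1, e, hT.mul, h1, ← hl, h2,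
    hl, ← e, ← mk_add, add_zero, zero_add, mk_px_py]

/-- A linear automorphism fixing `ee` and the unipotent element fixes the quaternions pointwise. -/
theorem fix_quat_of [Finite F] {T : V8 → V8} {τ : F ≃+* F} (hT : IsSOct T τ)
    (fe : T (mk ee 0) = mk ee 0) (fu : T (mk (uG (1 : F)).val 0) = mk (uG (1 : F)).val 0) (hτ : τ = 1) :
    ∀ X, T (mk X 0) = mk X 0 := by
  have f1 : T (mk 1 0) = mk 1 0 := by rw [← oone_eq, hT.map_oone]
  have fn : T (mk ((uG (1 : F)).val - 1) 0) = mk ((uG (1 : F)).val - 1) 0 := by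
    rw [show mk ((uG (1 : F)).val - 1) 0 = mk (uG (1 : F)).val 0 - mk 1 0 by
      rw [eq_sub_iff_add_eq, ← mk_add, sub_add_cancel, add_zero], hT.sub, fu, f1]
  have fen : T (mk (ee * ((uG (1 : F)).val - 1)) 0) = mk (ee * ((uG (1 : F)).val - 1)) 0 := by
    rw [show mk (ee * ((uG (1 : F)).val - 1)) 0 = omul (mk ee 0) (mk ((uG (1 : F)).val - 1) 0) by
      rw [omul_mk]; simp, hT.mul, fe, fn]
  intro X
  obtain ⟨a, b, c, d, rfl⟩ := sl_gen X
  have key : ∀ (r : F) (Z : M2), mk (r • Z) 0 = r • mk Z 0 := fun r Z => by rw [← mk_smul, smul_zero]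
  have hadd : ∀ (Z W : M2), mk (Z + W) 0 = mk Z 0 + mk W 0 := fun Z W => by rw [← mk_add, add_zero]
  simp only [hadd, key, hT.add, hT.smul, hτ, RingAut.one_apply, f1, fe, fn, fen]

include h3 in
/-- A linear automorphism commuting with the rational generators fixes the quaternions pointwise. -/
theorem fix_quat [Finite F] {T : V8 → V8} {τ : F ≃+* F} (hT : IsSOct T τ)
    (hTt : ∀ v, T (gap tP v) = gap tP (T v)) (hTe : ∀ v, T (gap zP v) = gap zP (T v))
    (hTu : ∀ v, T (gap (lG (uG 1) (det_uG 1)) v) = gap (lG (uG 1) (det_uG 1)) (T v)) (hτ : τ = 1) :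
    ∀ X, T (mk X 0) = mk X 0 :=
  fix_quat_of hT (map_fixed h3 hT hTt det_eG hTe) (map_fixed h3 hT hTt (det_uG 1) hTu) hτ

include h3 in
/-- Commuting with `zP` forces fixing `ee`. -/
theorem map_ee [Finite F] {T : V8 → V8} {τ : F ≃+* F} (hT : IsSOct T τ)
    (hTe : ∀ v, T (gap zP v) = gap zP (T v)) : T (mk ee 0) = mk ee 0 := by
  have hf : gap zP (T (mk ee 0)) = T (mk ee 0) := by
    rw [← hTe, gap_zP, mul_assoc, mul_adj, det_ee, one_smul, mul_one, zero_mul]
  obtain ⟨p, q, hpq⟩ := fix_zP h3 hf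
  set A : M2 := p • 1 + q • ee
  obtain ⟨w, hw⟩ := Finite.injective_iff_surjective.1 hT.inj (mk 0 1)
  have hadj : T (mk (adjugate ee) 0) = mk (adjugate A) 0 := by
    have := hT.map_oconj (mk ee 0)
    rwa [oconj_mk, neg_zero, hpq, oconj_mk, neg_zero] at this
  have e := hTe w
  rw [zP_formula, hT.mul, hT.mul, hpq, hadj, hw, gap_zP, omul_mk, omul_mk] at e
  simp only [Matrix.adjugate_zero, mul_zero, zero_mul, add_zero, zero_add, adj_adj, one_mul] at e
  have e2 : A * A = adjugate ee := (mk_inj e).2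
  have he2 : mk (ee * ee) 0 = -mk (1 : M2) 0 - mk ee 0 := by
    rw [ee_sq]
    exact ext8 fun i => by fin_cases i <;> simp [mk]
  have e3 : T (mk (ee * ee) 0) = mk (A * A) 0 := by
    rw [show mk ((ee : M2) * ee) 0 = omul (mk ee 0) (mk ee 0) by rw [omul_mk]; simp, hT.mul, hpq, omul_mk]
    simp
  rw [he2, hT.sub, ← oone_eq, show (-oone : V8) = (-1 : F) • oone from (neg_one_smul F _).symm, hT.smul,
    hT.map_oone, hpq, map_neg, map_one, e2] at e3
  rw [hpq]
  refine ext8 fun i => ?_
  have := congrFun e3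
  fin_cases i <;> simp [mk, oone, ee, A, Matrix.adjugate_fin_two] at this ⊢ <;>
    have h0 := this.1 (0 : Fin 4) <;> have h0' := this.2 (0 : Fin 4) <;> have h1 := this.1 (1 : Fin 4) <;>
    have h1' := this.2 (1 : Fin 4) <;> simp at h0 h0' h1 h1' <;> grind

include h3 in
/-- The field part is trivial if moreover all the unipotent elements are centralised. -/
theorem field_one [Finite F] {T : V8 → V8} {τ : F ≃+* F} (hT : IsSOct T τ)
    (hTt : ∀ v, T (gap tP v) = gap tP (T v)) {a : F}
    (hTu : ∀ b ∈ ({1, a} : Set F), ∀ v, T (gap (lG (uG b) (det_uG b)) v) = gap (lG (uG b) (det_uG b)) (T v)) :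
    τ a = a := by
  have f1 : T (mk 1 0) = mk 1 0 := by rw [← oone_eq, hT.map_oone]
  have fn : ∀ b ∈ ({1, a} : Set F), T (b • mk ((uG (1 : F)).val - 1) 0) = b • mk ((uG (1 : F)).val - 1) 0 := by
    intro b hb
    rw [show b • mk ((uG (1 : F)).val - 1) 0 = mk (uG b).val 0 - mk 1 0 by
      rw [← mk_smul, smul_zero, eq_sub_iff_add_eq, ← mk_add, add_zero]
      congr 1
      ext i j; fin_cases i <;> fin_cases j <;> simp [uG_val], hT.sub, map_fixed h3 hT hTt (det_uG b) (hTu b hb), f1]
  have e := fn a (by simp)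
  rw [hT.smul, show T (mk ((uG (1 : F)).val - 1) 0) = mk ((uG (1 : F)).val - 1) 0 by
    simpa using fn 1 (by simp)] at e
  have := congrFun e (Sum.inl 1)
  simpa [mk, uG_val] using this

end Cfsg.Agent.TrialityBalance
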